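import Cfsg.Agent.Lib.A8Type.Model

/-!
Linear maps of the elementary abelian group of order 16 as tables, and the few checks on them: the tables come
from a search outside Lean and are re-checked here.
-/

set_option autoImplicit false
set_option maxRecDepth 20000

namespace Cfsg.Agent.A8Type.Tab

open Cfsg.Agent.A8Type

/-- The value of a table at a code of `A`. -/
def app (t : List ℕ) (a : ℕ) : ℕ := t.getD (a / 2) 0

/-- The composition of two tables. -/
def comp (t u : List ℕ) : List ℕ := Model.aL.map fun a => app t (app u a)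

/-- The table of the identity. -/
def one : List ℕ := Model.aL

/-- The linear table with the given images of the codes 2, 4, 8, 16. -/
def mk4 (i j k l : ℕ) : List ℕ := Model.aL.map fun a =>
  Nat.xor (Nat.xor (Model.bit 1 a * i) (Model.bit 2 a * j)) (Nat.xor (Model.bit 3 a * k) (Model.bit 4 a * l))

/-- The conjugation by an element of the Sylow subgroup. -/
def sTab (g : ℕ) : List ℕ := Model.aL.map (Model.cj g)

/-- The tables of the Sylow subgroup. -/
def vL : List (List ℕ) := [one, sTab 1, sTab 32, sTab 33]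

/-- A table which the normalizer of `A` cannot realize. -/
def forb (t : List ℕ) : Bool :=
  (comp t t != one && comp (comp t t) (comp t t) == one) ||
    (comp t t == one && !vL.contains t && comp t (sTab 1) == comp (sTab 1) t &&
      comp t (sTab 32) == comp (sTab 32) t)

/-- The product of a word in the generators. -/
def word (gs : List (List ℕ)) (w : List ℕ) : List ℕ :=
  w.foldr (fun i x => comp ((sTab 1 :: sTab 32 :: gs).getD i one) x) one

/-- Some of the words give a table which cannot occur. -/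
def bad (gs : List (List ℕ)) (ws : List (List ℕ)) : Bool := ws.any fun w => forb (word gs w)

/-- The codes of the basis. -/
def basis : List ℕ := [2, 4, 8, 16]

/-- The central pair code of each of the three involutions of `S / A`. -/
def pairOf (g : ℕ) : ℕ := if g = 1 then 2 else if g = 32 then 16 else 18

/-- The elements of order three moving `z` and commuting with the involution. -/
def fL (g : ℕ) : List (List ℕ) :=
  if g = 1 then [[0, 6, 2, 4, 24, 30, 26, 28, 8, 14, 10, 12, 16, 22, 18, 20], [0, 6, 2, 4, 30, 24, 28, 26, 12, 10, 14, 8, 18, 20, 16, 22]]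
  else if g = 32 then [[0, 8, 16, 24, 10, 2, 26, 18, 20, 28, 4, 12, 30, 22, 14, 6], [0, 12, 16, 28, 30, 18, 14, 2, 20, 24, 4, 8, 10, 6, 26, 22]]
  else [[0, 10, 18, 24, 2, 8, 16, 26, 28, 22, 14, 4, 30, 20, 12, 6], [0, 14, 18, 28, 16, 30, 2, 12, 24, 22, 10, 4, 8, 6, 26, 20]]

/-- The elements of order three fixing the pair code of the involution. -/
def yL (g : ℕ) : List (List ℕ) :=
  if g = 1 then [[0, 2, 24, 26, 8, 10, 16, 18, 22, 20, 14, 12, 30, 28, 6, 4], [0, 2, 24, 26, 20, 22, 12, 14, 10, 8, 18, 16, 30, 28, 6, 4], [0, 2, 26, 24, 8, 10, 18, 16, 22, 20, 12, 14, 30, 28, 4, 6], [0, 2, 26, 24, 22, 20, 12, 14, 8, 10, 18, 16, 30, 28, 4, 6], [0, 2, 28, 30, 8, 10, 20, 22, 14, 12, 18, 16, 6, 4, 26, 24], [0, 2, 28, 30, 16, 18, 12, 14, 22, 20, 10, 8, 6, 4, 26, 24], [0, 2, 30, 28, 8, 10, 22, 20, 12, 14, 18, 16, 4, 6, 26, 24], [0, 2, 30, 28, 18, 16, 12, 14, 22, 20, 8, 10, 4, 6, 26, 24]]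
  else if g = 32 then [[0, 8, 26, 18, 22, 30, 12, 4, 16, 24, 10, 2, 6, 14, 28, 20], [0, 12, 30, 18, 8, 4, 22, 26, 16, 28, 14, 2, 24, 20, 6, 10], [0, 22, 10, 28, 8, 30, 2, 20, 16, 6, 26, 12, 24, 14, 18, 4], [0, 22, 14, 24, 2, 20, 12, 26, 16, 6, 30, 8, 18, 4, 28, 10], [0, 22, 26, 12, 8, 30, 18, 4, 16, 6, 10, 28, 24, 14, 2, 20], [0, 22, 30, 8, 18, 4, 12, 26, 16, 6, 14, 24, 2, 20, 28, 10], [0, 24, 10, 18, 6, 30, 12, 20, 16, 8, 26, 2, 22, 14, 28, 4], [0, 28, 14, 18, 8, 20, 6, 26, 16, 12, 30, 2, 24, 4, 22, 10]]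
  else [[0, 10, 26, 16, 30, 20, 4, 14, 24, 18, 2, 8, 6, 12, 28, 22], [0, 14, 30, 16, 4, 10, 26, 20, 28, 18, 2, 12, 24, 22, 6, 8], [0, 20, 8, 28, 30, 10, 22, 2, 6, 18, 14, 26, 24, 12, 16, 4], [0, 20, 12, 24, 22, 2, 26, 14, 6, 18, 10, 30, 16, 4, 28, 8], [0, 20, 26, 14, 30, 10, 4, 16, 6, 18, 28, 8, 24, 12, 2, 22], [0, 20, 30, 10, 4, 16, 26, 14, 6, 18, 24, 12, 2, 22, 28, 8], [0, 24, 8, 16, 30, 6, 22, 14, 10, 18, 2, 26, 20, 12, 28, 4], [0, 28, 12, 16, 22, 10, 26, 6, 14, 18, 2, 30, 24, 4, 20, 8]]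

/-- The elements of order three fixing `z` and permuting the three involutions cyclically. -/
def rL : List (List ℕ) := [[0, 16, 4, 20, 8, 24, 12, 28, 22, 6, 18, 2, 30, 14, 26, 10], [0, 16, 4, 20, 24, 8, 28, 12, 18, 2, 22, 6, 10, 26, 14, 30], [0, 20, 4, 16, 10, 30, 14, 26, 18, 6, 22, 2, 24, 12, 28, 8], [0, 20, 4, 16, 30, 10, 26, 14, 22, 2, 18, 6, 8, 28, 12, 24]]

/-- The two orbits of length four of the Sylow subgroup on `A`. -/
def fours : List (List ℕ) := [[8, 10, 24, 30], [12, 14, 26, 28]]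

theorem move_facts : ∀ g ∈ [1, 32, 33], ∀ i ∈ Model.aL, ∀ k ∈ Model.aL, ∀ l ∈ Model.aL,
    let t := mk4 i (pairOf g) k l
    (∀ b ∈ basis, app t (Model.cj g b) = Model.cj g (app t b)) → 16 = t.toFinset.card →
      bad [t] [[2], [1, 2], [2, 0]] = true ∨ ∃ v ∈ vL, comp t v ∈ fL g := by
  decide +kernel

theorem triple_facts : ∀ f ∈ fL 1, ∀ g ∈ fL 32, ∀ h ∈ fL 33,
    bad [f, g, h] [[2, 1, 3], [3, 4, 1], [0, 2, 4]] = true := by
  decide +kernel

theorem orbit_facts : ∀ g ∈ [1, 32, 33], ∀ f ∈ fL g, ∀ a ∈ Model.aL, a ≠ 0 →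
    ∃ u ∈ vL, ∃ v ∈ [one, f, comp f f], ∃ w ∈ vL, app (comp u (comp v w)) a ∈ Model.tL := by
  decide +kernel

theorem rot_facts : ∀ r ∈ rL, ∀ g ∈ [1, 32, 33], ∀ f ∈ fL g,
    bad [r, f] [[2, 3, 2, 3, 2, 0], [2, 3, 2, 3, 0, 2]] = true := by
  decide +kernel

theorem rot_complete : ∀ i ∈ Model.aL, ∀ k ∈ Model.aL, ∀ l ∈ Model.aL,
    let t := mk4 i 4 k l
    (∀ b ∈ basis, app t (Model.cj 1 b) = Model.cj 32 (app t b) ∧ app t (Model.cj 32 b) = Model.cj 33 (app t b) ∧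
      app t (app t (app t b)) = b) → t ∈ rL := by
  decide +kernel

theorem stab_pair : ∀ g ∈ [1, 32, 33], ∀ y ∈ yL g, ∀ w ∈ yL g,
    w = y ∨ w = comp y y ∨ bad [y, w] [[2, 1, 3], [2, 0, 3, 2], [1, 3, 2, 0]] = true := by
  decide +kernel

theorem stab_fixed : ∀ g ∈ [1, 32, 33], ∀ y ∈ yL g, app y (pairOf g) = pairOf g ∧
    (Model.aL.filter fun a => app y a == a).length = 4 ∧
    (∀ a ∈ Model.aL, app y a = a → a ∈ Model.tL → a = 0 ∨ a = pairOf g) ∧
    ∀ O ∈ fours, (∀ a ∈ 4 :: O, app y a ∈ 4 :: O) → ∃ a ∈ O, app y a = a := by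
  decide +kernel

theorem four_sums : ∀ O ∈ fours, O.foldr Nat.xor 0 = 4 ∧ ∀ g ∈ Model.sL, ∀ a ∈ O, Model.cj g a ∈ O := by
  decide +kernel

end Cfsg.Agent.A8Type.Tab
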