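import Cfsg.Agent.Lib.A8Type.Basic
import Cfsg.Agent.Lib.A8Type.Tab
import Cfsg.Agent.Lib.StronglyClosedFour.Basic

/-!
The action of the normalizer of `A` on `A`, as tables of codes.
-/

set_option autoImplicit false
set_option linter.style.haveILetI false
set_option linter.unusedSectionVars false
set_option maxHeartbeats 800000

namespace Cfsg.Agent.A8Type

open Subgroup
open Cfsg.Agent.A8Type.Model
open Cfsg.Agent.A8Type.Tab (app comp one mk4 sTab vL forb word bad)

universe u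

variable {G : Type u} [Group G]

/-- The code of an element of `A`. -/
noncomputable def codeA (ρ : ℕ → G) (g : G) : ℕ := _root_.Classical.epsilon fun a => a ∈ aL ∧ ρ a = g

/-- The table of the conjugation by an element. -/
noncomputable def tab (ρ : ℕ → G) (n : G) : List ℕ := aL.map fun a => codeA ρ (n * ρ a * n⁻¹)

/-- A table realised in the normalizer of `A`. -/
def Real (ρ : ℕ → G) (t : List ℕ) : Prop := ∃ n ∈ normalizer (subA ρ : Set G), tab ρ n = t

theorem aL_index : ∀ a ∈ aL, a / 2 < aL.length ∧ aL.getD (a / 2) 0 = a := by decide +kernel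

theorem aL_facts : (∀ a ∈ aL, a ∈ sL ∧ Model.mul (Model.mul (bit 1 a * 2) (bit 2 a * 4))
      (Model.mul (bit 3 a * 8) (bit 4 a * 16)) = a ∧
      bit 1 a * 2 ∈ aL ∧ bit 2 a * 4 ∈ aL ∧ bit 3 a * 8 ∈ aL ∧ bit 4 a * 16 ∈ aL) ∧
    (∀ a ∈ aL, ∀ b ∈ aL, Model.mul a b = Nat.xor a b ∧ Model.mul a b ∈ aL) ∧ aL.Nodup ∧
    (∀ g ∈ sL, sTab g ∈ vL ∧ Model.mul g g ∈ aL) ∧
    (∀ g ∈ sL, ∃ x ∈ [0, 1, 32, 33], ∃ a ∈ aL, Model.mul x a = g) := by decide +kernel

theorem app_map (f : ℕ → ℕ) {a : ℕ} (ha : a ∈ aL) : app (aL.map f) a = f a := by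
  obtain ⟨h1, h2⟩ := aL_index a ha
  rw [List.getD_eq_getElem _ _ h1] at h2
  rw [app, List.getD_eq_getElem _ _ (by rwa [List.length_map]), List.getElem_map, h2]

namespace Syl

variable {S : Subgroup G} {ρ : ℕ → G} (F : Syl S ρ)

include F

theorem codeA_spec {g : G} (hg : g ∈ subA ρ) : codeA ρ g ∈ aL ∧ ρ (codeA ρ g) = g := by
  have h : ∃ a ∈ aL, ρ a = g := F.mem_A.1 hg
  exact _root_.Classical.epsilon_spec (p := fun a => a ∈ aL ∧ ρ a = g) h

theorem codeA_code {a : ℕ} (ha : a ∈ aL) : codeA ρ (ρ a) = a := by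
  obtain ⟨h1, h2⟩ := F.codeA_spec (mem_sub_of_mem ha)
  exact F.inj _ (aL_facts.1 _ h1).1 _ (aL_facts.1 a ha).1 h2

theorem app_tab {n : G} (hn : n ∈ normalizer (subA ρ : Set G)) {a : ℕ} (ha : a ∈ aL) :
    app (tab ρ n) a ∈ aL ∧ ρ (app (tab ρ n) a) = n * ρ a * n⁻¹ := by
  rw [tab, app_map _ ha]
  exact F.codeA_spec ((mem_normalizer_iff.1 hn _).1 (mem_sub_of_mem ha))

theorem app_eq {n : G} (hn : n ∈ normalizer (subA ρ : Set G)) {a b : ℕ} (ha : a ∈ aL) (hb : b ∈ aL) :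
    app (tab ρ n) a = b ↔ n * ρ a * n⁻¹ = ρ b := by
  obtain ⟨h1, h2⟩ := F.app_tab hn ha
  exact ⟨fun h => by rw [← h2, h], fun h => F.inj _ (aL_facts.1 _ h1).1 _ (aL_facts.1 b hb).1 (h2.trans h)⟩

theorem tab_mul {m n : G} (hm : m ∈ normalizer (subA ρ : Set G)) (hn : n ∈ normalizer (subA ρ : Set G)) :
    tab ρ (m * n) = comp (tab ρ m) (tab ρ n) := by
  refine List.map_congr_left fun a ha => ?_
  obtain ⟨h1, h2⟩ := F.app_tab hn ha
  obtain ⟨h3, h4⟩ := F.app_tab hm h1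
  show codeA ρ (m * n * ρ a * (m * n)⁻¹) = app (tab ρ m) (app (tab ρ n) a)
  rw [← F.codeA_code h3, h4, h2]
  group

theorem tab_sL [Finite G] {g : ℕ} (hg : g ∈ sL) : tab ρ (ρ g) = sTab g := by
  refine List.map_congr_left fun a ha => ?_
  show codeA ρ (ρ g * ρ a * (ρ g)⁻¹) = cj g a
  rw [← F.cj_eq hg (aL_facts.1 a ha).1, F.codeA_code ((code_facts.1 a ha).2.2 g hg)]

theorem tab_eq_one {n : G} (hn : n ∈ normalizer (subA ρ : Set G)) :
    tab ρ n = one ↔ ∀ a ∈ subA ρ, n * a = a * n := by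
  constructor
  · intro h a ha
    obtain ⟨c, hc, rfl⟩ := F.mem_A.1 ha
    refine mul_inv_eq_iff_eq_mul.1 ((F.app_eq hn hc hc).1 ?_)
    rw [h, show one = aL.map id from (List.map_id _).symm, app_map _ hc, id]
  · intro h
    calc tab ρ n = aL.map id := List.map_congr_left fun a ha => by
          rw [h _ (mem_sub_of_mem ha), mul_inv_cancel_right, F.codeA_code ha, id]
      _ = one := List.map_id _

theorem tab_congr {m n : G} (hm : m ∈ normalizer (subA ρ : Set G)) (hn : n ∈ normalizer (subA ρ : Set G))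
    (h : ∀ a ∈ subA ρ, m * a = a * m) : tab ρ (m * n) = tab ρ n ∧ tab ρ (n * m) = tab ρ n := by
  constructor
  · refine List.map_congr_left fun a ha => congrArg (codeA ρ) ?_
    rw [show m * n * ρ a * (m * n)⁻¹ = m * (n * ρ a * n⁻¹) * m⁻¹ by group,
      h _ ((mem_normalizer_iff.1 hn _).1 (mem_sub_of_mem ha)), mul_inv_cancel_right]
  · refine List.map_congr_left fun a ha => congrArg (codeA ρ) ?_
    rw [show n * m * ρ a * (n * m)⁻¹ = n * (m * ρ a * m⁻¹) * n⁻¹ by group, h _ (mem_sub_of_mem ha),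
      mul_inv_cancel_right]

/-- A table is given by the images of the basis. -/
theorem tab_mk4 {n : G} (hn : n ∈ normalizer (subA ρ : Set G)) :
    tab ρ n = mk4 (app (tab ρ n) 2) (app (tab ρ n) 4) (app (tab ρ n) 8) (app (tab ρ n) 16) := by
  have hmul : ∀ a ∈ aL, ∀ b ∈ aL, app (tab ρ n) (Model.mul a b) =
      Nat.xor (app (tab ρ n) a) (app (tab ρ n) b) := by
    intro a ha b hb
    obtain ⟨h1, h2⟩ := F.app_tab hn ha
    obtain ⟨h3, h4⟩ := F.app_tab hn hb
    rw [← (aL_facts.2.1 _ h1 _ h3).1]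
    refine (F.app_eq hn (aL_facts.2.1 a ha b hb).2 (aL_facts.2.1 _ h1 _ h3).2).2 ?_
    rw [F.mul_eq _ (aL_facts.1 _ h1).1 _ (aL_facts.1 _ h3).1, h2, h4,
      F.mul_eq a (aL_facts.1 a ha).1 b (aL_facts.1 b hb).1]
    group
  have h0 : app (tab ρ n) 0 = 0 := by
    refine (F.app_eq hn (by decide) (by decide)).2 ?_
    rw [F.zero]; simp
  have hbit : ∀ k a : ℕ, bit k a = 0 ∨ bit k a = 1 := fun k a => by unfold bit; omega
  have hscal : ∀ k a c : ℕ, app (tab ρ n) (bit k a * c) = bit k a * app (tab ρ n) c := fun k a c => by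
    rcases hbit k a with h | h <;> simp [h, h0]
  refine List.map_congr_left fun a ha => ?_
  obtain ⟨-, he, m1, m2, m3, m4⟩ := aL_facts.1 a ha
  show codeA ρ (n * ρ a * n⁻¹) = _
  rw [show codeA ρ (n * ρ a * n⁻¹) = app (tab ρ n) a from
    (app_map (fun a => codeA ρ (n * ρ a * n⁻¹)) ha).symm]
  conv_lhs => rw [← he]
  rw [hmul _ (aL_facts.2.1 _ m1 _ m2).2 _ (aL_facts.2.1 _ m3 _ m4).2, hmul _ m1 _ m2, hmul _ m3 _ m4,
    hscal, hscal, hscal, hscal]

/-- A table of an element has 16 values. -/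
theorem tab_card {n : G} (hn : n ∈ normalizer (subA ρ : Set G)) : 16 = (tab ρ n).toFinset.card := by
  rw [List.toFinset_card_of_nodup, tab, List.length_map, lists.2.1]
  refine List.Nodup.map_on (fun a ha b hb h => ?_) aL_facts.2.2.1
  have h1 := (F.app_tab hn ha).2
  have h2 := (F.app_tab hn hb).2
  rw [tab, app_map _ ha] at h1
  rw [tab, app_map _ hb] at h2
  rw [h, h2] at h1
  exact F.inj a (aL_facts.1 a ha).1 b (aL_facts.1 b hb).1 (mul_left_cancel (mul_right_cancel h1.symm))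

end Syl

namespace Syl

variable [Finite G] {S : Sylow 2 G} {ρ : ℕ → G} (F : Syl (S : Subgroup G) ρ)

include F

theorem real_comp {t u : List ℕ} (ht : Real ρ t) (hu : Real ρ u) : Real ρ (comp t u) := by
  obtain ⟨m, hm, rfl⟩ := ht
  obtain ⟨n, hn, rfl⟩ := hu
  exact ⟨m * n, mul_mem hm hn, F.tab_mul hm hn⟩

theorem real_one : Real ρ one := ⟨1, one_mem _, (F.tab_eq_one (one_mem _)).2 fun a _ => by simp⟩

theorem real_sTab {g : ℕ} (hg : g ∈ sL) : Real ρ (sTab g) := ⟨ρ g, F.S_le_NA (F.mem g hg), F.tab_sL hg⟩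

/-- The square of a 2-element of `N(A)` centralizes `A`. -/
theorem two_sq {a : G} (ha : a ∈ normalizer (subA ρ : Set G)) {i : ℕ} (hi : orderOf a ∣ 2 ^ i) :
    ∀ x ∈ subA ρ, a * a * x = x * (a * a) := by
  obtain ⟨k, hk, hk'⟩ := F.conj_in_NA (J2Type.Loc.isPGroup_zpowers hi) (zpowers_le.2 ha)
  obtain ⟨c, hc, hce⟩ := F.surj _ (hk' a (mem_zpowers a))
  have h1 : k * (a * a) * k⁻¹ ∈ subA ρ := by
    rw [show k * (a * a) * k⁻¹ = k * a * k⁻¹ * (k * a * k⁻¹) by group, ← hce, ← F.mul_eq c hc c hc]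
    exact mem_sub_of_mem (aL_facts.2.2.2.1 c hc).2
  exact fun x hx => F.A_comm ((mem_normalizer_iff.1 hk _).2 h1) hx

/-- An element of odd order whose fourth power centralizes `A` centralizes it. -/
theorem odd_four {b : G} (ho : Odd (orderOf b)) {x : G} (h : b * b * (b * b) * x = x * (b * b * (b * b))) :
    b * x = x * b :=
  J2Type.Loc.fix_of_sq ho (J2Type.Loc.fix_of_sq (ho.of_dvd_nat (by rw [← pow_two]; exact orderOf_pow_dvd 2)) h)

/-- No element of `N(A)` acts with order four. -/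
theorem four_free {n : G} (hn : n ∈ normalizer (subA ρ : Set G))
    (h4 : ∀ x ∈ subA ρ, n * n * (n * n) * x = x * (n * n * (n * n))) :
    ∀ x ∈ subA ρ, n * n * x = x * (n * n) := by
  intro x hx
  obtain ⟨a, b, ha, hb, hab, ⟨i, hi⟩, hbo⟩ := J2Type.Loc.exists_parts n
  have hz : zpowers n ≤ normalizer (subA ρ : Set G) := zpowers_le.2 hn
  obtain ⟨ja, ea⟩ := ha
  obtain ⟨jb, eb⟩ := hb
  replace ea : n ^ ja = a := ea
  replace eb : n ^ jb = b := eb
  have hc : Commute a b := by rw [← ea, ← eb]; exact Commute.zpow_zpow_self n ja jb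
  have hzp : a ∈ zpowers n ∧ b ∈ zpowers n := ⟨⟨ja, ea⟩, ⟨jb, eb⟩⟩
  have e2 : n * n = a * a * (b * b) := by rw [← hab]; exact (hc.mul_mul_mul_comm a b).symm
  have hca : ∀ y ∈ subA ρ, a * a * y = y * (a * a) := F.two_sq (hz hzp.1) hi
  have hcb : Commute (a * a) (b * b) := (hc.mul_left hc).mul_right (hc.mul_left hc)
  have hb4 : b * b * (b * b) * x = x * (b * b * (b * b)) := by
    have h := h4 x hx
    rw [e2, show a * a * (b * b) * (a * a * (b * b)) = a * a * (a * a) * (b * b * (b * b)) from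
      hcb.symm.mul_mul_mul_comm (a * a) (b * b)] at h
    have ha4 : Commute (a * a * (a * a)) x := (show Commute (a * a) x from hca x hx).mul_left (hca x hx)
    have := ha4.inv_left.mul_left h
    rwa [inv_mul_cancel_left] at this
  have hbx := F.odd_four hbo hb4
  rw [e2]
  exact (show Commute (a * a) x from hca x hx).mul_left ((show Commute b x from hbx).mul_left hbx)

/-- An element of `N(A)` acting as an involution commuting with `S` acts as an element of `S`. -/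
theorem e8_free {n : G} (hn : n ∈ normalizer (subA ρ : Set G))
    (h2 : ∀ x ∈ subA ρ, n * n * x = x * (n * n))
    (hc : ∀ g ∈ [1, 32], ∀ x ∈ subA ρ, n * ρ g * x * (n * ρ g)⁻¹ = ρ g * n * x * (ρ g * n)⁻¹) :
    tab ρ n ∈ vL := by
  haveI : Fact (Nat.Prime 2) := ⟨Nat.prime_two⟩
  obtain ⟨D, hDc, hDo, hDmem, hCA⟩ := F.exists_cent_A
  have hDx : ∀ d ∈ D, ∀ x ∈ subA ρ, d * x = x * d := fun d hd x hx =>
    (mem_centralizer_iff.1 (hDc hd) x hx).symm
  have hDN : normalizer (subA ρ : Set G) ≤ normalizer (D : Set G) := fun m hm => mem_normalizer_of_maps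
    fun d hd => hDmem _ (fun x hx => by
      have h := hDx d hd _ ((mem_normalizer_iff''.1 hm x).1 hx)
      calc m * d * m⁻¹ * x = m * (d * (m⁻¹ * x * m)) * m⁻¹ := by group
        _ = x * (m * d * m⁻¹) := by rw [h]; group)
      (by rw [Involutions.Basic.orderOf_conj]; exact J2Type.Loc.odd_orderOf hDo hd)
  obtain ⟨a, b, ha, hb, hab, ⟨i, hi⟩, hbo⟩ := J2Type.Loc.exists_parts n
  obtain ⟨ja, ea⟩ := ha
  obtain ⟨jb, eb⟩ := hb
  replace ea : n ^ ja = a := ea
  replace eb : n ^ jb = b := eb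
  have hcab : Commute a b := by rw [← ea, ← eb]; exact Commute.zpow_zpow_self n ja jb
  have hzp : a ∈ zpowers n ∧ b ∈ zpowers n := ⟨⟨ja, ea⟩, ⟨jb, eb⟩⟩
  have hz : zpowers n ≤ normalizer (subA ρ : Set G) := zpowers_le.2 hn
  have haN := hz hzp.1
  have hbN := hz hzp.2
  have e2 : n * n = a * a * (b * b) := by rw [← hab]; exact (hcab.mul_mul_mul_comm a b).symm
  have hbx : ∀ x ∈ subA ρ, b * x = x * b := fun x hx => J2Type.Loc.fix_of_sq hbo (by
    have h := h2 x hx
    rw [e2] at h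
    have := (show Commute (a * a) x from F.two_sq haN hi x hx).inv_left.mul_left h
    rwa [inv_mul_cancel_left] at this)
  have hnconj : ∀ y ∈ subA ρ, n * y * n⁻¹ = a * y * a⁻¹ := fun y hy => by
    rw [← hab, show a * b * y * (a * b)⁻¹ = a * (b * y * b⁻¹) * a⁻¹ by group, hbx y hy, mul_inv_cancel_right]
  have htab : tab ρ n = tab ρ a := by rw [← hab]; exact (F.tab_congr hbN haN hbx).2
  -- the generators of `S` are moved inside `S ⊔ D`
  have hAD : ∀ g, (∀ x ∈ subA ρ, g * x = x * g) → g ∈ (S : Subgroup G) ⊔ D := fun g hg =>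
    sup_le_sup_right F.A_le D (hCA ▸ mem_centralizer_iff.2 fun x hx => (hg x hx).symm)
  have hgen : ∀ g ∈ [1, 32], a * ρ g * a⁻¹ ∈ (S : Subgroup G) ⊔ D := by
    intro g hg
    have hgs : g ∈ sL := by
      simp only [List.mem_cons, List.not_mem_nil, or_false] at hg
      exact List.mem_range.2 (by omega)
    have hgS := F.mem g hgs
    have h := hAD (a * ρ g * a⁻¹ * (ρ g)⁻¹) (fun x hx => by
      have hy : a⁻¹ * ((ρ g)⁻¹ * x * ρ g) * a ∈ subA ρ :=
        (mem_normalizer_iff''.1 haN _).1 ((mem_normalizer_iff''.1 (F.S_le_NA hgS) x).1 hx)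
      set y := a⁻¹ * ((ρ g)⁻¹ * x * ρ g) * a with hydef
      have h1 := hc g hg y hy
      have e1 : n * ρ g * y * (n * ρ g)⁻¹ = a * (ρ g * y * (ρ g)⁻¹) * a⁻¹ := by
        rw [← hnconj _ ((mem_normalizer_iff.1 (F.S_le_NA hgS) y).1 hy)]; group
      have e3 : ρ g * n * y * (ρ g * n)⁻¹ = ρ g * (a * y * a⁻¹) * (ρ g)⁻¹ := by
        rw [← hnconj y hy]; group
      rw [e1, e3] at h1
      refine mul_inv_eq_iff_eq_mul.1 ?_
      calc a * ρ g * a⁻¹ * (ρ g)⁻¹ * x * (a * ρ g * a⁻¹ * (ρ g)⁻¹)⁻¹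
          = a * (ρ g * y * (ρ g)⁻¹) * a⁻¹ := by rw [hydef]; group
        _ = ρ g * (a * y * a⁻¹) * (ρ g)⁻¹ := h1
        _ = x := by rw [hydef]; group)
    have := mul_mem h (mem_sup_left (T := D) hgS)
    rwa [inv_mul_cancel_right] at this
  have hall : ∀ s ∈ (S : Subgroup G), a * s * a⁻¹ ∈ (S : Subgroup G) ⊔ D := by
    intro s hs
    obtain ⟨g, hg, rfl⟩ := F.surj s hs
    obtain ⟨x, hx, c, hc, rfl⟩ := aL_facts.2.2.2.2 g hg
    have hxs : x ∈ sL := by
      simp only [List.mem_cons, List.not_mem_nil, or_false] at hx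
      exact List.mem_range.2 (by omega)
    have hcA : a * ρ c * a⁻¹ ∈ (S : Subgroup G) ⊔ D :=
      mem_sup_left (F.A_le ((mem_normalizer_iff.1 haN _).1 (mem_sub_of_mem hc)))
    rw [F.mul_eq x hxs c (aL_facts.1 c hc).1, show a * (ρ x * ρ c) * a⁻¹ = a * ρ x * a⁻¹ * (a * ρ c * a⁻¹) by group]
    refine mul_mem ?_ hcA
    have h33 : ρ 33 = ρ 1 * ρ 32 := by
      rw [← F.mul_eq 1 (by decide) 32 (by decide)]
      exact congrArg ρ (by decide)
    simp only [List.mem_cons, List.not_mem_nil, or_false] at hx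
    rcases hx with rfl | rfl | rfl | rfl
    · rw [F.zero]; simp
    · exact hgen 1 (by simp)
    · exact hgen 32 (by simp)
    · rw [h33, show a * (ρ 1 * ρ 32) * a⁻¹ = a * ρ 1 * a⁻¹ * (a * ρ 32 * a⁻¹) by group]
      exact mul_mem (hgen 1 (by simp)) (hgen 32 (by simp))
  obtain ⟨d, hd, hdN⟩ := J2Type.Loc.exists_mul_normalizer S.isPGroup' hDo (fun s hs => hDN (F.S_le_NA hs)) hall
  have hdN' : d ∈ normalizer (subA ρ : Set G) := centralizer_le_normalizer _ (hDc hd)
  have hmN : d * a ∈ normalizer (subA ρ : Set G) := mul_mem hdN' haN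
  obtain ⟨p, q, hp, hq, hpq, ⟨j, hj⟩, hqo⟩ := J2Type.Loc.exists_parts (d * a)
  have hzm : zpowers (d * a) ≤ normalizer ((S : Subgroup G) : Set G) := zpowers_le.2 hdN
  have hpS : p ∈ (S : Subgroup G) := by
    have h := IsPGroup.to_sup_of_normal_left' S.isPGroup' (J2Type.Loc.isPGroup_zpowers hj)
      (zpowers_le.2 (hzm hp))
    exact S.3 h le_sup_left ▸ mem_sup_right (mem_zpowers p)
  obtain ⟨g, hg, rfl⟩ := F.surj p hpS
  have hqN : q ∈ normalizer (subA ρ : Set G) := zpowers_le.2 hmN hq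
  obtain ⟨jp, hjp⟩ := hp
  obtain ⟨jq, hjq⟩ := hq
  have hcpq : Commute (ρ g) q := by rw [← hjp, ← hjq]; exact Commute.zpow_zpow_self _ jp jq
  have hmconj : ∀ x ∈ subA ρ, d * a * x * (d * a)⁻¹ = n * x * n⁻¹ := fun x hx => by
    rw [hnconj x hx, show d * a * x * (d * a)⁻¹ = d * (a * x * a⁻¹) * d⁻¹ by group,
      hDx d hd _ ((mem_normalizer_iff.1 haN x).1 hx), mul_inv_cancel_right]
  have hm2 : ∀ x ∈ subA ρ, d * a * (d * a) * x = x * (d * a * (d * a)) := fun x hx => by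
    refine mul_inv_eq_iff_eq_mul.1 ?_
    rw [show d * a * (d * a) * x * (d * a * (d * a))⁻¹ = d * a * (d * a * x * (d * a)⁻¹) * (d * a)⁻¹ by group,
      hmconj x hx, hmconj _ ((mem_normalizer_iff.1 hn x).1 hx),
      show n * (n * x * n⁻¹) * n⁻¹ = n * n * x * (n * n)⁻¹ by group, h2 x hx, mul_inv_cancel_right]
  have hqx : ∀ x ∈ subA ρ, q * x = x * q := fun x hx => J2Type.Loc.fix_of_sq hqo (by
    have h := hm2 x hx
    rw [← hpq, hcpq.symm.mul_mul_mul_comm (ρ g) q] at h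
    have hg2 : ρ g * ρ g ∈ subA ρ := by
      rw [← F.mul_eq g hg g hg]; exact mem_sub_of_mem (aL_facts.2.2.2.1 g hg).2
    have := (show Commute (ρ g * ρ g) x from F.A_comm hg2 hx).inv_left.mul_left h
    rwa [inv_mul_cancel_left] at this)
  have e : tab ρ n = tab ρ (d * a) := by rw [htab, (F.tab_congr hdN' haN (hDx d hd)).1]
  rw [e, ← hpq, (F.tab_congr hqN (F.S_le_NA (F.mem g hg)) hqx).2, F.tab_sL hg]
  exact (aL_facts.2.2.2.1 g hg).1

theorem not_forb {t : List ℕ} (ht : Real ρ t) : forb t = false := by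
  obtain ⟨n, hn, rfl⟩ := ht
  rw [Bool.eq_false_iff]
  intro h
  simp only [Tab.forb, Bool.or_eq_true, Bool.and_eq_true, bne_iff_ne, ne_eq, beq_iff_eq, Bool.not_eq_true',
    ← F.tab_mul hn hn, ← F.tab_mul (mul_mem hn hn) (mul_mem hn hn)] at h
  rcases h with ⟨h2, h4⟩ | ⟨⟨⟨h2, hv⟩, hc1⟩, hc32⟩
  · exact h2 ((F.tab_eq_one (mul_mem hn hn)).2 (F.four_free hn ((F.tab_eq_one
      (mul_mem (mul_mem hn hn) (mul_mem hn hn))).1 h4)))
  · have hcomm : ∀ g ∈ [1, 32], ∀ x ∈ subA ρ, n * ρ g * x * (n * ρ g)⁻¹ = ρ g * n * x * (ρ g * n)⁻¹ := by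
      intro g hg x hx
      have hgs : g ∈ sL := by
        simp only [List.mem_cons, List.not_mem_nil, or_false] at hg
        exact List.mem_range.2 (by omega)
      have hgN := F.S_le_NA (F.mem g hgs)
      have e : tab ρ (n * ρ g) = tab ρ (ρ g * n) := by
        rw [F.tab_mul hn hgN, F.tab_mul hgN hn, F.tab_sL hgs]
        simp only [List.mem_cons, List.not_mem_nil, or_false] at hg
        rcases hg with rfl | rfl
        exacts [hc1, hc32]
      obtain ⟨c, hc, rfl⟩ := F.mem_A.1 hx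
      rw [← (F.app_tab (mul_mem hn hgN) hc).2, e, (F.app_tab (mul_mem hgN hn) hc).2]
    have := F.e8_free hn ((F.tab_eq_one (mul_mem hn hn)).1 h2) hcomm
    simp only [List.contains_eq_mem, decide_eq_false_iff_not] at hv
    exact hv this

theorem not_bad {gs ws : List (List ℕ)} (hgs : ∀ t ∈ gs, Real ρ t) : bad gs ws = false := by
  rw [Bool.eq_false_iff]
  intro h
  obtain ⟨w, -, hw⟩ := List.any_eq_true.1 h
  have hword : Real ρ (word gs w) := by
    clear hw
    induction w with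
    | nil => exact F.real_one
    | cons i w ih =>
      refine F.real_comp ?_ ih
      show Real ρ ((sTab 1 :: sTab 32 :: gs).getD i one)
      by_cases hi : i < (sTab 1 :: sTab 32 :: gs).length
      · rw [List.getD_eq_getElem _ _ hi]
        have hm := List.getElem_mem hi
        rcases List.mem_cons.1 hm with e | hm
        · rw [e]; exact F.real_sTab (by decide)
        rcases List.mem_cons.1 hm with e | hm
        · rw [e]; exact F.real_sTab (by decide)
        · exact hgs _ hm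
      · rw [List.getD_eq_default _ _ (not_lt.1 hi)]
        exact F.real_one
  exact absurd hw (by rw [F.not_forb hword]; simp)

end Syl

end Cfsg.Agent.A8Type
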