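import Cfsg.Agent.Lib.A8Type.Tab

/-!
The linear tables fixing a pair code, checked over their three free images.
-/

set_option autoImplicit false
set_option maxRecDepth 20000

namespace Cfsg.Agent.A8Type.Tab

open Cfsg.Agent.A8Type

/-- A linear table fixing the pair code `p`. -/
def stabTab (g i j k : ℕ) : List ℕ :=
  if g = 1 then mk4 2 i j k else if g = 32 then mk4 i j k 16 else mk4 i j k (Nat.xor i 18)

theorem stab_central : ∀ g ∈ [1, 32, 33], ∀ i ∈ Model.aL, ∀ j ∈ Model.aL, ∀ k ∈ Model.aL,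
    let t := stabTab g i j k
    (∀ b ∈ basis, app t (Model.cj g b) = Model.cj g (app t b)) → 16 = t.toFinset.card →
      comp (comp t t) (comp t t) = one := by
  decide +kernel

theorem stab_inverted : ∀ g ∈ [1, 32, 33], ∀ i ∈ Model.aL, ∀ j ∈ Model.aL, ∀ k ∈ Model.aL,
    let t := stabTab g i j k
    (∀ b ∈ basis, Model.cj g (app t (Model.cj g (app t b))) = b) → 16 = t.toFinset.card →
      comp (comp t t) (comp t t) = one ∨ comp (comp t (comp t t)) (comp t (comp t t)) = one := by
  decide +kernel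

theorem stab_three : ∀ g ∈ [1, 32, 33], ∀ i ∈ Model.aL, ∀ j ∈ Model.aL, ∀ k ∈ Model.aL,
    let t := stabTab g i j k
    (∀ b ∈ basis, Model.cj g (app t (Model.cj g (app t b))) = b ∧ app t (app t (app t b)) = b) →
      t = one ∨ bad [t] [[1, 2], [0, 2], [2, 1, 0]] = true ∨ t ∈ yL g := by
  decide +kernel

end Cfsg.Agent.A8Type.Tab
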