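import Cfsg.Agent.Lib.A8Type.Act
import Cfsg.Agent.Lib.A8Type.TabStab
import Cfsg.Agent.Lib.Involutions.ThompsonTransfer

/-!
The fusion inside `A`: the classes of the pairs, and the elements of `N(A)` fixing a pair.
-/

set_option autoImplicit false
set_option linter.style.haveILetI false
set_option linter.unusedSectionVars false
set_option maxHeartbeats 800000

namespace Cfsg.Agent.A8Type

open Subgroup
open Cfsg.Agent.A8Type.Model
open Cfsg.Agent.A8Type.Tab (app comp one mk4 sTab vL pairOf fL yL fours bad basis stabTab)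

universe u

variable {G : Type u} [Group G]

/-- The involutions of `S` outside `A` and their pairs. -/
theorem pair_facts : ∀ g ∈ [1, 32, 33], g ∈ sL ∧ g ∉ aL ∧ Model.mul g g = 0 ∧ g ≠ 0 ∧ pairOf g ∈ tL ∧
    pairOf g ∈ aL ∧ pairOf g ∈ sL ∧ pairOf g ≠ 0 ∧ pairOf g ≠ 4 ∧ Model.cj g (pairOf g) = pairOf g ∧
    sTab g ∈ vL := by decide +kernel

theorem pair_cases : ∀ a ∈ tL, a ≠ 0 → a ≠ 4 → ∃ g ∈ [1, 32, 33], ∃ s ∈ sL, Model.cj s (pairOf g) = a := by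
  decide +kernel

theorem pair_four : ∀ g ∈ [1, 32, 33], ∃ s ∈ sL, Model.mul 4 (pairOf g) = Model.cj s (pairOf g) := by
  decide +kernel

theorem cent_small : ∀ a ∈ aL, a ≠ 0 → a ≠ 4 →
    (sL.filter fun b => Model.mul a b == Model.mul b a).length ≤ 32 := by decide +kernel

theorem four_cases : ∀ a ∈ aL, a ∉ tL → ∃ O ∈ fours, a ∈ O ∧ ∀ b ∈ O, ∃ s ∈ sL, Model.cj s a = b := by
  decide +kernel

theorem four_facts : ∀ O ∈ fours, (∀ a ∈ O, a ∈ aL ∧ a ∉ tL ∧ a ≠ 0 ∧ a ≠ 4) ∧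
    (∀ a ∈ aL, a ∉ tL → a ∉ O → ∀ O' ∈ fours, a ∈ O' → O' ≠ O) ∧ O.length = 4 ∧ O.Nodup ∧
    (∀ a ∈ O, ∀ b ∈ O, ∀ c ∈ O, ∀ d ∈ O, [a, b, c, d].Nodup →
      Model.mul (Model.mul a b) (Model.mul c d) = 4) := by decide +kernel

theorem two_fours : ∀ O ∈ fours, ∀ a ∈ aL, a ∉ tL → a ∈ O ∨ ∀ O' ∈ fours, O' ≠ O → a ∈ O' := by decide +kernel

theorem four_aL : (4 : ℕ) ∈ aL := by decide

theorem z_split : Model.mul 2 6 = 4 ∧ 2 ∈ tL ∧ 6 ∈ tL := by decide +kernel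

theorem vL_one_basis : (∀ v ∈ vL, v = one ∨ ∃ g ∈ sL, sTab g = v) ∧ ∀ b ∈ basis, b ∈ aL := by decide +kernel

namespace Syl

variable {S : Subgroup G} {ρ : ℕ → G} (F : Syl S ρ)

include F

theorem app_mul {n : G} (hn : n ∈ normalizer (subA ρ : Set G)) {a b : ℕ} (ha : a ∈ aL) (hb : b ∈ aL) :
    app (tab ρ n) (Model.mul a b) = Nat.xor (app (tab ρ n) a) (app (tab ρ n) b) := by
  obtain ⟨h1, h2⟩ := F.app_tab hn ha
  obtain ⟨h3, h4⟩ := F.app_tab hn hb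
  rw [← (aL_facts.2.1 _ h1 _ h3).1]
  refine (F.app_eq hn (aL_facts.2.1 a ha b hb).2 (aL_facts.2.1 _ h1 _ h3).2).2 ?_
  rw [F.mul_eq _ (aL_facts.1 _ h1).1 _ (aL_facts.1 _ h3).1, h2, h4,
    F.mul_eq a (aL_facts.1 a ha).1 b (aL_facts.1 b hb).1]
  group

/-- An element with the same action as its conjugate by `ρ g`. -/
theorem tab_commutes {n : G} (hn : n ∈ normalizer (subA ρ : Set G)) {g b : ℕ} (hg : g ∈ sL) (hb : b ∈ aL)
    (h : ∀ x ∈ subA ρ, n * (ρ g * x * (ρ g)⁻¹) * n⁻¹ = ρ g * (n * x * n⁻¹) * (ρ g)⁻¹) :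
    app (tab ρ n) (Model.cj g b) = Model.cj g (app (tab ρ n) b) := by
  obtain ⟨h1, h2⟩ := F.app_tab hn hb
  refine (F.app_eq hn ((code_facts.1 b hb).2.2 g hg) ((code_facts.1 _ h1).2.2 g hg)).2 ?_
  rw [F.cj_eq hg (aL_facts.1 b hb).1, F.cj_eq hg (aL_facts.1 _ h1).1, h _ (mem_sub_of_mem hb), h2]

/-- An element inverted by `ρ g` modulo the centralizer of `A`. -/
theorem tab_inverted [Finite G] (hS : S ≤ normalizer (subA ρ : Set G)) {n : G}
    (hn : n ∈ normalizer (subA ρ : Set G)) {g b : ℕ} (hg : g ∈ sL) (hb : b ∈ aL)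
    (h : ρ g * n * ρ g = n⁻¹) :
    Model.cj g (app (tab ρ n) (Model.cj g (app (tab ρ n) b))) = b := by
  obtain ⟨h1, h2⟩ := F.app_tab hn hb
  obtain ⟨h3, h4⟩ := F.app_tab hn ((code_facts.1 _ h1).2.2 g hg)
  have hgN := hS (F.mem g hg)
  refine F.inj _ (aL_facts.1 _ ((code_facts.1 _ h3).2.2 g hg)).1 _ (aL_facts.1 b hb).1 ?_
  rw [F.cj_eq hg (aL_facts.1 _ h3).1, h4, F.cj_eq hg (aL_facts.1 _ h1).1, h2,
    show ρ g * (n * (ρ g * (n * ρ b * n⁻¹) * (ρ g)⁻¹) * n⁻¹) * (ρ g)⁻¹ =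
      ρ g * n * ρ g * n * ρ b * (ρ g * n * ρ g * n)⁻¹ by group, h]
  group

end Syl

namespace Syl

variable [Finite G] {S : Sylow 2 G} {ρ : ℕ → G} (F : Syl (S : Subgroup G) ρ)

include F

theorem real_vL {v : List ℕ} (hv : v ∈ vL) : Real ρ v := by
  rcases vL_one_basis.1 v hv with rfl | ⟨g, hg, rfl⟩
  exacts [F.real_one, F.real_sTab hg]

/-- An element of `A` outside `⟨z⟩` in `T` is conjugate to a pair by `S`. -/
theorem T_conj {a : G} (ha : a ∈ subT ρ) (h1 : a ≠ 1) (hz : a ≠ ρ 4) :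
    ∃ g ∈ [1, 32, 33], ∃ s ∈ (S : Subgroup G), s * ρ (pairOf g) * s⁻¹ = a := by
  obtain ⟨c, hc, rfl⟩ := F.mem_T.1 ha
  obtain ⟨g, hg, s, hs, e⟩ := pair_cases c hc (fun e => h1 (by rw [e, F.zero])) (fun e => hz (by rw [e]))
  exact ⟨g, hg, ρ s, F.mem s hs, by rw [← F.cj_eq hs (pair_facts g hg).2.2.2.2.2.2.1, e]⟩

/-- A fusion of `z` with a pair gives an element of order three moving `z` and commuting with the involution. -/
theorem moveZ {g : ℕ} (hg : g ∈ [1, 32, 33]) (hc : IsConj (ρ 4) (ρ (pairOf g))) :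
    ∃ f ∈ fL g, Real ρ f := by
  classical
  haveI : Fact (Nat.Prime 2) := ⟨Nat.prime_two⟩
  obtain ⟨hgs, -, hgg, hg0, -, hpa, hps, hp0, -, hgp, -⟩ := pair_facts g hg
  set σ := ρ g with hσ
  set p := ρ (pairOf g) with hp
  obtain ⟨c, hc'⟩ := isConj_iff.1 hc
  obtain ⟨n, hn, hne⟩ := F.fusion_A F.z_mem_A (g := c) (hc' ▸ mem_sub_of_mem hpa)
  rw [hc'] at hne
  set L := normalizer (subA ρ : Set G) ⊓ centralizer ({p} : Set G)
  obtain ⟨P, hPdef⟩ : ∃ P : Sylow 2 G, (P : Subgroup G) = (S : Subgroup G).map (MulAut.conj n).toMonoidHom :=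
    ⟨MulAut.conj n • S, rfl⟩
  have hPL : (P : Subgroup G) ≤ L := by
    rw [hPdef]
    rintro _ ⟨s, hs, rfl⟩
    have hns : n * s * n⁻¹ * p = p * (n * s * n⁻¹) := by
      rw [← hne, show n * s * n⁻¹ * (n * ρ 4 * n⁻¹) = n * (s * ρ 4) * n⁻¹ by group, F.z_comm hs]
      group
    exact ⟨mul_mem (mul_mem hn (F.S_le_NA hs)) ((normalizer (subA ρ : Set G)).inv_mem hn), mem_centralizer_singleton_iff.2 hns⟩
  have hσp : σ * p = p * σ := by
    refine mul_inv_eq_iff_eq_mul.1 ?_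
    rw [hσ, hp, ← F.cj_eq hgs hps, hgp]
  have hσL : σ ∈ L := ⟨F.S_le_NA (F.mem g hgs), mem_centralizer_singleton_iff.2 hσp⟩
  obtain ⟨R, hR⟩ := (J2Type.Loc.isPGroup_zpowers (i := 1) (show orderOf (⟨σ, hσL⟩ : L) ∣ 2 ^ 1 by
    rw [Subgroup.orderOf_mk, hσ, F.orderOf_two hgs hgg hg0]; norm_num)).exists_le_sylow
  obtain ⟨l, hl⟩ := MulAction.exists_smul_eq L (P.subtype hPL) R
  set m := (l : G) * n
  have hmz : m * ρ 4 * m⁻¹ = p := by
    rw [show m * ρ 4 * m⁻¹ = (l : G) * (n * ρ 4 * n⁻¹) * (l : G)⁻¹ by simp only [m]; group, hne,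
      mem_centralizer_singleton_iff.1 l.2.2, mul_inv_cancel_right]
  have hm : m ∈ normalizer (subA ρ : Set G) := mul_mem l.2.1 hn
  obtain ⟨s₀, hs₀, hs₀e⟩ : ∃ s₀ ∈ (S : Subgroup G), m * s₀ * m⁻¹ = σ := by
    have h := hR (mem_zpowers (⟨σ, hσL⟩ : L))
    rw [← hl, Sylow.coe_subgroup_smul] at h
    obtain ⟨x, hx, hxe⟩ := h
    have hxP : (x : G) ∈ (P : Subgroup G) := mem_subgroupOf.1 hx
    rw [hPdef] at hxP
    obtain ⟨s, hs, hse⟩ := hxP
    refine ⟨s, hs, ?_⟩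
    have h1 : (l : G) * x * (l : G)⁻¹ = σ := congrArg Subtype.val hxe
    have h2 : n * s * n⁻¹ = (x : G) := hse
    rw [← h1, ← h2]
    simp only [m]
    group
  -- the elements whose action commutes with that of `σ`
  set NA := normalizer (subA ρ : Set G)
  set CA := centralizer (subA ρ : Set G)
  have hCA : ∀ k ∈ NA, ∀ x ∈ CA, k * x * k⁻¹ ∈ CA := fun k hk x hx => mem_centralizer_iff.2 fun a ha => by
    have h := mem_centralizer_iff.1 hx _ ((mem_normalizer_iff''.1 hk a).1 ha)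
    calc a * (k * x * k⁻¹) = k * (k⁻¹ * a * k * x) * k⁻¹ := by group
      _ = k * x * k⁻¹ * a := by rw [h]; group
  let K : Subgroup G :=
    { carrier := {k | k ∈ NA ∧ k * σ * k⁻¹ * σ⁻¹ ∈ CA}
      one_mem' := ⟨one_mem _, by rw [one_mul, inv_one, mul_one, mul_inv_cancel]; exact one_mem _⟩
      mul_mem' := fun {a b} ha hb => ⟨mul_mem ha.1 hb.1, by
        rw [show a * b * σ * (a * b)⁻¹ * σ⁻¹ = a * (b * σ * b⁻¹ * σ⁻¹) * a⁻¹ * (a * σ * a⁻¹ * σ⁻¹) by group]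
        exact mul_mem (hCA a ha.1 _ hb.2) ha.2⟩
      inv_mem' := fun {a} ha => ⟨InvMemClass.inv_mem ha.1, by
        rw [show a⁻¹ * σ * a⁻¹⁻¹ * σ⁻¹ = a⁻¹ * (a * σ * a⁻¹ * σ⁻¹)⁻¹ * a⁻¹⁻¹ by group]
        exact hCA _ (InvMemClass.inv_mem ha.1) _ (InvMemClass.inv_mem ha.2)⟩ }
  have hTC : ∀ t ∈ subT ρ, t ∈ CA := fun t ht =>
    mem_centralizer_iff.2 fun a ha => F.A_comm ha (F.T_le_A ht)
  have hSK : (S : Subgroup G) ≤ K := fun s hs => ⟨F.S_le_NA hs, hTC _ (F.comm_mem_T hs (F.mem g hgs))⟩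
  obtain ⟨P', hP'def⟩ : ∃ P' : Sylow 2 G, (P' : Subgroup G) = (S : Subgroup G).map (MulAut.conj m).toMonoidHom :=
    ⟨MulAut.conj m • S, rfl⟩
  have hP'K : (P' : Subgroup G) ≤ K := by
    rw [hP'def]
    rintro _ ⟨s, hs, rfl⟩
    refine ⟨mul_mem (mul_mem hm (F.S_le_NA hs)) (InvMemClass.inv_mem hm), ?_⟩
    show m * s * m⁻¹ * σ * (m * s * m⁻¹)⁻¹ * σ⁻¹ ∈ CA
    rw [← hs₀e, show m * s * m⁻¹ * (m * s₀ * m⁻¹) * (m * s * m⁻¹)⁻¹ * (m * s₀ * m⁻¹)⁻¹ =
      m * (s * s₀ * s⁻¹ * s₀⁻¹) * m⁻¹ by group]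
    exact hCA m hm _ (hTC _ (F.comm_mem_T hs hs₀))
  obtain ⟨k, hk⟩ := MulAction.exists_smul_eq K (S.subtype hSK) (P'.subtype hP'K)
  have hSP : ∀ s ∈ (S : Subgroup G), m⁻¹ * ((k : G) * s * (k : G)⁻¹) * m ∈ (S : Subgroup G) := by
    intro s hs
    have h : k * ⟨s, hSK hs⟩ * k⁻¹ ∈ ((k • S.subtype hSK : Sylow 2 K) : Subgroup K) := by
      rw [Sylow.coe_subgroup_smul]
      exact ⟨_, mem_subgroupOf.2 hs, rfl⟩
    rw [hk] at h
    have h2 : (k : G) * s * (k : G)⁻¹ ∈ (P' : Subgroup G) := mem_subgroupOf.1 h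
    rw [hP'def] at h2
    obtain ⟨y, hy, hye⟩ := h2
    have h3 : m * y * m⁻¹ = (k : G) * s * (k : G)⁻¹ := hye
    rw [← h3]
    rw [show m⁻¹ * (m * y * m⁻¹) * m = y by group]
    exact hy
  set w := m⁻¹ * k with hwdef
  have hwS : w ∈ normalizer ((S : Subgroup G) : Set G) := mem_normalizer_of_maps fun s hs => by
    have := hSP s hs
    rwa [show w * s * w⁻¹ = m⁻¹ * ((k : G) * s * (k : G)⁻¹) * m by simp only [w]; group]
  have hwz : w * ρ 4 * w⁻¹ = ρ 4 := by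
    refine F.eq_z (by rw [Involutions.Basic.orderOf_conj]; exact F.order_z)
      ((mem_normalizer_iff.1 hwS _).1 (F.A_le F.z_mem_A)) fun s hs => ?_
    have h := F.z_comm ((mem_normalizer_iff''.1 hwS s).1 hs)
    calc s * (w * ρ 4 * w⁻¹) = w * (w⁻¹ * s * w * ρ 4) * w⁻¹ := by group
      _ = w * ρ 4 * w⁻¹ * s := by rw [h]; group
  have hkz : (k : G) * ρ 4 * (k : G)⁻¹ = p := by
    rw [← hmz, show (k : G) * ρ 4 * (k : G)⁻¹ = m * (w * ρ 4 * w⁻¹) * m⁻¹ by rw [hwdef]; group, hwz]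
  set t := tab ρ (k : G) with ht
  have hkN : (k : G) ∈ NA := k.2.1
  have h4 : app t 4 = pairOf g := (F.app_eq hkN four_aL hpa).2 hkz
    |>.trans rfl
  have hcomm : ∀ x ∈ subA ρ, (k : G) * (σ * x * σ⁻¹) * (k : G)⁻¹ = σ * ((k : G) * x * (k : G)⁻¹) * σ⁻¹ := by
    intro x hx
    have hy : σ * ((k : G) * x * (k : G)⁻¹) * σ⁻¹ ∈ subA ρ :=
      (mem_normalizer_iff.1 (F.S_le_NA (F.mem g hgs)) _).1 ((mem_normalizer_iff.1 hkN x).1 hx)
    have hc := mem_centralizer_iff.1 k.2.2 _ hy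
    calc (k : G) * (σ * x * σ⁻¹) * (k : G)⁻¹
        = (k : G) * σ * (k : G)⁻¹ * σ⁻¹ * (σ * ((k : G) * x * (k : G)⁻¹) * σ⁻¹) *
            ((k : G) * σ * (k : G)⁻¹ * σ⁻¹)⁻¹ := by group
      _ = σ * ((k : G) * x * (k : G)⁻¹) * σ⁻¹ := by rw [← hc, mul_inv_cancel_right]
  have hmk := F.tab_mk4 hkN
  rw [← ht, h4] at hmk
  have hi := (F.app_tab hkN (vL_one_basis.2 2 (by simp [basis]))).1
  have hk8 := (F.app_tab hkN (vL_one_basis.2 8 (by simp [basis]))).1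
  have hl := (F.app_tab hkN (vL_one_basis.2 16 (by simp [basis]))).1
  rw [← ht] at hi hk8 hl
  rcases Tab.move_facts g hg _ hi _ hk8 _ hl (fun b hb => by
      rw [← hmk]; exact F.tab_commutes hkN hgs (vL_one_basis.2 b hb) hcomm)
      (by rw [← hmk]; exact F.tab_card hkN) with hbad | ⟨v, hv, hf⟩
  · rw [← hmk, F.not_bad (fun t' ht' => by rw [List.mem_singleton.1 ht']; exact ⟨k, hkN, rfl⟩)] at hbad
    exact absurd hbad (by simp)
  · rw [← hmk] at hf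
    exact ⟨_, hf, F.real_comp ⟨k, hkN, rfl⟩ (F.real_vL hv)⟩

/-- Not all three pairs are fused to `z`. -/
theorem two : ∃ g ∈ [1, 32, 33], ¬ IsConj (ρ 4) (ρ (pairOf g)) := by
  by_contra h
  push Not at h
  obtain ⟨f, hf, hf'⟩ := F.moveZ (by simp) (h 1 (by simp))
  obtain ⟨e, he, he'⟩ := F.moveZ (by simp) (h 32 (by simp))
  obtain ⟨d, hd, hd'⟩ := F.moveZ (by simp) (h 33 (by simp))
  have := Tab.triple_facts f hf e he d hd
  rw [F.not_bad (by simp [hf', he', hd'])] at this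
  exact absurd this (by simp)

theorem conj_T_pair {a : G} (ha : a ∈ subT ρ) (h1 : a ≠ 1) (hz : a ≠ ρ 4)
    (hno : ∀ g ∈ [1, 32, 33], ¬ IsConj (ρ 4) (ρ (pairOf g))) : ¬ IsConj (ρ 4) a := fun h => by
  obtain ⟨g, hg, s, -, e⟩ := F.T_conj ha h1 hz
  exact hno g hg (h.trans (isConj_iff.2 ⟨s, e⟩).symm)

variable (hNI : ∃ b ∈ subA ρ, b ≠ ρ 4 ∧ IsConj (ρ 4) b)

include hNI

theorem exists_move_z : ∃ n ∈ normalizer (subA ρ : Set G), n * ρ 4 * n⁻¹ ∈ subA ρ ∧ n * ρ 4 * n⁻¹ ≠ ρ 4 := by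
  obtain ⟨b, hb, hbz, hc⟩ := hNI
  obtain ⟨c, rfl⟩ := isConj_iff.1 hc
  obtain ⟨n, hn, e⟩ := F.fusion_A F.z_mem_A hb
  exact ⟨n, hn, e ▸ hb, e ▸ hbz⟩

/-- Without a pair fused to `z`, the conjugates of `z` in `A` are `z` and an orbit of length four. -/
theorem five (hno : ∀ g ∈ [1, 32, 33], ¬ IsConj (ρ 4) (ρ (pairOf g))) :
    ∃ O ∈ fours, ∀ a ∈ aL, (IsConj (ρ 4) (ρ a) ↔ a = 4 ∨ a ∈ O) := by
  obtain ⟨n, hn, hnA, hnz⟩ := F.exists_move_z hNI
  obtain ⟨b, hb, hbe⟩ := F.mem_A.1 hnA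
  have hbc : IsConj (ρ 4) (ρ b) := isConj_iff.2 ⟨n, hbe.symm⟩
  have hb1 : ρ b ≠ 1 := fun e => Involutions.Basic.ne_one F.order_z (conj_eq_one_iff.1 (hbe ▸ e))
  have hbT : b ∉ tL := fun h => F.conj_T_pair (mem_sub_of_mem h) hb1 (hbe ▸ hnz) hno hbc
  obtain ⟨O, hO, hbO, hOb⟩ := four_cases b hb hbT
  refine ⟨O, hO, fun a ha => ⟨fun hca => ?_, ?_⟩⟩
  · by_cases haT : a ∈ tL
    · refine Or.inl (by_contra fun h4 => F.conj_T_pair (mem_sub_of_mem haT) ?_ ?_ hno hca)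
      · intro e
        obtain ⟨c, hc⟩ := isConj_iff.1 hca
        exact Involutions.Basic.ne_one F.order_z (conj_eq_one_iff.1 (hc.trans e))
      · exact fun e => h4 (F.inj a (aL_facts.1 a ha).1 4 code_facts.2.2.2.2.1.2.1 e)
    refine Or.inr (by_contra fun haO => ?_)
    -- both orbits of length four would be fused to `z`
    have hall : ∀ c ∈ aL, c ∉ tL → IsConj (ρ 4) (ρ c) := by
      intro c hc hcT
      rcases two_fours O hO c hc hcT with hcO | hcO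
      · obtain ⟨s, hs, e⟩ := hOb c hcO
        exact hbc.trans (isConj_iff.2 ⟨ρ s, by rw [← F.cj_eq hs (aL_facts.1 b hb).1, e]⟩)
      · obtain ⟨O', hO', haO', hO'a⟩ := four_cases a ha haT
        obtain ⟨s, hs, e⟩ := hO'a c (hcO O' hO' ((four_facts O hO).2.1 a ha haT haO O' hO' haO'))
        exact hca.trans (isConj_iff.2 ⟨ρ s, by rw [← F.cj_eq hs (aL_facts.1 a ha).1, e]⟩)
    have hT : ∀ c ∈ tL, c ≠ 0 → c ≠ 4 → n * ρ c * n⁻¹ ∈ subT ρ := by
      intro c hc hc0 hc4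
      have hcA := (code_facts.2.1 c hc).1
      obtain ⟨d, hd, hde⟩ := F.mem_A.1 ((mem_normalizer_iff.1 hn _).1 (mem_sub_of_mem hcA))
      refine hde ▸ mem_sub_of_mem (by_contra fun hdT => ?_)
      exact F.conj_T_pair (mem_sub_of_mem hc) (fun e => hc0 ((F.eq_one (aL_facts.1 c hcA).1).1 e))
        (fun e => hc4 (F.inj c (aL_facts.1 c hcA).1 4 code_facts.2.2.2.2.1.2.1 e)) hno
        ((hall d hd hdT).trans (isConj_iff.2 ⟨n, hde.symm⟩).symm)
    have h4 : n * ρ 4 * n⁻¹ ∈ subT ρ := by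
      rw [← z_split.1, F.mul_eq 2 (by decide) 6 (by decide),
        show n * (ρ 2 * ρ 6) * n⁻¹ = n * ρ 2 * n⁻¹ * (n * ρ 6 * n⁻¹) by group]
      exact mul_mem (hT 2 z_split.2.1 (by norm_num) (by norm_num)) (hT 6 z_split.2.2 (by norm_num) (by norm_num))
    rw [← hbe, F.code_T (aL_facts.1 b hb).1] at h4
    exact hbT h4
  · rintro (rfl | haO)
    · exact IsConj.refl _
    · obtain ⟨s, hs, e⟩ := hOb a haO
      exact hbc.trans (isConj_iff.2 ⟨ρ s, by rw [← F.cj_eq hs (aL_facts.1 b hb).1, e]⟩)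

/-- Every involution of `A` is carried into `T` by `N(A)`. -/
theorem cover {a : G} (ha : a ∈ subA ρ) (h1 : a ≠ 1) :
    ∃ n ∈ normalizer (subA ρ : Set G), n * a * n⁻¹ ∈ subT ρ := by
  obtain ⟨c, hc, rfl⟩ := F.mem_A.1 ha
  by_cases hp : ∃ g ∈ [1, 32, 33], IsConj (ρ 4) (ρ (pairOf g))
  · obtain ⟨g, hg, hgc⟩ := hp
    obtain ⟨f, hf, hf'⟩ := F.moveZ hg hgc
    obtain ⟨u, hu, v, hv, w, hw, hmem⟩ := Tab.orbit_facts g hg f hf c hc (fun e => h1 (by rw [e, F.zero]))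
    have hv' : Real ρ v := by
      simp only [List.mem_cons, List.not_mem_nil, or_false] at hv
      rcases hv with rfl | rfl | rfl
      exacts [F.real_one, hf', F.real_comp hf' hf']
    obtain ⟨n, hn, hne⟩ := F.real_comp (F.real_vL hu) (F.real_comp hv' (F.real_vL hw))
    rw [← hne] at hmem
    exact ⟨n, hn, (F.app_tab hn hc).2 ▸ mem_sub_of_mem hmem⟩
  push Not at hp
  obtain ⟨O, hO, hOc⟩ := F.five hNI hp
  by_cases hcT : c ∈ tL
  · exact ⟨1, one_mem _, by rw [one_mul, inv_one, mul_one]; exact mem_sub_of_mem hcT⟩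
  by_cases hcO : c ∈ O
  · obtain ⟨x, hx⟩ := isConj_iff.1 ((hOc c hc).2 (Or.inr hcO)).symm
    obtain ⟨n, hn, e⟩ := F.fusion_A (mem_sub_of_mem hc) (g := x) (hx ▸ F.z_mem_A)
    exact ⟨n, hn, by rw [e, hx]; exact F.z_mem_T⟩
  by_contra hno'
  push Not at hno'
  obtain ⟨O', hO', hcO', hO'c⟩ := four_cases c hc hcT
  have hne := (four_facts O hO).2.1 c hc hcT hcO O' hO' hcO'
  obtain ⟨n, hn, -, hnz⟩ := F.exists_move_z hNI
  have himg : ∀ b ∈ O', app (tab ρ n) b ∈ O' := by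
    intro b hb
    obtain ⟨hbA, hbT, hb0, hb4⟩ := (four_facts O' hO').1 b hb
    obtain ⟨hd, hde⟩ := F.app_tab hn hbA
    obtain ⟨s, hs, hse⟩ := hO'c b hb
    have hsb : ρ b = ρ s * ρ c * (ρ s)⁻¹ := by rw [← hse, F.cj_eq hs (aL_facts.1 c hc).1]
    have hdT : app (tab ρ n) b ∉ tL := fun h => hno' (n * ρ s) (mul_mem hn (F.S_le_NA (F.mem s hs))) (by
      rw [show n * ρ s * ρ c * (n * ρ s)⁻¹ = n * ρ b * n⁻¹ by rw [hsb]; group, ← hde]
      exact mem_sub_of_mem h)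
    rcases two_fours O hO _ hd hdT with h | h
    · exfalso
      have h5 : IsConj (ρ 4) (ρ c) := ((hOc _ hd).2 (Or.inr h)).trans
        ((isConj_iff.2 ⟨n, hde.symm⟩).symm.trans (isConj_iff.2 ⟨ρ s, hsb.symm⟩).symm)
      rcases (hOc c hc).1 h5 with e | e
      · exact hcT (e ▸ code_facts.2.2.2.2.1.1)
      · exact hcO e
    · exact h O' hO' hne
  obtain ⟨hO'm, -, hlen, hnd, hsum⟩ := four_facts O' hO'
  have hinj : ∀ a ∈ O', ∀ b ∈ O', app (tab ρ n) a = app (tab ρ n) b → a = b := fun a ha b hb e =>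
    F.inj a (aL_facts.1 a (hO'm a ha).1).1 b (aL_facts.1 b (hO'm b hb).1).1 (by
      have h1 := (F.app_tab hn (hO'm a ha).1).2
      rw [e, (F.app_tab hn (hO'm b hb).1).2] at h1
      exact (mul_left_cancel (mul_right_cancel h1)).symm)
  obtain ⟨a, b, d, e, rfl⟩ : ∃ a b d e, O' = [a, b, d, e] := by
    match O', hlen with
    | [a, b, d, e], _ => exact ⟨a, b, d, e, rfl⟩
  have ha := (hO'm a (by simp)).1
  have hb := (hO'm b (by simp)).1
  have hd := (hO'm d (by simp)).1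
  have he := (hO'm e (by simp)).1
  have hsum' := hsum _ (himg a (by simp)) _ (himg b (by simp)) _ (himg d (by simp)) _ (himg e (by simp))
    (hnd.map_on hinj)
  have himgA : ∀ x ∈ aL, app (tab ρ n) x ∈ aL := fun x hx => (F.app_tab hn hx).1
  have hfix : app (tab ρ n) 4 = 4 := by
    conv_lhs => rw [← hsum a (by simp) b (by simp) d (by simp) e (by simp) hnd]
    rw [F.app_mul hn (aL_facts.2.1 a ha b hb).2 (aL_facts.2.1 d hd e he).2, F.app_mul hn ha hb, F.app_mul hn hd he]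
    rw [← (aL_facts.2.1 _ (himgA a ha) _ (himgA b hb)).1, ← (aL_facts.2.1 _ (himgA d hd) _ (himgA e he)).1,
      ← (aL_facts.2.1 _ (aL_facts.2.1 _ (himgA a ha) _ (himgA b hb)).2 _
        (aL_facts.2.1 _ (himgA d hd) _ (himgA e he)).2).1]
    exact hsum'
  exact hnz ((F.app_eq hn four_aL four_aL).1 hfix)

/-- Every subgroup of index two of `A` meets the class of `z`. -/
theorem meet {H : Subgroup G} (hH : ∀ x ∈ subA ρ, ∀ y ∈ subA ρ, x ∉ H → y ∉ H → x * y ∈ H) :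
    ∃ x ∈ H, IsConj (ρ 4) x := by
  by_cases hz : ρ 4 ∈ H
  · exact ⟨_, hz, IsConj.refl _⟩
  by_cases hp : ∃ g ∈ [1, 32, 33], IsConj (ρ 4) (ρ (pairOf g))
  · obtain ⟨g, hg, hgc⟩ := hp
    obtain ⟨-, -, -, -, hpt, hpa, hps, -⟩ := pair_facts g hg
    by_cases hpH : ρ (pairOf g) ∈ H
    · exact ⟨_, hpH, hgc⟩
    obtain ⟨s, hs, e⟩ := pair_four g hg
    refine ⟨ρ 4 * ρ (pairOf g), hH _ F.z_mem_A _ (mem_sub_of_mem hpa) hz hpH, ?_⟩
    rw [← F.mul_eq 4 code_facts.2.2.2.2.1.2.1 _ hps, e, F.cj_eq hs hps]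
    exact hgc.trans (isConj_iff.2 ⟨ρ s, rfl⟩)
  push Not at hp
  obtain ⟨O, hO, hOc⟩ := F.five hNI hp
  obtain ⟨hOm, -, hlen, hnd, hsum⟩ := four_facts O hO
  obtain ⟨a, b, d, e, rfl⟩ : ∃ a b d e, O = [a, b, d, e] := by
    match O, hlen with
    | [a, b, d, e], _ => exact ⟨a, b, d, e, rfl⟩
  by_contra hcon
  push Not at hcon
  have hout : ∀ x ∈ [a, b, d, e], ρ x ∉ H := fun x hx h =>
    hcon _ h ((hOc x (hOm x hx).1).2 (Or.inr hx))
  have ha := (hOm a (by simp)).1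
  have hb := (hOm b (by simp)).1
  have hd := (hOm d (by simp)).1
  have he := (hOm e (by simp)).1
  refine hz ?_
  rw [← hsum a (by simp) b (by simp) d (by simp) e (by simp) hnd,
    F.mul_eq _ (aL_facts.1 _ (aL_facts.2.1 a ha b hb).2).1 _ (aL_facts.1 _ (aL_facts.2.1 d hd e he).2).1,
    F.mul_eq a (aL_facts.1 a ha).1 b (aL_facts.1 b hb).1, F.mul_eq d (aL_facts.1 d hd).1 e (aL_facts.1 e he).1]
  exact mul_mem (hH _ (mem_sub_of_mem ha) _ (mem_sub_of_mem hb) (hout a (by simp)) (hout b (by simp)))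
    (hH _ (mem_sub_of_mem hd) _ (mem_sub_of_mem he) (hout d (by simp)) (hout e (by simp)))

end Syl

namespace Syl

variable [Finite G] {S : Sylow 2 G} {ρ : ℕ → G} (F : Syl (S : Subgroup G) ρ)

include F

/-- A rotation fixing `z` excludes a fusion of `z` with a pair. -/
theorem rot {r : G} (hr : r ∈ normalizer (subA ρ : Set G)) (h4 : r * ρ 4 = ρ 4 * r)
    (h1 : tab ρ (r * ρ 1) = tab ρ (ρ 32 * r)) (h32 : tab ρ (r * ρ 32) = tab ρ (ρ 33 * r))
    (h3 : tab ρ (r * r * r) = one) : ∀ g ∈ [1, 32, 33], ¬ IsConj (ρ 4) (ρ (pairOf g)) := by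
  intro g hg hc
  obtain ⟨f, hf, hf'⟩ := F.moveZ hg hc
  have e4 : app (tab ρ r) 4 = 4 :=
    (F.app_eq hr (vL_one_basis.2 4 (by simp [basis])) (vL_one_basis.2 4 (by simp [basis]))).2
      (by rw [h4, mul_inv_cancel_right])
  have hmk := F.tab_mk4 hr
  rw [e4] at hmk
  have hswap : ∀ {g g' : ℕ}, g ∈ sL → g' ∈ sL → tab ρ (r * ρ g) = tab ρ (ρ g' * r) → ∀ b ∈ aL,
      app (tab ρ r) (Model.cj g b) = Model.cj g' (app (tab ρ r) b) := by
    intro g g' hgs hgs' e b hb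
    obtain ⟨x1, x2⟩ := F.app_tab hr hb
    have hN := mul_mem hr (F.S_le_NA (F.mem g hgs))
    have hN' := mul_mem (F.S_le_NA (F.mem g' hgs')) hr
    refine (F.app_eq hr ((code_facts.1 b hb).2.2 g hgs) ((code_facts.1 _ x1).2.2 g' hgs')).2 ?_
    rw [F.cj_eq hgs (aL_facts.1 b hb).1, F.cj_eq hgs' (aL_facts.1 _ x1).1, x2]
    have := (F.app_tab hN hb).2
    rw [e, (F.app_tab hN' hb).2] at this
    calc r * (ρ g * ρ b * (ρ g)⁻¹) * r⁻¹ = r * ρ g * ρ b * (r * ρ g)⁻¹ := by group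
      _ = ρ g' * r * ρ b * (ρ g' * r)⁻¹ := this.symm
      _ = ρ g' * (r * ρ b * r⁻¹) * (ρ g')⁻¹ := by group
  have hcube : ∀ b ∈ aL, app (tab ρ r) (app (tab ρ r) (app (tab ρ r) b)) = b := by
    intro b hb
    obtain ⟨x1, x2⟩ := F.app_tab hr hb
    obtain ⟨x3, x4⟩ := F.app_tab hr x1
    refine (F.app_eq hr x3 hb).2 ?_
    rw [x4, x2]
    have := (F.tab_eq_one (mul_mem (mul_mem hr hr) hr)).1 h3 _ (mem_sub_of_mem hb)
    calc r * (r * (r * ρ b * r⁻¹) * r⁻¹) * r⁻¹ = r * r * r * ρ b * (r * r * r)⁻¹ := by group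
      _ = ρ b := by rw [this, mul_inv_cancel_right]
  have hrL := Tab.rot_complete _ (F.app_tab hr (vL_one_basis.2 2 (by simp [basis]))).1 _
    (F.app_tab hr (vL_one_basis.2 8 (by simp [basis]))).1 _
    (F.app_tab hr (vL_one_basis.2 16 (by simp [basis]))).1 fun b hb => by
      rw [← hmk]
      exact ⟨hswap (by decide) (by decide) h1 b (vL_one_basis.2 b hb),
        hswap (by decide) (by decide) h32 b (vL_one_basis.2 b hb), hcube b (vL_one_basis.2 b hb)⟩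
  rw [← hmk] at hrL
  have := Tab.rot_facts _ hrL g hg f hf
  rw [F.not_bad (by simp [hf', show Real ρ (tab ρ r) from ⟨r, hr, rfl⟩])] at this
  exact absurd this (by simp)

/-- The centralizer in `N(A)` of a pair not fused to `z` has a Sylow 2-subgroup of order 32. -/
theorem card_le_pair {g : ℕ} (hg : g ∈ [1, 32, 33]) (hnc : ¬ IsConj (ρ 4) (ρ (pairOf g))) {P : Subgroup G}
    (hP : IsPGroup 2 P) (hPN : P ≤ normalizer (subA ρ : Set G))
    (hPc : ∀ x ∈ P, x * ρ (pairOf g) = ρ (pairOf g) * x) : Nat.card P ≤ 32 := by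
  classical
  obtain ⟨k, hk, hk'⟩ := F.conj_in_NA hP hPN
  obtain ⟨-, -, -, -, -, hpa, hps, hp0, -⟩ := pair_facts g hg
  obtain ⟨a, ha, hae⟩ := F.mem_A.1 ((mem_normalizer_iff.1 hk _).1 (mem_sub_of_mem hpa))
  have ha0 : a ≠ 0 := fun e => by
    rw [e, F.zero] at hae
    exact hp0 ((F.eq_one hps).1 (conj_eq_one_iff.1 hae.symm))
  have ha4 : a ≠ 4 := fun e => hnc (by
    rw [e] at hae
    exact (isConj_iff.2 ⟨k, hae.symm⟩).symm)
  have hlen := cent_small a ha ha0 ha4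
  set L := sL.filter fun b => Model.mul a b == Model.mul b a
  have hsub : ∀ x : P, ∃ b ∈ L.toFinset, ρ b = k * x * k⁻¹ := fun x => by
    obtain ⟨b, hb, e⟩ := F.surj _ (hk' x x.2)
    refine ⟨b, List.mem_toFinset.2 (List.mem_filter.2 ⟨hb, ?_⟩), e⟩
    have h := hPc x x.2
    simp only [beq_iff_eq]
    refine ((F.comm (aL_facts.1 a ha).1 hb).1 ?_)
    rw [e, hae]
    calc k * ρ (pairOf g) * k⁻¹ * (k * x * k⁻¹) = k * (ρ (pairOf g) * x) * k⁻¹ := by group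
      _ = k * x * k⁻¹ * (k * ρ (pairOf g) * k⁻¹) := by rw [← h]; group
  choose c hc hce using hsub
  have hinj : Function.Injective fun x : P => (⟨c x, hc x⟩ : L.toFinset) := fun x y e => by
    have h : k * (x : G) * k⁻¹ = k * y * k⁻¹ := by
      rw [← hce x, ← hce y, show c x = c y from congrArg Subtype.val e]
    exact Subtype.ext (mul_left_cancel (mul_right_cancel h))
  have h1 := Nat.card_le_card_of_injective _ hinj
  rw [Nat.card_eq_finsetCard] at h1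
  exact (h1.trans (List.toFinset_card_le L)).trans hlen

/-- The elements of odd order of `N(A)` fixing a pair not fused to `z` act as one of few maps. -/
theorem stab {g : ℕ} (hg : g ∈ [1, 32, 33]) (hnc : ¬ IsConj (ρ 4) (ρ (pairOf g))) {n : G}
    (hn : n ∈ normalizer (subA ρ : Set G)) (hno : Odd (orderOf n))
    (hnp : n * ρ (pairOf g) = ρ (pairOf g) * n) : tab ρ n = one ∨ tab ρ n ∈ yL g := by
  classical
  haveI : Fact (Nat.Prime 2) := ⟨Nat.prime_two⟩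
  obtain ⟨hgs, hgA, hgg, hg0, -, hpa, hps, -, -, hgp, -⟩ := pair_facts g hg
  set σ := ρ g with hσ
  set p := ρ (pairOf g) with hp
  have hσ2 : σ * σ = 1 := (F.sq_one hgs).2 hgg
  have hσi : σ⁻¹ = σ := inv_eq_of_mul_eq_one_right hσ2
  set K := normalizer (subA ρ : Set G) ⊓ centralizer ({p} : Set G)
  have hσK : σ ∈ K := ⟨F.S_le_NA (F.mem g hgs), mem_centralizer_singleton_iff.2
    (mul_inv_eq_iff_eq_mul.1 (by rw [hσ, hp, ← F.cj_eq hgs hps, hgp]))⟩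
  have hAK : subA ρ ≤ K := le_inf le_normalizer (F.A_le_cent (mem_sub_of_mem hpa))
  set M := (subA ρ).subgroupOf K
  haveI hMn : M.Normal := ⟨fun x hx y => (mem_normalizer_iff.1 y.2.1 _).1 hx⟩
  set π := QuotientGroup.mk' M
  set t := π ⟨σ, hσK⟩
  have hσA : σ ∉ subA ρ := fun h => hgA ((F.code_A hgs).1 h)
  have ht1 : t ≠ 1 := fun e => hσA (show (⟨σ, hσK⟩ : K) ∈ M from (QuotientGroup.eq_one_iff _).1 e)
  have ht2 : orderOf t = 2 := orderOf_eq_prime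
    (by rw [pow_two, ← map_mul, show (⟨σ, hσK⟩ : K) * ⟨σ, hσK⟩ = 1 from Subtype.ext hσ2, map_one]) ht1
  have hidx : (⊥ : Subgroup (K ⧸ M)).index % 4 = 2 := by
    rw [index_bot]
    have h2 : 2 ∣ Nat.card (K ⧸ M) := ht2 ▸ orderOf_dvd_natCard t
    by_contra h4
    have h4' : 2 ^ 2 ∣ Nat.card (K ⧸ M) := Nat.dvd_of_mod_eq_zero (by omega)
    obtain ⟨Q, hQ⟩ := Sylow.exists_subgroup_card_pow_prime 2 h4'
    set P := (Q.comap π).map K.subtype
    have hcard : Nat.card P = 16 * 4 := by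
      rw [card_map_of_injective K.subtype_injective, show Q.comap π = Q.comap (QuotientGroup.mk' M) from rfl]
      have h := QuotientGroup.card_preimage_mk M (Q : Set (K ⧸ M))
      rw [show Nat.card (Q.comap (QuotientGroup.mk' M)) = Nat.card (QuotientGroup.mk ⁻¹' (Q : Set (K ⧸ M))) from rfl,
        h, show Nat.card M = 16 from (Nat.card_congr (subgroupOfEquivOfLe hAK).toEquiv).trans F.card_A]
      congr 1
    have := F.card_le_pair hg hnc (P := P) (IsPGroup.of_card (n := 6) (by rw [hcard]; norm_num))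
      ((map_subtype_le _).trans inf_le_left) fun x hx =>
        mem_centralizer_singleton_iff.1 ((map_subtype_le _).trans inf_le_right hx)
    omega
  obtain ⟨K₁, hK₁, -⟩ := Involutions.ThompsonTransfer.exists_index_two_of_no_conj ⊥ hidx t ht2 fun c h =>
    ht1 (conj_eq_one_iff.1 (mem_bot.1 h))
  have hodd : Odd (Nat.card K₁) := by
    have h := K₁.card_mul_index
    rw [hK₁] at h
    rw [index_bot] at hidx
    exact Nat.odd_iff.2 (by omega)
  -- the part inverted by `σ`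
  have hnK' : n ∈ K := ⟨hn, mem_centralizer_singleton_iff.2 hnp⟩
  have hnK : (⟨n, hnK'⟩ : K) ∈ K₁.comap π := by
    have h2 := Subgroup.mul_self_mem_of_index_two hK₁ (π ⟨n, hnK'⟩)
    obtain ⟨j, hj⟩ := J2Type.Loc.mem_zpowers_sq (g := π ⟨n, hnK'⟩)
      (hno.of_dvd_nat ((orderOf_map_dvd π _).trans (dvd_of_eq (Subgroup.orderOf_coe _).symm)))
    show π _ ∈ K₁
    rw [← hj]
    exact K₁.zpow_mem h2 j
  set K₀ := (K₁.comap π).map K.subtype
  have hK₁n : K₁.Normal := Subgroup.normal_of_index_eq_two hK₁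
  have hn₀ : n ∈ K₀ := ⟨_, hnK, rfl⟩
  have hK₀σ : σ * n * σ⁻¹ ∈ K₀ := ⟨⟨σ, hσK⟩ * ⟨n, hnK'⟩ * ⟨σ, hσK⟩⁻¹,
    (Subgroup.Normal.comap hK₁n π).conj_mem _ hnK _, rfl⟩
  have hK₀ : ∀ x ∈ K₀, x ∈ K ∧ ∃ m : ℕ, Odd m ∧ x ^ m ∈ subA ρ := by
    rintro _ ⟨x, hx, rfl⟩
    exact ⟨x.2, _, hodd, (QuotientGroup.eq_one_iff (N := M) (x ^ Nat.card K₁)).1 (by
      show π (x ^ Nat.card K₁) = 1
      rw [map_pow]
      exact congrArg Subtype.val (pow_card_eq_one' (x := (⟨π x, hx⟩ : K₁))))⟩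
  set h := n⁻¹ * (σ * n * σ⁻¹) with hh
  have hh₀ : h ∈ K₀ := mul_mem (InvMemClass.inv_mem hn₀) hK₀σ
  have hσh : σ * h * σ = h⁻¹ := by
    rw [hh, hσi]
    calc σ * (n⁻¹ * (σ * n * σ)) * σ = σ * n⁻¹ * σ * n * (σ * σ) := by group
      _ = (n⁻¹ * (σ * n * σ))⁻¹ := by rw [hσ2, mul_one, mul_inv_rev, mul_inv_rev, mul_inv_rev, hσi, inv_inv]; group
  obtain ⟨a, b, ha, hb, hab, ⟨i, hi⟩, hbo⟩ := J2Type.Loc.exists_parts h
  have hpow : ∀ x ∈ zpowers h, σ * x * σ = x⁻¹ := by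
    rintro _ ⟨j, rfl⟩
    have := map_zpow (MulAut.conj σ) h j
    rw [MulAut.conj_apply, MulAut.conj_apply, hσi, hσh, inv_zpow] at this
    exact this
  have hz₀ : zpowers h ≤ K₀ := zpowers_le.2 hh₀
  have haA : a ∈ subA ρ := by
    obtain ⟨-, m, hm, hma⟩ := hK₀ a (hz₀ ha)
    obtain ⟨j, hj⟩ : a ∈ zpowers (a ^ m) := by
      have hcop : (orderOf a).Coprime m :=
        Nat.Coprime.coprime_dvd_left hi ((Nat.coprime_two_left.2 hm).pow_left i)
      obtain ⟨j, hj⟩ := exists_pow_eq_self_of_coprime hcop.symm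
      exact ⟨j, by show (a ^ m) ^ (j : ℤ) = a; rw [zpow_natCast]; exact hj⟩
    rw [← hj]
    exact zpow_mem hma j
  obtain ⟨c, hc⟩ : ∃ c : ℕ, (b ^ c) * (b ^ c) = b := by
    obtain ⟨c, hc, -⟩ := Involutions.Isolated.exists_sqrt hbo
    exact ⟨c, by rw [← pow_two]; exact hc⟩
  set d := b ^ c
  have hdh : d ∈ zpowers h := (zpowers h).pow_mem hb c
  have hdo : Odd (orderOf d) := hbo.of_dvd_nat (orderOf_pow_dvd c)
  have hdN : d ∈ normalizer (subA ρ : Set G) := (hK₀ d (hz₀ hdh)).1.1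
  have hdp : d * p = p * d := mem_centralizer_singleton_iff.1 (hK₀ d (hz₀ hdh)).1.2
  set f := n * d with hf
  have hf₀ : f ∈ K₀ := mul_mem hn₀ (hz₀ hdh)
  have hfN : f ∈ normalizer (subA ρ : Set G) := (hK₀ f hf₀).1.1
  have hdA : d * a = a * d := by
    obtain ⟨j, rfl⟩ := ha
    obtain ⟨l, hl⟩ := hdh
    rw [← show h ^ l = d from hl]
    exact (Commute.zpow_zpow_self h l j).eq
  have hσf : σ * f * σ⁻¹ = f * a := by
    calc σ * f * σ⁻¹ = n * (n⁻¹ * (σ * n * σ⁻¹)) * (σ * d * σ) := by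
          rw [hf]
          calc σ * (n * d) * σ⁻¹ = σ * n * σ⁻¹ * (σ * d * σ⁻¹) := by group
            _ = n * (n⁻¹ * (σ * n * σ⁻¹)) * (σ * d * σ) := by rw [hσi]; group
      _ = n * (a * (d * d)) * d⁻¹ := by rw [← hh, ← hab, hc, hpow d hdh]
      _ = n * (a * d) := by group
      _ = f * a := by rw [hf, ← hdA, ← mul_assoc]
  have hfc : ∀ x ∈ subA ρ, f * (σ * x * σ⁻¹) * f⁻¹ = σ * (f * x * f⁻¹) * σ⁻¹ := fun x hx => by
    have hy : σ * x * σ⁻¹ ∈ subA ρ := (mem_normalizer_iff.1 (F.S_le_NA (F.mem g hgs)) x).1 hx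
    calc f * (σ * x * σ⁻¹) * f⁻¹ = f * (a * (σ * x * σ⁻¹) * a⁻¹) * f⁻¹ := by
          rw [F.A_comm haA hy, mul_inv_cancel_right]
      _ = f * a * (σ * x * σ⁻¹) * (f * a)⁻¹ := by group
      _ = σ * (f * x * f⁻¹) * σ⁻¹ := by rw [← hσf]; group
  have hstab : ∀ {w : G} (hw : w ∈ normalizer (subA ρ : Set G)), w * p = p * w →
      ∃ i ∈ aL, ∃ j ∈ aL, ∃ k ∈ aL, tab ρ w = stabTab g i j k := by
    intro w hw hwp
    have hi := fun x (hx : x ∈ basis) => (F.app_tab hw (vL_one_basis.2 x hx)).1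
    have hfix : app (tab ρ w) (pairOf g) = pairOf g := (F.app_eq hw hpa hpa).2 (by
      rw [← hp, hwp, mul_inv_cancel_right])
    have hmk := F.tab_mk4 hw
    simp only [List.mem_cons, List.not_mem_nil, or_false] at hg
    rcases hg with rfl | rfl | rfl
    · refine ⟨_, hi 4 (by simp [basis]), _, hi 8 (by simp [basis]), _, hi 16 (by simp [basis]), ?_⟩
      rw [show app (tab ρ w) 2 = 2 from hfix] at hmk
      exact hmk
    · refine ⟨_, hi 2 (by simp [basis]), _, hi 4 (by simp [basis]), _, hi 8 (by simp [basis]), ?_⟩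
      rw [show app (tab ρ w) 16 = 16 from hfix] at hmk
      exact hmk
    · refine ⟨_, hi 2 (by simp [basis]), _, hi 4 (by simp [basis]), _, hi 8 (by simp [basis]), ?_⟩
      have h18 : Nat.xor (app (tab ρ w) 2) (app (tab ρ w) 16) = 18 := by
        rw [← F.app_mul hw (vL_one_basis.2 2 (by simp [basis])) (vL_one_basis.2 16 (by simp [basis]))]
        exact hfix
      rw [show app (tab ρ w) 16 = Nat.xor (app (tab ρ w) 2) 18 by
        rw [← h18]; exact (show ∀ a b : ℕ, Nat.xor a (Nat.xor a b) = b from fun a b => by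
          show a ^^^ (a ^^^ b) = b
          rw [← Nat.xor_assoc, Nat.xor_self, Nat.zero_xor]) _ _ |>.symm] at hmk
      exact hmk
  -- the fixed part acts trivially
  have hftriv : ∀ x ∈ subA ρ, f * x = x * f := by
    obtain ⟨i, hi, j, hj, k, hk, e⟩ := hstab hfN (mem_centralizer_singleton_iff.1 (hK₀ f hf₀).1.2)
    have h4 := Tab.stab_central g hg i hi j hj k hk
      (fun b hb => by rw [← e]; exact F.tab_commutes hfN hgs (vL_one_basis.2 b hb) hfc)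
      (by rw [← e]; exact F.tab_card hfN)
    rw [← e, ← F.tab_mul hfN hfN, ← F.tab_mul (mul_mem hfN hfN) (mul_mem hfN hfN)] at h4
    have h2 := F.four_free hfN ((F.tab_eq_one (mul_mem (mul_mem hfN hfN) (mul_mem hfN hfN))).1 h4)
    obtain ⟨-, m, ⟨l, rfl⟩, hma⟩ := hK₀ f hf₀
    intro x hx
    have e1 : f = f ^ (2 * l + 1) * ((f * f) ^ l)⁻¹ := by
      rw [← pow_two, ← pow_mul, pow_succ', mul_inv_cancel_right]
    rw [e1]
    exact ((show Commute (f ^ (2 * l + 1)) x from F.A_comm hma hx).mul_left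
      (Commute.pow_left (show Commute (f * f) x from h2 x hx) l).inv_left).eq
  have hdinv : σ * d⁻¹ * σ = (d⁻¹)⁻¹ := hpow _ (InvMemClass.inv_mem hdh)
  have hd'N := InvMemClass.inv_mem hdN
  have htab : tab ρ n = tab ρ d⁻¹ := by
    rw [show n = f * d⁻¹ by rw [hf, mul_inv_cancel_right]]
    exact (F.tab_congr hfN hd'N hftriv).1
  obtain ⟨i, hi, j, hj, k, hk, e⟩ := hstab hd'N (show Commute d⁻¹ p from (show Commute d p from hdp).inv_left).eq
  have hd'o : Odd (orderOf d⁻¹) := by rwa [orderOf_inv]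
  rw [htab]
  have hinv : ∀ b ∈ basis, Model.cj g (app (tab ρ d⁻¹) (Model.cj g (app (tab ρ d⁻¹) b))) = b :=
    fun b hb => F.tab_inverted F.S_le_NA hd'N hgs (vL_one_basis.2 b hb) hdinv
  have hfin : (∀ x ∈ subA ρ, d⁻¹ * d⁻¹ * d⁻¹ * x = x * (d⁻¹ * d⁻¹ * d⁻¹)) →
      tab ρ d⁻¹ = Tab.one ∨ tab ρ d⁻¹ ∈ yL g := by
    intro h3
    rcases Tab.stab_three g hg i hi j hj k hk (fun b hb => ⟨by rw [← e]; exact hinv b hb, by
        have hbA := vL_one_basis.2 b hb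
        obtain ⟨x1, x2⟩ := F.app_tab hd'N hbA
        obtain ⟨x3, x4⟩ := F.app_tab hd'N x1
        rw [← e]
        refine (F.app_eq hd'N x3 hbA).2 ?_
        rw [x4, x2]
        calc d⁻¹ * (d⁻¹ * (d⁻¹ * ρ b * d⁻¹⁻¹) * d⁻¹⁻¹) * d⁻¹⁻¹
            = d⁻¹ * d⁻¹ * d⁻¹ * ρ b * (d⁻¹ * d⁻¹ * d⁻¹)⁻¹ := by simp only [mul_inv_rev, mul_assoc]
          _ = ρ b := by rw [h3 _ (mem_sub_of_mem hbA), mul_inv_cancel_right]⟩) with h | h | h
    · exact Or.inl (e.trans h)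
    · rw [← e, F.not_bad (fun t' ht' => by rw [List.mem_singleton.1 ht']; exact ⟨_, hd'N, rfl⟩)] at h
      exact absurd h (by simp)
    · exact Or.inr (e ▸ h)
  rcases Tab.stab_inverted g hg i hi j hj k hk (fun b hb => by rw [← e]; exact hinv b hb)
      (by rw [← e]; exact F.tab_card hd'N) with h4 | h6
  · rw [← e, ← F.tab_mul hd'N hd'N, ← F.tab_mul (mul_mem hd'N hd'N) (mul_mem hd'N hd'N)] at h4
    exact Or.inl ((F.tab_eq_one hd'N).2 fun x hx =>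
      F.odd_four hd'o ((F.tab_eq_one (mul_mem (mul_mem hd'N hd'N) (mul_mem hd'N hd'N))).1 h4 x hx))
  · have h3N := mul_mem hd'N (mul_mem hd'N hd'N)
    rw [← e, ← F.tab_mul hd'N hd'N, ← F.tab_mul hd'N (mul_mem hd'N hd'N), ← F.tab_mul h3N h3N] at h6
    refine hfin fun x hx => ?_
    rw [mul_assoc d⁻¹ d⁻¹ d⁻¹]
    refine J2Type.Loc.fix_of_sq ?_ ((F.tab_eq_one (mul_mem h3N h3N)).1 h6 x hx)
    rw [← pow_two, ← pow_succ']
    exact hd'o.of_dvd_nat (orderOf_pow_dvd _)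

/-- Two such maps generate a group of order three. -/
theorem stab_eq {g : ℕ} (hg : g ∈ [1, 32, 33]) {y w : List ℕ} (hy : y ∈ yL g) (hw : w ∈ yL g) (hy' : Real ρ y)
    (hw' : Real ρ w) : w = y ∨ w = comp y y := by
  rcases Tab.stab_pair g hg y hy w hw with h | h | h
  · exact Or.inl h
  · exact Or.inr h
  · rw [F.not_bad (by simp [hy', hw'])] at h
    exact absurd h (by simp)

end Syl

end Cfsg.Agent.A8Type
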