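import Cfsg.Agent.Lib.A8Type.Defs
import Cfsg.Agent.Lib.J2Type.CentV
import Cfsg.Agent.Lib.J2Type.Local
import Cfsg.Agent.Lib.Involutions.Basic

/-!
The elementary abelian subgroup `A` of order 16: it is unique in `S`, weakly closed, and its normalizer controls
fusion in it.
-/

set_option autoImplicit false
set_option linter.style.haveILetI false
set_option linter.unusedSectionVars false
set_option maxHeartbeats 800000

namespace Cfsg.Agent.A8Type

open Subgroup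
open Cfsg.Agent.A8Type.Model
open Cfsg.Agent.J2Type (exists_conj_le)

universe u

variable {G : Type u} [Group G]

/-- Small facts on the codes. -/
theorem code_facts : (∀ a ∈ aL, Model.mul a a = 0 ∧ (∀ b ∈ aL, Model.mul a b = Model.mul b a) ∧
      ∀ g ∈ sL, Model.cj g a ∈ aL) ∧
    (∀ a ∈ tL, a ∈ aL ∧ a ∈ qL) ∧ (∀ a ∈ aL, a ∈ qL → a ∈ tL) ∧
    (∀ b ∈ sL, Model.mul 4 b = Model.mul b 4) ∧ (4 ∈ tL ∧ 4 ∈ sL ∧ Model.mul 4 4 = 0) ∧
    (∀ a ∈ sL, Model.mul a a = 0 → a ∈ aL ∨ a ∈ qL) ∧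
    (∀ a ∈ sL, (∀ b ∈ aL, Model.mul a b = Model.mul b a) → a ∈ aL) ∧
    (∀ a ∈ sL, ∀ b ∈ sL, Model.mul (Model.cj a b) (Model.inv b) ∈ tL) := by decide +kernel

theorem few_comm : ∀ a ∈ sL, Model.mul a a = 0 → a ∉ aL →
    (sL.filter fun b => Model.mul b b == 0 && Model.mul a b == Model.mul b a).length < 16 := by decide +kernel

/-- A map permuting the elements of a finite subgroup normalizes it. -/
theorem mem_normalizer_of_maps [Finite G] {T : Subgroup G} {g : G} (h : ∀ t ∈ T, g * t * g⁻¹ ∈ T) :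
    g ∈ normalizer (T : Set G) := by
  have heq : T.map (MulAut.conj g).toMonoidHom = T :=
    eq_of_le_of_card_ge (by rintro _ ⟨t, ht, rfl⟩; exact h t ht)
      (by rw [card_map_of_injective (MulAut.conj _).injective])
  refine mem_normalizer_iff.2 fun t => ⟨h t, fun ht => ?_⟩
  rw [← heq] at ht
  obtain ⟨t', ht', e1⟩ := ht
  exact (MulAut.conj g).injective e1 ▸ ht'

namespace Syl

variable {S : Subgroup G} {ρ : ℕ → G} (F : Syl S ρ)

include F

theorem mem_sL {L : List ℕ} (hL : L ∈ [aL, qL, tL]) {a : ℕ} (ha : a ∈ L) : a ∈ sL := (lists.1 L hL).2.2.1 a ha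

theorem A_le : subA ρ ≤ S := fun g hg => by
  obtain ⟨a, ha, rfl⟩ := F.mem_A.1 hg
  exact F.mem a (F.mem_sL (by simp) ha)

theorem Q_le : subQ ρ ≤ S := fun g hg => by
  obtain ⟨a, ha, rfl⟩ := F.mem_Q.1 hg
  exact F.mem a (F.mem_sL (by simp) ha)

theorem T_le_A : subT ρ ≤ subA ρ := fun g hg => by
  obtain ⟨a, ha, rfl⟩ := F.mem_T.1 hg
  exact mem_sub_of_mem (code_facts.2.1 a ha).1

theorem T_le_Q : subT ρ ≤ subQ ρ := fun g hg => by
  obtain ⟨a, ha, rfl⟩ := F.mem_T.1 hg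
  exact mem_sub_of_mem (code_facts.2.1 a ha).2

theorem A_inf_Q {g : G} (hA : g ∈ subA ρ) (hQ : g ∈ subQ ρ) : g ∈ subT ρ := by
  obtain ⟨a, ha, rfl⟩ := F.mem_A.1 hA
  obtain ⟨b, hb, e⟩ := F.mem_Q.1 hQ
  have := F.inj b (F.mem_sL (by simp) hb) a (F.mem_sL (by simp) ha) e
  subst this
  exact mem_sub_of_mem (code_facts.2.2.1 b ha hb)

theorem code_A {a : ℕ} (ha : a ∈ sL) : ρ a ∈ subA ρ ↔ a ∈ aL := by
  refine ⟨fun h => ?_, mem_sub_of_mem⟩
  obtain ⟨b, hb, e⟩ := F.mem_A.1 h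
  exact F.inj b (F.mem_sL (by simp) hb) a ha e ▸ hb

theorem code_Q {a : ℕ} (ha : a ∈ sL) : ρ a ∈ subQ ρ ↔ a ∈ qL := by
  refine ⟨fun h => ?_, mem_sub_of_mem⟩
  obtain ⟨b, hb, e⟩ := F.mem_Q.1 h
  exact F.inj b (F.mem_sL (by simp) hb) a ha e ▸ hb

theorem code_T {a : ℕ} (ha : a ∈ sL) : ρ a ∈ subT ρ ↔ a ∈ tL := by
  refine ⟨fun h => ?_, mem_sub_of_mem⟩
  obtain ⟨b, hb, e⟩ := F.mem_T.1 h
  exact F.inj b (F.mem_sL (by simp) hb) a ha e ▸ hb

theorem A_sq {g : G} (hg : g ∈ subA ρ) : g * g = 1 := by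
  obtain ⟨a, ha, rfl⟩ := F.mem_A.1 hg
  exact (F.sq_one (F.mem_sL (by simp) ha)).2 (code_facts.1 a ha).1

theorem A_inv {g : G} (hg : g ∈ subA ρ) : g⁻¹ = g := inv_eq_of_mul_eq_one_right (F.A_sq hg)

theorem A_comm {a b : G} (ha : a ∈ subA ρ) (hb : b ∈ subA ρ) : a * b = b * a := by
  obtain ⟨a, ha', rfl⟩ := F.mem_A.1 ha
  obtain ⟨b, hb', rfl⟩ := F.mem_A.1 hb
  exact (F.comm (F.mem_sL (by simp) ha') (F.mem_sL (by simp) hb')).2 ((code_facts.1 a ha').2.1 b hb')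

theorem A_le_cent {a : G} (ha : a ∈ subA ρ) : subA ρ ≤ centralizer ({a} : Set G) := fun _ hb =>
  mem_centralizer_singleton_iff.2 (F.A_comm hb ha)

theorem A_p : IsPGroup 2 (subA ρ) := IsPGroup.of_card (n := 4) (by rw [F.card_A]; norm_num)

theorem A_order {a : G} (ha : a ∈ subA ρ) (h1 : a ≠ 1) : orderOf a = 2 :=
  orderOf_eq_prime (by rw [pow_two, F.A_sq ha]) h1

theorem z_comm {s : G} (hs : s ∈ S) : s * ρ 4 = ρ 4 * s := by
  obtain ⟨a, ha, rfl⟩ := F.surj s hs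
  exact ((F.comm code_facts.2.2.2.2.1.2.1 ha).2 (code_facts.2.2.2.1 a ha)).symm

theorem le_cent_z : S ≤ centralizer ({ρ 4} : Set G) := fun _ hs =>
  mem_centralizer_singleton_iff.2 (F.z_comm hs)

theorem order_z : orderOf (ρ 4) = 2 :=
  F.orderOf_two code_facts.2.2.2.2.1.2.1 code_facts.2.2.2.2.1.2.2 (by norm_num)

theorem z_mem_T : ρ 4 ∈ subT ρ := mem_sub_of_mem code_facts.2.2.2.2.1.1

theorem z_mem_A : ρ 4 ∈ subA ρ := F.T_le_A F.z_mem_T

/-- Commutators of elements of `S` lie in `T`. -/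
theorem comm_mem_T {x y : G} (hx : x ∈ S) (hy : y ∈ S) : x * y * x⁻¹ * y⁻¹ ∈ subT ρ := by
  obtain ⟨a, ha, rfl⟩ := F.surj x hx
  obtain ⟨b, hb, rfl⟩ := F.surj y hy
  rw [← F.cj_eq ha hb, ← F.inv_eq hb, ← F.mul_eq (Model.cj a b) (closed _ (closed a ha b hb) _ (inv_mem a ha)) _ (inv_mem b hb)]
  exact mem_sub_of_mem (code_facts.2.2.2.2.2.2.2 a ha b hb)

theorem S_le_NA [Finite G] : S ≤ normalizer (subA ρ : Set G) := fun s hs => by
  obtain ⟨g, hg, rfl⟩ := F.surj s hs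
  refine mem_normalizer_of_maps fun t ht => ?_
  obtain ⟨a, ha, rfl⟩ := F.mem_A.1 ht
  rw [← F.cj_eq hg (F.mem_sL (by simp) ha)]
  exact mem_sub_of_mem ((code_facts.1 a ha).2.2 g hg)

/-- An involution of `S` lies in `A` or in `Q`. -/
theorem invol_cases {g : G} (hg : g ∈ S) (h2 : g * g = 1) : g ∈ subA ρ ∨ g ∈ subQ ρ := by
  obtain ⟨a, ha, rfl⟩ := F.surj g hg
  exact (code_facts.2.2.2.2.2.1 a ha ((F.sq_one ha).1 h2)).imp mem_sub_of_mem mem_sub_of_mem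

/-- An element of `S` centralizing `A` lies in it. -/
theorem cent_A_S {g : G} (hg : g ∈ S) (hc : ∀ a ∈ subA ρ, g * a = a * g) : g ∈ subA ρ := by
  obtain ⟨a, ha, rfl⟩ := F.surj g hg
  exact mem_sub_of_mem (code_facts.2.2.2.2.2.2.1 a ha fun b hb =>
    (F.comm ha (F.mem_sL (by simp) hb)).1 (hc _ (mem_sub_of_mem hb)))

/-- The only elementary subgroup of order 16 of `S`. -/
theorem sixteen {H : Subgroup G} (hH : H ≤ S) (hc : Nat.card H = 16) (hsq : ∀ h ∈ H, h * h = 1) :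
    H = subA ρ := by
  classical
  haveI : Finite H := Nat.finite_of_card_ne_zero (by omega)
  haveI : Finite (subA ρ) := Nat.finite_of_card_ne_zero (by rw [F.card_A]; omega)
  refine eq_of_le_of_card_ge (fun h hh => ?_) (by rw [F.card_A, hc])
  obtain ⟨a, ha, rfl⟩ := F.surj h (hH hh)
  by_contra hno
  have hlt := few_comm a ha ((F.sq_one ha).1 (hsq _ hh)) fun h => hno (mem_sub_of_mem h)
  set L := sL.filter fun b => Model.mul b b == 0 && Model.mul a b == Model.mul b a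
  have hsub : ∀ x : H, ∃ b ∈ L.toFinset, ρ b = (x : G) := fun x => by
    obtain ⟨b, hb, e⟩ := F.surj x (hH x.2)
    have hxa : ρ a * (x : G) = x * ρ a := by
      have h1 : ∀ c ∈ H, c⁻¹ = c := fun c hc => inv_eq_of_mul_eq_one_right (hsq c hc)
      rw [← h1 (ρ a * x) (mul_mem hh x.2), mul_inv_rev, h1 _ hh, h1 _ x.2]
    refine ⟨b, List.mem_toFinset.2 (List.mem_filter.2 ⟨hb, ?_⟩), e⟩
    rw [← e] at hxa
    simp [(F.sq_one hb).1 (e.symm ▸ hsq _ x.2), (F.comm ha hb).1 hxa]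
  choose c hc' hce using hsub
  have hinj : Function.Injective fun x : H => (⟨c x, hc' x⟩ : L.toFinset) := fun x y e =>
    Subtype.ext (by rw [← hce x, ← hce y, show c x = c y from congrArg Subtype.val e])
  have h1 := Nat.card_le_card_of_injective _ hinj
  rw [hc, Nat.card_eq_finsetCard] at h1
  exact absurd (h1.trans (List.toFinset_card_le L)) (by omega)

/-- An element conjugating `A` into `S` normalizes it. -/
theorem norm_A [Finite G] {g : G} (h : ∀ a ∈ subA ρ, g * a * g⁻¹ ∈ S) : g ∈ normalizer (subA ρ : Set G) := by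
  have heq := F.sixteen (H := (subA ρ).map (MulAut.conj g).toMonoidHom)
    (by rintro _ ⟨a, ha, rfl⟩; exact h a ha)
    (by rw [card_map_of_injective (MulAut.conj g).injective, F.card_A])
    (by rintro _ ⟨b, hb, rfl⟩; rw [← map_mul, F.A_sq hb, map_one])
  exact mem_normalizer_of_maps fun a ha => heq ▸ ⟨a, ha, rfl⟩

end Syl

namespace Syl

variable [Finite G] {S : Sylow 2 G} {ρ : ℕ → G} (F : Syl (S : Subgroup G) ρ)

include F

/-- A 2-subgroup containing `A` is carried into `S` by an element of the normalizer of `A`. -/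
theorem exists_into_S {P : Subgroup G} (hP : IsPGroup 2 P) (hA : subA ρ ≤ P) :
    ∃ h ∈ normalizer (subA ρ : Set G), ∀ p ∈ P, h * p * h⁻¹ ∈ (S : Subgroup G) := by
  obtain ⟨k, hk⟩ := exists_conj_le S hP
  exact ⟨k, F.norm_A fun a ha => hk ⟨a, hA ha, rfl⟩, fun p hp => hk ⟨p, hp, rfl⟩⟩

/-- A 2-subgroup containing `A` normalizes it. -/
theorem two_le_NA {P : Subgroup G} (hP : IsPGroup 2 P) (hA : subA ρ ≤ P) :
    P ≤ normalizer (subA ρ : Set G) := fun p hp => by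
  obtain ⟨h, hh, hP'⟩ := F.exists_into_S hP hA
  have h1 := mul_mem (mul_mem (inv_mem hh) (F.S_le_NA (hP' p hp))) hh
  rwa [show h⁻¹ * (h * p * h⁻¹) * h = p by group] at h1

/-- A 2-subgroup of the normalizer of `A` is carried into `S` there. -/
theorem conj_in_NA {P : Subgroup G} (hP : IsPGroup 2 P) (h : P ≤ normalizer (subA ρ : Set G)) :
    ∃ k ∈ normalizer (subA ρ : Set G), ∀ p ∈ P, k * p * k⁻¹ ∈ (S : Subgroup G) := by
  obtain ⟨k, hk, hk'⟩ := F.exists_into_S (F.A_p.to_sup_of_normal_left' hP h) le_sup_left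
  exact ⟨k, hk, fun p hp => hk' p (mem_sup_right hp)⟩

/-- The normalizer of `A` controls fusion in it. -/
theorem fusion_A {a g : G} (ha : a ∈ subA ρ) (hga : g * a * g⁻¹ ∈ subA ρ) :
    ∃ n ∈ normalizer (subA ρ : Set G), n * a * n⁻¹ = g * a * g⁻¹ := by
  classical
  haveI : Fact (Nat.Prime 2) := ⟨Nat.prime_two⟩
  set b := g * a * g⁻¹ with hb
  set C := centralizer ({b} : Set G)
  set A' := (subA ρ).map (MulAut.conj g).toMonoidHom
  have hAC : subA ρ ≤ C := F.A_le_cent hga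
  have hA'C : A' ≤ C := by
    rintro _ ⟨c, hc, rfl⟩
    refine mem_centralizer_singleton_iff.2 ?_
    show g * c * g⁻¹ * b = b * (g * c * g⁻¹)
    rw [hb, show g * c * g⁻¹ * (g * a * g⁻¹) = g * (c * a) * g⁻¹ by group, F.A_comm hc ha]
    group
  obtain ⟨P, hP⟩ := (F.A_p.comap_subtype : IsPGroup 2 ((subA ρ).subgroupOf C)).exists_le_sylow
  obtain ⟨P', hP'⟩ := ((F.A_p.map _).comap_subtype : IsPGroup 2 (A'.subgroupOf C)).exists_le_sylow
  obtain ⟨k, hk⟩ := MulAction.exists_smul_eq C P' P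
  obtain ⟨h, hh, hPS⟩ := F.exists_into_S (P.isPGroup'.map C.subtype)
    (fun c hc => ⟨⟨c, hAC hc⟩, hP (mem_subgroupOf.2 hc), rfl⟩)
  refine ⟨k * g, ?_, ?_⟩
  · have hN : h * ((k : G) * g) ∈ normalizer (subA ρ : Set G) := F.norm_A fun c hc => by
      have hmem : g * c * g⁻¹ ∈ A' := ⟨c, hc, rfl⟩
      have h1 : (k * ⟨_, hA'C hmem⟩ * k⁻¹ : C) ∈ (P : Subgroup C) := by
        rw [← hk, Sylow.coe_subgroup_smul]
        exact ⟨_, hP' (mem_subgroupOf.2 hmem), rfl⟩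
      have h2 := hPS _ ⟨_, h1, rfl⟩
      rwa [Subgroup.coe_subtype, Subgroup.coe_mul, Subgroup.coe_mul, Subgroup.coe_inv,
        show h * ((k : G) * (g * c * g⁻¹) * (k : G)⁻¹) * h⁻¹ = h * ((k : G) * g) * c * (h * ((k : G) * g))⁻¹ by group]
        at h2
    have := mul_mem (inv_mem hh) hN
    rwa [inv_mul_cancel_left] at this
  · rw [show (k : G) * g * a * ((k : G) * g)⁻¹ = (k : G) * b * (k : G)⁻¹ by rw [hb]; group,
      mem_centralizer_singleton_iff.1 k.2, mul_inv_cancel_right]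

/-- A conjugate in `N(A)` of an element of `A` whose centralizer has a Sylow 2-subgroup inside `S`. -/
theorem exists_full {a : G} (ha : a ∈ subA ρ) : ∃ h ∈ normalizer (subA ρ : Set G), h * a * h⁻¹ ∈ subA ρ ∧
    ∀ P : Subgroup G, IsPGroup 2 P → P ≤ centralizer ({h * a * h⁻¹} : Set G) →
      ∃ k ∈ centralizer ({h * a * h⁻¹} : Set G), ∀ p ∈ P, k * p * k⁻¹ ∈ (S : Subgroup G) := by
  classical
  haveI : Fact (Nat.Prime 2) := ⟨Nat.prime_two⟩
  set C := centralizer ({a} : Set G)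
  obtain ⟨P₀, hP₀⟩ := (F.A_p.comap_subtype : IsPGroup 2 ((subA ρ).subgroupOf C)).exists_le_sylow
  obtain ⟨h, hh, hPS⟩ := F.exists_into_S (P₀.isPGroup'.map C.subtype)
    (fun c hc => ⟨⟨c, F.A_le_cent ha hc⟩, hP₀ (mem_subgroupOf.2 hc), rfl⟩)
  refine ⟨h, hh, (mem_normalizer_iff.1 hh a).1 ha, fun P hP hPc => ?_⟩
  set P' := P.map (MulAut.conj h⁻¹).toMonoidHom
  have hP'C : P' ≤ C := by
    rintro _ ⟨p, hp, rfl⟩
    refine mem_centralizer_singleton_iff.2 ?_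
    show h⁻¹ * p * h⁻¹⁻¹ * a = a * (h⁻¹ * p * h⁻¹⁻¹)
    rw [show h⁻¹ * p * h⁻¹⁻¹ * a = h⁻¹ * (p * (h * a * h⁻¹)) * h by group,
      mem_centralizer_singleton_iff.1 (hPc hp)]
    group
  obtain ⟨P₁, hP₁⟩ := ((hP.map _).comap_subtype : IsPGroup 2 (P'.subgroupOf C)).exists_le_sylow
  obtain ⟨k, hk⟩ := MulAction.exists_smul_eq C P₁ P₀
  refine ⟨h * k * h⁻¹, mem_centralizer_singleton_iff.2 ?_, fun p hp => ?_⟩
  · rw [show h * k * h⁻¹ * (h * a * h⁻¹) = h * ((k : G) * a) * h⁻¹ by group, mem_centralizer_singleton_iff.1 k.2]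
    group
  · have hp' : h⁻¹ * p * h⁻¹⁻¹ ∈ P' := ⟨p, hp, rfl⟩
    have h1 : (k * ⟨_, hP'C hp'⟩ * k⁻¹ : C) ∈ (P₀ : Subgroup C) := by
      rw [← hk, Sylow.coe_subgroup_smul]
      exact ⟨_, hP₁ (mem_subgroupOf.2 hp'), rfl⟩
    have h2 := hPS _ ⟨_, h1, rfl⟩
    rwa [Subgroup.coe_subtype, Subgroup.coe_mul, Subgroup.coe_mul, Subgroup.coe_inv,
      show h * ((k : G) * (h⁻¹ * p * h⁻¹⁻¹) * (k : G)⁻¹) * h⁻¹ = h * k * h⁻¹ * p * (h * k * h⁻¹)⁻¹ by group] at h2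

/-- An element of 2-power order centralizing `A` lies in it. -/
theorem two_cent_A {g : G} (hc : ∀ a ∈ subA ρ, g * a = a * g) {i : ℕ} (hi : orderOf g ∣ 2 ^ i) : g ∈ subA ρ := by
  obtain ⟨k, hk, hk'⟩ := F.conj_in_NA (J2Type.Loc.isPGroup_zpowers hi) (zpowers_le.2
    (centralizer_le_normalizer _ (mem_centralizer_iff.2 fun a ha => (hc a ha).symm)))
  have h1 : k * g * k⁻¹ ∈ subA ρ := F.cent_A_S (hk' g (mem_zpowers g)) fun a ha => by
    have h2 := hc _ ((mem_normalizer_iff''.1 hk a).1 ha)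
    calc k * g * k⁻¹ * a = k * (g * (k⁻¹ * a * k)) * k⁻¹ := by group
      _ = a * (k * g * k⁻¹) := by rw [h2]; group
  exact (mem_normalizer_iff.1 hk g).2 h1

/-- The elements of odd order centralizing `A`. -/
theorem exists_cent_A : ∃ D : Subgroup G, D ≤ centralizer (subA ρ : Set G) ∧ Odd (Nat.card D) ∧
    (∀ g, (∀ a ∈ subA ρ, g * a = a * g) → Odd (orderOf g) → g ∈ D) ∧
    centralizer (subA ρ : Set G) = subA ρ ⊔ D := by
  obtain ⟨D, h1, h2, h3, h4, -⟩ := J2Type.Loc.exists_odd_part (K := centralizer (subA ρ : Set G)) (T := subA ρ)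
    (fun a ha => mem_centralizer_iff.2 fun b hb => F.A_comm hb ha) F.A_p
    (fun a ha g hg => mem_centralizer_iff.1 hg a ha)
    (fun g hg ⟨i, hi⟩ => F.two_cent_A (fun a ha => (mem_centralizer_iff.1 hg a ha).symm) hi)
  exact ⟨D, h1, h2, fun g hg ho => h3 g (mem_centralizer_iff.2 fun a ha => (hg a ha).symm) ho, h4⟩

end Syl

end Cfsg.Agent.A8Type
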