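import Cfsg.Agent.Lib.A8Type.Basic
import Cfsg.Agent.Lib.A8Type.Tab
import Cfsg.Agent.Lib.J2Type.CoreW
import Cfsg.Agent.Lib.J2Type.Local2

/-!
Balance at an involution of `A`, and the shape of the centralizer of one which is not conjugate to `z`.
-/

set_option autoImplicit false
set_option linter.style.haveILetI false
set_option linter.unusedSectionVars false

namespace Cfsg.Agent.A8Type

open Subgroup


universe u

variable {G : Type u} [Group G]

/-- The subgroups of odd order of `C(a)` normalized by `A` lie in its core. -/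
def BalA (ρ : ℕ → G) (a : G) : Prop :=
  ∀ K : Subgroup G, K ≤ centralizer ({a} : Set G) → Odd (Nat.card K) → subA ρ ≤ normalizer (K : Set G) →
    K ≤ J2Type.Loc.core a

/-- The subgroups of odd order of `C(a)` normalized by `T` lie in its core. -/
def BalT (ρ : ℕ → G) (a : G) : Prop :=
  ∀ K : Subgroup G, K ≤ centralizer ({a} : Set G) → Odd (Nat.card K) → subT ρ ≤ normalizer (K : Set G) →
    K ≤ J2Type.Loc.core a

/-- A four-group of `A` without conjugates of `z`, central modulo the core for the elements of odd order. -/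
structure Central (ρ : ℕ → G) (a : G) (D : Subgroup G) : Prop where
  le : D ≤ subA ρ
  mem : a ∈ D
  card : Nat.card D = 4
  pure : ∀ d ∈ D, d ≠ 1 → ¬ IsConj (ρ 4) d
  odd : ∀ d ∈ D, ∀ x : G, x * a = a * x → Odd (orderOf x) → d * x * d⁻¹ * x⁻¹ ∈ J2Type.Loc.core a
  bal : ∀ d ∈ D, d ≠ 1 → J2Type.Loc.core d ⊓ centralizer ({a} : Set G) ≤ J2Type.Loc.core a

/-- The facts on fusion in the two shapes of `C(z)`. -/
structure Fus [Finite G] (S : Sylow 2 G) (ρ : ℕ → G) : Prop where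
  nI : ∃ b ∈ subA ρ, b ≠ ρ 4 ∧ IsConj (ρ 4) b
  notA : ∀ g ∈ [1, 32, 33], ¬ IsConj (ρ 4) (ρ (Tab.pairOf g)) →
    ∀ h : G, h * ρ (Tab.pairOf g) =
      ρ (Tab.pairOf g) * h → h * ρ g * h⁻¹ ∉ subA ρ

theorem BalT.balA [Finite G] {S : Subgroup G} {ρ : ℕ → G} (F : Syl S ρ) {a : G} (h : BalT ρ a) : BalA ρ a :=
  fun K hK hKo hA => h K hK hKo (F.T_le_A.trans hA)

theorem cent_conj {a : G} {n x : G} (hx : x * (n * a * n⁻¹) = n * a * n⁻¹ * x) :
    n⁻¹ * x * n * a = a * (n⁻¹ * x * n) := by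
  calc n⁻¹ * x * n * a = n⁻¹ * (x * (n * a * n⁻¹)) * n := by group
    _ = a * (n⁻¹ * x * n) := by rw [hx]; group

theorem BalA.conj [Finite G] {ρ : ℕ → G} {a n : G} (hn : n ∈ normalizer (subA ρ : Set G)) (h : BalA ρ a) :
    BalA ρ (n * a * n⁻¹) := by
  intro K hK hKo hA x hx
  have h1 : n⁻¹ * x * n ∈ J2Type.Loc.core a := by
    refine h (K.map (MulAut.conj n⁻¹).toMonoidHom) ?_ ?_ ?_ ⟨x, hx, by simp⟩
    · rintro _ ⟨y, hy, rfl⟩
      refine mem_centralizer_singleton_iff.2 ?_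
      show n⁻¹ * y * n⁻¹⁻¹ * a = a * (n⁻¹ * y * n⁻¹⁻¹)
      rw [inv_inv]
      exact cent_conj (mem_centralizer_singleton_iff.1 (hK hy))
    · rwa [card_map_of_injective (MulAut.conj _).injective]
    · intro b hb
      refine mem_normalizer_of_maps ?_
      rintro _ ⟨y, hy, rfl⟩
      exact ⟨n * b * n⁻¹ * y * (n * b * n⁻¹)⁻¹,
        (mem_normalizer_iff.1 (hA ((mem_normalizer_iff.1 hn b).1 hb)) y).1 hy, by simp [mul_assoc]⟩
  have := J2Type.Loc.core_map (g := n) h1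
  rwa [show n * (n⁻¹ * x * n) * n⁻¹ = x by group] at this

theorem Central.conj [Finite G] {ρ : ℕ → G} {a n : G} {D : Subgroup G} (hn : n ∈ normalizer (subA ρ : Set G))
    (h : Central ρ a D) : Central ρ (n * a * n⁻¹) (D.map (MulAut.conj n).toMonoidHom) where
  le := by
    rintro _ ⟨d, hd, rfl⟩
    exact (mem_normalizer_iff.1 hn d).1 (h.le hd)
  mem := ⟨a, h.mem, rfl⟩
  card := by rw [card_map_of_injective (MulAut.conj n).injective]; exact h.card
  pure := by
    rintro _ ⟨d, hd, rfl⟩ h1 hc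
    exact h.pure d hd (fun e => h1 (by rw [e]; exact map_one _)) (hc.trans (isConj_iff.2 ⟨n, rfl⟩).symm)
  odd := by
    rintro _ ⟨d, hd, rfl⟩ x hx hxo
    have h1 := J2Type.Loc.core_map (g := n) (h.odd d hd (n⁻¹ * x * n) (cent_conj hx) (by
      rw [show n⁻¹ * x * n = n⁻¹ * x * n⁻¹⁻¹ by rw [inv_inv], Involutions.Basic.orderOf_conj]; exact hxo))
    rwa [show n * (d * (n⁻¹ * x * n) * d⁻¹ * (n⁻¹ * x * n)⁻¹) * n⁻¹ =
      n * d * n⁻¹ * x * (n * d * n⁻¹)⁻¹ * x⁻¹ by group] at h1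
  bal := by
    rintro _ ⟨d, hd, rfl⟩ h1 x ⟨hx, hxa⟩
    have hx' := J2Type.Loc.core_map (g := n⁻¹) hx
    rw [show n⁻¹ * (MulAut.conj n).toMonoidHom d * n⁻¹⁻¹ = d by simp [mul_assoc], inv_inv] at hx'
    have h2 := h.bal d hd (fun e => h1 (by rw [e]; exact map_one _))
      ⟨hx', mem_centralizer_singleton_iff.2 (cent_conj (mem_centralizer_singleton_iff.1 hxa))⟩
    have h3 := J2Type.Loc.core_map (g := n) h2
    rwa [show n * (n⁻¹ * x * n) * n⁻¹ = x by group] at h3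

end Cfsg.Agent.A8Type
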