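import Cfsg.Agent.Lib.A8Type.ActFacts
import Cfsg.Agent.Lib.A8Type.PairDefs
import Cfsg.Agent.Lib.Involutions.FusionTransfer
import Cfsg.Agent.Lib.Involutions.Isolated
import Cfsg.Agent.Lib.IndexFourCentre.Abelian
import Cfsg.Agent.Lib.ZStar.Main
import Cfsg.Agent.Lib.Transfer.NormalPComplement

/-!
The centralizer of a pair not fused to `z`: it is balanced, or a four-group of `A` is central in it modulo
the core.
-/

set_option autoImplicit false
set_option linter.style.haveILetI false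
set_option linter.unusedSectionVars false
set_option maxHeartbeats 800000

namespace Cfsg.Agent.A8Type

open Subgroup
open Cfsg.Agent.A8Type.Model
open Cfsg.Agent.A8Type.Tab (app comp sTab vL pairOf yL)
open Cfsg.Agent.J2Type (Loc.core)

universe u

variable {G : Type u} [Group G]

/-- The involutions of a coset of `A` are conjugate under `A`. -/
theorem coset_conj : ∀ g ∈ [1, 32, 33], ∀ a ∈ aL, Model.mul (Model.mul g a) (Model.mul g a) = 0 →
    ∃ b ∈ aL, Model.cj b g = Model.mul g a := by decide +kernel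

/-- A subgroup containing a Sylow 2-subgroup and all elements of odd order. -/
theorem le_of_sylow_odd [Finite G] {C M : Subgroup G} (P : Sylow 2 C)
    (hP : ∀ p : C, p ∈ (P : Subgroup C) → (p : G) ∈ M) (hodd : ∀ x ∈ C, Odd (orderOf x) → x ∈ M) : C ≤ M := by
  classical
  set N := M.subgroupOf C with hN
  suffices h : N = ⊤ by exact subgroupOf_eq_top.1 h
  refine eq_top_of_card_eq _ (Nat.dvd_antisymm (card_subgroup_dvd_card N) ?_)
  refine (Nat.dvd_iff_prime_pow_dvd_dvd _ _).2 fun q k hq hd => ?_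
  haveI : Fact q.Prime := ⟨hq⟩
  by_cases h2 : q = 2
  · subst h2
    obtain ⟨R, hR⟩ := Sylow.exists_subgroup_card_pow_prime 2 hd
    obtain ⟨T, hT⟩ := (IsPGroup.of_card hR).exists_le_sylow
    exact (hR ▸ card_dvd_of_le hT).trans
      ((Sylow.card_eq_multiplicity T).trans (Sylow.card_eq_multiplicity P).symm ▸
        card_dvd_of_le (show (P : Subgroup C) ≤ N from fun p hp => hP p hp))
  · obtain ⟨R, hR⟩ := Sylow.exists_subgroup_card_pow_prime q hd
    refine hR ▸ card_dvd_of_le fun r hr => ?_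
    refine hodd r r.2 ?_
    rw [Subgroup.orderOf_coe]
    obtain ⟨j, hj⟩ := IsPGroup.iff_orderOf.1 (IsPGroup.of_card hR) ⟨r, hr⟩
    rw [← Subgroup.orderOf_coe] at hj
    rw [hj]
    exact (hq.odd_of_ne_two h2).pow

namespace Syl

variable [Finite G] {S : Sylow 2 G} {ρ : ℕ → G} (F : Syl (S : Subgroup G) ρ)

include F

/-- The Sylow 2-subgroup `A ⟨ρ g⟩` of the centralizer of a pair not fused to `z`. -/
theorem pair_sylow {g : ℕ} (hg : g ∈ [1, 32, 33]) (hnc : ¬ IsConj (ρ 4) (ρ (pairOf g))) :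
    ∃ P : Sylow 2 (centralizer ({ρ (pairOf g)} : Set G)), ∀ x : centralizer ({ρ (pairOf g)} : Set G),
      x ∈ (P : Subgroup _) ↔ (x : G) ∈ subA ρ ∨ (x : G) * ρ g ∈ subA ρ := by
  classical
  haveI : Fact (Nat.Prime 2) := ⟨Nat.prime_two⟩
  obtain ⟨hgs, hgA, hgg, hg0, -, hpa, hps, -, -, hgp, -⟩ := pair_facts g hg
  set C := centralizer ({ρ (pairOf g)} : Set G)
  set B := subA ρ ⊔ zpowers (ρ g)
  have hσN : ρ g ∈ normalizer (subA ρ : Set G) := F.S_le_NA (F.mem g hgs)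
  have hσC : ρ g ∈ C := mem_centralizer_singleton_iff.2
    (mul_inv_eq_iff_eq_mul.1 (by rw [← F.cj_eq hgs hps, hgp]))
  have hBC : B ≤ C := sup_le (F.A_le_cent (mem_sub_of_mem hpa)) (zpowers_le.2 hσC)
  have hσ2 : orderOf (ρ g) = 2 := F.orderOf_two hgs hgg hg0
  have hBp : IsPGroup 2 B := IsPGroup.to_sup_of_normal_left' F.A_p
    (J2Type.Loc.isPGroup_zpowers (i := 1) (by rw [hσ2]; norm_num)) (zpowers_le.2 hσN)
  have hB : ∀ x : G, x ∈ B ↔ x ∈ subA ρ ∨ x * ρ g ∈ subA ρ := by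
    intro x
    have hσi : ρ g * ρ g = 1 := (F.sq_one hgs).2 hgg
    constructor
    · intro hx
      obtain ⟨t, ht, a, ha, rfl⟩ := J2Type.Loc.mem_sup_iff (T := zpowers (ρ g)) (D := subA ρ)
        (zpowers_le.2 hσN) (show x ∈ zpowers (ρ g) ⊔ subA ρ from sup_comm (subA ρ) (zpowers (ρ g)) ▸ hx)
      obtain ⟨j, rfl⟩ := ht
      rcases Int.emod_two_eq_zero_or_one j with hj | hj
      · left
        have : ρ g ^ j = 1 := orderOf_dvd_iff_zpow_eq_one.1 (by rw [hσ2]; exact Int.dvd_of_emod_eq_zero hj)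
        rwa [show (fun x : ℤ => ρ g ^ x) j = 1 from this, one_mul]
      · right
        have : ρ g ^ j = ρ g := by
          rw [← zpow_mod_orderOf (ρ g) j, hσ2, show ((2 : ℕ) : ℤ) = 2 from rfl, hj, zpow_one]
        rw [show (fun x : ℤ => ρ g ^ x) j = ρ g from this]
        have h := (mem_normalizer_iff.1 hσN a).1 ha
        rwa [inv_eq_of_mul_eq_one_right hσi] at h
    · rintro (hx | hx)
      · exact mem_sup_left hx
      · have := mul_mem (mem_sup_left (T := zpowers (ρ g)) hx) (mem_sup_right (mem_zpowers (ρ g)))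
        rwa [mul_assoc, hσi, mul_one] at this
  obtain ⟨P, hP⟩ := (hBp.comap_subtype : IsPGroup 2 (B.subgroupOf C)).exists_le_sylow
  have hAP : subA ρ ≤ (P : Subgroup C).map C.subtype := fun a ha =>
    ⟨⟨a, hBC (mem_sup_left ha)⟩, hP (mem_subgroupOf.2 (mem_sup_left ha)), rfl⟩
  have hle : B ≤ (P : Subgroup C).map C.subtype := fun b hb => ⟨⟨b, hBC hb⟩, hP hb, rfl⟩
  have h32 := F.card_le_pair hg hnc (P := (P : Subgroup C).map C.subtype) (P.isPGroup'.map _)
    (F.two_le_NA (P.isPGroup'.map _) hAP)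
    fun x hx => mem_centralizer_singleton_iff.1 (map_subtype_le _ hx)
  have hB32 : 32 ≤ Nat.card B := by
    obtain ⟨k, hk⟩ := hBp.exists_card_eq
    have h16 : 16 ≤ Nat.card B := F.card_A ▸ Subgroup.card_le_of_le le_sup_left
    have hne : Nat.card B ≠ 16 := fun h => hgA ((F.code_A hgs).1
      ((eq_of_le_of_card_ge (le_sup_left : subA ρ ≤ B) (by rw [h, F.card_A])).ge (mem_sup_right (mem_zpowers _))))
    rw [hk] at h16 hne ⊢
    have h4 : 4 ≤ k := (Nat.pow_le_pow_iff_right (show 1 < 2 by norm_num)).1 (le_trans (by norm_num) h16)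
    have h5 : k ≠ 4 := fun e => hne (by rw [e]; norm_num)
    exact le_trans (by norm_num) (Nat.pow_le_pow_right (by norm_num) (show 5 ≤ k by omega))
  have heq : B = (P : Subgroup C).map C.subtype := eq_of_le_of_card_ge hle (h32.trans hB32)
  refine ⟨P, fun x => ?_⟩
  rw [← hB]
  exact ⟨fun hx => heq ▸ ⟨x, hx, rfl⟩, fun hx => hP hx⟩

/-- The subgroup of index two of the centralizer of a pair not fused to `z`, with Sylow 2-subgroup `A`. -/
theorem pair_half (hF : Fus S ρ) {g : ℕ} (hg : g ∈ [1, 32, 33]) (hnc : ¬ IsConj (ρ 4) (ρ (pairOf g))) :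
    ∃ H : Subgroup G, H ≤ centralizer ({ρ (pairOf g)} : Set G) ∧ subA ρ ≤ H ∧ ρ g ∉ H ∧
      (∀ c : G, c * ρ (pairOf g) = ρ (pairOf g) * c → (c ∈ H ∨ c * ρ g ∈ H) ∧ ∀ h ∈ H, c * h * c⁻¹ ∈ H) ∧
      (∀ c : G, c * ρ (pairOf g) = ρ (pairOf g) * c → Odd (orderOf c) → c ∈ H) ∧
      ∃ Q : Sylow 2 H, ∀ x : H, x ∈ (Q : Subgroup H) ↔ (x : G) ∈ subA ρ := by
  classical
  haveI : Fact (Nat.Prime 2) := ⟨Nat.prime_two⟩
  obtain ⟨hgs, hgA, hgg, hg0, -, hpa, hps, -, -, hgp, -⟩ := pair_facts g hg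
  set C := centralizer ({ρ (pairOf g)} : Set G) with hC
  obtain ⟨P, hP⟩ := F.pair_sylow hg hnc
  set M : Subgroup (P : Subgroup C) := ((subA ρ).subgroupOf C).subgroupOf (P : Subgroup C)
  have hAC : subA ρ ≤ C := F.A_le_cent (mem_sub_of_mem hpa)
  have hσN : ρ g ∈ normalizer (subA ρ : Set G) := F.S_le_NA (F.mem g hgs)
  have hσi : (ρ g)⁻¹ = ρ g := inv_eq_of_mul_eq_one_right ((F.sq_one hgs).2 hgg)
  haveI : M.Normal := ⟨fun m hm x => by
    show ((x : C) : G) * ((m : C) : G) * ((x : C) : G)⁻¹ ∈ subA ρ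
    rcases (hP x).1 x.2 with hx | hx
    · exact mul_mem (mul_mem hx hm) ((subA ρ).inv_mem hx)
    · have hxN : ((x : C) : G) ∈ normalizer (subA ρ : Set G) := by
        have := mul_mem (le_normalizer hx) ((normalizer (subA ρ : Set G)).inv_mem hσN)
        rwa [mul_inv_cancel_right] at this
      exact (mem_normalizer_iff.1 hxN _).1 hm⟩
  -- no element outside `A` is fused into `A` in the centralizer
  have hout : ∀ b : (P : Subgroup C), ((b : C) : G) ∉ subA ρ → ∀ c : C,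
      (c : G) * ((b : C) : G) * (c : G)⁻¹ ∉ subA ρ := by
    intro b hb c hc
    have hbA : ((b : C) : G) * ρ g ∈ subA ρ := ((hP b).1 b.2).resolve_left hb
    obtain ⟨α, hα, hαe⟩ := F.mem_A.1 ((mem_normalizer_iff.1 hσN _).1 hbA)
    rw [hσi, mul_assoc, mul_assoc, (F.sq_one hgs).2 hgg, mul_one] at hαe
    have hbe : ((b : C) : G) = ρ (Model.mul g α) := by
      rw [F.mul_eq g hgs α (aL_facts.1 α hα).1, hαe, ← mul_assoc, (F.sq_one hgs).2 hgg, one_mul]
    have hb2 : Model.mul (Model.mul g α) (Model.mul g α) = 0 := by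
      have h := F.A_sq hc
      rw [show (c : G) * ((b : C) : G) * (c : G)⁻¹ * ((c : G) * ((b : C) : G) * (c : G)⁻¹) =
        (c : G) * (((b : C) : G) * ((b : C) : G)) * (c : G)⁻¹ by group, conj_eq_one_iff, hbe] at h
      exact (F.sq_one (Model.closed g hgs α (aL_facts.1 α hα).1)).1 h
    obtain ⟨β, hβ, hβe⟩ := coset_conj g hg α hα hb2
    refine hF.notA g hg hnc ((c : G) * ρ β) ?_ ?_
    · rw [mul_assoc, F.A_comm (mem_sub_of_mem hβ) (mem_sub_of_mem hpa), ← mul_assoc,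
        mem_centralizer_singleton_iff.1 c.2, mul_assoc]
    · rw [show (c : G) * ρ β * ρ g * ((c : G) * ρ β)⁻¹ = (c : G) * (ρ β * ρ g * (ρ β)⁻¹) * (c : G)⁻¹ by group,
        ← F.cj_eq (aL_facts.1 β hβ).1 hgs, hβe, ← hbe]
      exact hc
  have hMidx : M.index = 2 := by
    refine index_eq_two_iff.2 ⟨⟨⟨ρ g, mem_centralizer_singleton_iff.2
      (mul_inv_eq_iff_eq_mul.1 (by rw [← F.cj_eq hgs hps, hgp]))⟩, (hP _).2 (Or.inr (by
        show ρ g * ρ g ∈ subA ρ
        rw [(F.sq_one hgs).2 hgg]; exact one_mem _))⟩, fun b => ?_⟩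
    show Xor (((b : C) : G) * ρ g ∈ subA ρ) (((b : C) : G) ∈ subA ρ)
    by_cases hb : ((b : C) : G) ∈ subA ρ
    · refine Or.inr ⟨hb, fun h => hgA ((F.code_A hgs).1 ?_)⟩
      have := mul_mem ((subA ρ).inv_mem hb) h
      rwa [inv_mul_cancel_left] at this
    · exact Or.inl ⟨((hP b).1 b.2).resolve_left hb, hb⟩
  obtain ⟨K, hKn, hKi, hKM⟩ := Involutions.FusionTransfer.exists_normal P M fun a b ⟨c, hc⟩ => by
    have hc' : (c : G) * ((a : C) : G) * (c : G)⁻¹ = ((b : C) : G) := congrArg Subtype.val hc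
    refine (mul_mem_iff_of_index_two hMidx).2 ?_
    rw [inv_mem_iff]
    show ((a : C) : G) ∈ subA ρ ↔ ((b : C) : G) ∈ subA ρ
    refine ⟨fun ha => by_contra fun hb => hout b hb c⁻¹ ?_, fun hb => by_contra fun ha => hout a ha c (hc' ▸ hb)⟩
    show (c : G)⁻¹ * ((b : C) : G) * (c : G)⁻¹⁻¹ ∈ subA ρ
    rw [← hc', show (c : G)⁻¹ * ((c : G) * ((a : C) : G) * (c : G)⁻¹) * (c : G)⁻¹⁻¹ = ((a : C) : G) by group]
    exact ha
  rw [hMidx] at hKi
  have hσC : ρ g ∈ C := mem_centralizer_singleton_iff.2 (mul_inv_eq_iff_eq_mul.1 (by rw [← F.cj_eq hgs hps, hgp]))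
  have hσP : (⟨ρ g, hσC⟩ : C) ∈ (P : Subgroup C) := (hP _).2 (Or.inr (by
    show ρ g * ρ g ∈ subA ρ
    rw [(F.sq_one hgs).2 hgg]; exact one_mem _))
  have hσK : (⟨ρ g, hσC⟩ : C) ∉ K := fun h => hgA ((F.code_A hgs).1 ((hKM ⟨_, hσP⟩).1 h))
  set H := K.map C.subtype with hH
  have hmem : ∀ c : C, (c : G) ∈ H ↔ c ∈ K := fun c => mem_map_iff_mem C.subtype_injective
  have hAH : subA ρ ≤ H := fun a ha => (hmem ⟨a, hAC ha⟩).2
    ((hKM ⟨⟨a, hAC ha⟩, (hP _).2 (Or.inl ha)⟩).2 ha)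
  refine ⟨H, map_subtype_le _, hAH, fun h => hσK ((hmem ⟨_, hσC⟩).1 h), fun c hc => ⟨?_, fun h hh => ?_⟩,
    fun c hc ho => ?_, ?_⟩
  · by_cases hcK : (⟨c, mem_centralizer_singleton_iff.2 hc⟩ : C) ∈ K
    · exact Or.inl ((hmem ⟨c, _⟩).2 hcK)
    · exact Or.inr ((hmem (⟨c, mem_centralizer_singleton_iff.2 hc⟩ * ⟨ρ g, hσC⟩)).2
        ((mul_mem_iff_of_index_two hKi).2 (iff_of_false hcK hσK)))
  · obtain ⟨k, hk, rfl⟩ := hh
    exact ⟨⟨c, mem_centralizer_singleton_iff.2 hc⟩ * k * ⟨c, mem_centralizer_singleton_iff.2 hc⟩⁻¹,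
      hKn.conj_mem k hk _, rfl⟩
  · obtain ⟨j, hj⟩ := J2Type.Loc.mem_zpowers_sq ho
    rw [← hj]
    refine H.zpow_mem ?_ j
    exact (hmem (⟨c, mem_centralizer_singleton_iff.2 hc⟩ * ⟨c, mem_centralizer_singleton_iff.2 hc⟩)).2
      (mul_self_mem_of_index_two hKi _)
  · obtain ⟨Q, hQ⟩ := (F.A_p.comap_subtype : IsPGroup 2 ((subA ρ).subgroupOf H)).exists_le_sylow
    refine ⟨Q, fun x => ⟨fun hx => ?_, fun hx => hQ hx⟩⟩
    obtain ⟨c, hc⟩ := J2Type.exists_conj_le (G := C) P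
      (((Q.isPGroup'.map H.subtype).comap_subtype : IsPGroup 2 (((Q : Subgroup H).map H.subtype).subgroupOf C)))
    have hle : Nat.card ((Q : Subgroup H).map H.subtype) ≤ 16 := by
      have hQC : (Q : Subgroup H).map H.subtype ≤ C := (map_subtype_le _).trans (map_subtype_le _)
      let φ : ((Q : Subgroup H).map H.subtype) → subA ρ := fun q => ⟨(c : G) * q * (c : G)⁻¹, by
        have hm : c * ⟨q, hQC q.2⟩ * c⁻¹ ∈ (P : Subgroup C) := hc ⟨⟨q, hQC q.2⟩, mem_subgroupOf.2 q.2, rfl⟩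
        have hK' : c * ⟨q, hQC q.2⟩ * c⁻¹ ∈ K := hKn.conj_mem _ ((hmem _).1 (map_subtype_le _ q.2)) c
        exact (hKM ⟨_, hm⟩).1 hK'⟩
      refine F.card_A ▸ Nat.card_le_card_of_injective φ fun a b e => Subtype.ext ?_
      exact mul_left_cancel (mul_right_cancel (congrArg Subtype.val e))
    have heq : subA ρ = (Q : Subgroup H).map H.subtype := eq_of_le_of_card_ge
      (fun a ha => ⟨⟨a, hAH ha⟩, hQ ha, rfl⟩) (hle.trans F.card_A.ge)
    rw [heq]
    exact ⟨x, hx, rfl⟩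

end Syl

namespace Syl

variable [Finite G] {S : Sylow 2 G} {ρ : ℕ → G} (F : Syl (S : Subgroup G) ρ)

include F

/-- The centralizer of a pair not fused to `z` is 2-nilpotent modulo the core, or a four-group of `A` fixed by
an element of order three is central in it modulo the core. -/
theorem pair_central (hF : Fus S ρ) {g : ℕ} (hg : g ∈ [1, 32, 33]) (hnc : ¬ IsConj (ρ 4) (ρ (pairOf g))) :
    (∀ x : G, x * ρ (pairOf g) = ρ (pairOf g) * x → Odd (orderOf x) → x ∈ J2Type.Loc.core (ρ (pairOf g))) ∨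
      ∃ y D, y ∈ normalizer (subA ρ : Set G) ∧ y * ρ (pairOf g) = ρ (pairOf g) * y ∧ tab ρ y ∈ yL g ∧
        D = subA ρ ⊓ centralizer ({y} : Set G) ∧ ρ (pairOf g) ∈ D ∧ Nat.card D = 4 ∧
        (∀ d ∈ D, d ∈ subT ρ → d = 1 ∨ d = ρ (pairOf g)) ∧
        (∀ d ∈ D, ∀ x : G, x * ρ (pairOf g) = ρ (pairOf g) * x → Odd (orderOf x) →
          d * x * d⁻¹ * x⁻¹ ∈ J2Type.Loc.core (ρ (pairOf g))) ∧
        ∀ d ∈ D, d ≠ 1 → J2Type.Loc.core d ⊓ centralizer ({ρ (pairOf g)} : Set G) ≤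
          J2Type.Loc.core (ρ (pairOf g)) := by
  classical
  haveI : Fact (Nat.Prime 2) := ⟨Nat.prime_two⟩
  obtain ⟨-, -, -, -, hpt, hpa, hps, hp0, -⟩ := pair_facts g hg
  set p := ρ (pairOf g) with hp
  have hp1 : p ≠ 1 := fun e => hp0 ((F.eq_one hps).1 e)
  obtain ⟨H, hHC, hAH, -, hHn, hHodd, Q, hQ⟩ := F.pair_half hF hg hnc
  set C := centralizer ({p} : Set G)
  set O := J2Type.Loc.core p with hO
  have hcoreH : (Cfsg.oddCore H).map H.subtype ≤ O := by
    haveI := J2Type.Loc.oddCore_normal H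
    refine J2Type.Loc.le_core_of_invariant hHC (fun c hc h hh => (hHn c hc).2 h hh) (map_subtype_le _)
      (by rw [card_map_of_injective H.subtype_injective]; exact InvChar.Core.odd_card_oddCore) ?_
    rintro k hk _ ⟨d, hd, rfl⟩
    exact ⟨⟨k, hk⟩ * d * ⟨k, hk⟩⁻¹, (J2Type.Loc.oddCore_normal H).conj_mem d hd _, rfl⟩
  -- the elements of `N_H(A)` act through elements of odd order
  have hact : ∀ n ∈ H, n ∈ normalizer (subA ρ : Set G) → ∃ b : G, b ∈ zpowers n ∧ Odd (orderOf b) ∧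
      ∀ x ∈ subA ρ, n * x * n⁻¹ = b * x * b⁻¹ := by
    intro n hn hnN
    obtain ⟨a, b, ha, hb, hab, ⟨i, hi⟩, hbo⟩ := J2Type.Loc.exists_parts n
    have haH : a ∈ H := zpowers_le.2 hn ha
    have haN : a ∈ normalizer (subA ρ : Set G) := zpowers_le.2 hnN ha
    have haA : a ∈ subA ρ := by
      have hle : ((subA ρ ⊔ zpowers a : Subgroup G)) ≤ H := sup_le hAH (zpowers_le.2 haH)
      have hp2 : IsPGroup 2 ((subA ρ ⊔ zpowers a).subgroupOf H) :=
        (IsPGroup.to_sup_of_normal_left' F.A_p (J2Type.Loc.isPGroup_zpowers hi)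
          (zpowers_le.2 haN)).comap_subtype
      have heq := Q.3 hp2 fun x hx => mem_subgroupOf.2 (mem_sup_left ((hQ x).1 hx))
      refine (hQ ⟨a, haH⟩).1 ?_
      rw [← heq]
      exact mem_subgroupOf.2 (mem_sup_right (mem_zpowers a))
    refine ⟨b, hb, hbo, fun x hx => ?_⟩
    have hbx : b * x * b⁻¹ ∈ subA ρ := (mem_normalizer_iff.1 (zpowers_le.2 hnN hb) x).1 hx
    calc n * x * n⁻¹ = a * (b * x * b⁻¹) * a⁻¹ := by rw [← hab]; group
      _ = b * x * b⁻¹ := by rw [F.A_comm haA hbx, mul_inv_cancel_right]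
  have hAQ : ∀ x ∈ (Q : Subgroup H), ∀ y ∈ (Q : Subgroup H), x * y = y * x := fun x hx y hy =>
    Subtype.ext (F.A_comm ((hQ x).1 hx) ((hQ y).1 hy))
  have hNQ : ∀ n ∈ normalizer ((Q : Subgroup H) : Set H), (n : G) ∈ normalizer (subA ρ : Set G) := fun n hn =>
    mem_normalizer_of_maps fun a ha => (hQ _).1 ((mem_normalizer_iff.1 hn ⟨a, hAH ha⟩).1 ((hQ _).2 ha))
  by_cases hY : ∃ y ∈ H, y ∈ normalizer (subA ρ : Set G) ∧ tab ρ y ∈ yL g
  swap
  · -- no fusion in `A`: the elements of odd order form the core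
    left
    push Not at hY
    have hc := Transfer.NormalPComplement.hasNormalPComplement_of_normalizer_le_centralizer Q fun n hn => by
      refine mem_centralizer_iff.2 fun x hx => Eq.symm (Subtype.ext ?_)
      show (n : G) * x = x * n
      obtain ⟨b, hb, hbo, hbx⟩ := hact n n.2 (hNQ n hn)
      have hbN : b ∈ normalizer (subA ρ : Set G) := zpowers_le.2 (hNQ n hn) hb
      have hbp : b * p = p * b := mem_centralizer_singleton_iff.1 (zpowers_le.2 (hHC n.2) hb)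
      have htriv := (F.tab_eq_one hbN).1 ((F.stab hg hnc hbN hbo hbp).resolve_right
        fun h => hY b (zpowers_le.2 n.2 hb) hbN h) _ ((hQ x).1 hx)
      exact mul_inv_eq_iff_eq_mul.1 (by rw [hbx _ ((hQ x).1 hx), htriv, mul_inv_cancel_right])
    intro x hx hxo
    exact hcoreH ⟨⟨x, hHodd x hx hxo⟩,
      J2Type.Loc.mem_oddCore_of_complement hc (by rw [Subgroup.orderOf_mk]; exact hxo), rfl⟩
  obtain ⟨y, hyH, hyN, hy⟩ := hY
  obtain ⟨hyp, hylen, hyT, -⟩ := Tab.stab_fixed g hg _ hy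
  set D := subA ρ ⊓ centralizer ({y} : Set G) with hD
  have hDmem : ∀ a ∈ aL, ρ a ∈ D ↔ app (tab ρ y) a = a := fun a ha => by
    rw [F.app_eq hyN ha ha]
    exact ⟨fun h => by rw [← mem_centralizer_singleton_iff.1 h.2, mul_inv_cancel_right],
      fun h => ⟨mem_sub_of_mem ha, mem_centralizer_singleton_iff.2 (mul_inv_eq_iff_eq_mul.1 h).symm⟩⟩
  have hpD : p ∈ D := (hDmem _ hpa).2 hyp
  have hcard : Nat.card D = 4 := by
    set L := aL.filter fun a => app (tab ρ y) a == a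
    have hnd : L.Nodup := aL_facts.2.2.1.filter _
    rw [← hylen, ← List.toFinset_card_of_nodup hnd, ← Nat.card_eq_finsetCard]
    refine (Nat.card_eq_of_bijective (fun a : L.toFinset => (⟨ρ a, ?_⟩ : D)) ⟨fun a b e => ?_, fun d => ?_⟩).symm
    · obtain ⟨h1, h2⟩ := List.mem_filter.1 (List.mem_toFinset.1 a.2)
      exact (hDmem _ h1).2 (beq_iff_eq.1 h2)
    · exact Subtype.ext (F.inj _ (aL_facts.1 _ (List.mem_filter.1 (List.mem_toFinset.1 a.2)).1).1 _
        (aL_facts.1 _ (List.mem_filter.1 (List.mem_toFinset.1 b.2)).1).1 (congrArg Subtype.val e))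
    · obtain ⟨a, ha, hae⟩ := F.mem_A.1 d.2.1
      exact ⟨⟨a, List.mem_toFinset.2 (List.mem_filter.2 ⟨ha, beq_iff_eq.2 ((hDmem a ha).1 (hae.symm ▸ d.2))⟩)⟩,
        Subtype.ext hae⟩
  -- `N_H(A)` fixes `D`, so its elements are isolated in `H`
  have hfix : ∀ n ∈ H, n ∈ normalizer (subA ρ : Set G) → ∀ d ∈ D, n * d * n⁻¹ = d := by
    intro n hn hnN d hd
    obtain ⟨b, hb, hbo, hbx⟩ := hact n hn hnN
    rw [hbx d hd.1]
    have hbN : b ∈ normalizer (subA ρ : Set G) := zpowers_le.2 hnN hb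
    have hbp : b * p = p * b := mem_centralizer_singleton_iff.1 (zpowers_le.2 (hHC hn) hb)
    have hyd : y * d * y⁻¹ = d := by rw [← mem_centralizer_singleton_iff.1 hd.2, mul_inv_cancel_right]
    obtain ⟨a, ha, rfl⟩ := F.mem_A.1 hd.1
    have hya : app (tab ρ y) a = a := (hDmem a ha).1 hd
    refine (F.app_eq hbN ha ha).1 ?_
    rcases F.stab hg hnc hbN hbo hbp with h | h
    · rw [h, show Tab.one = aL.map id from (List.map_id _).symm, app_map _ ha, id]
    rcases F.stab_eq hg hy h ⟨y, hyN, rfl⟩ ⟨b, hbN, rfl⟩ with e | e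
    · rw [e, hya]
    · rw [e, ← F.tab_mul hyN hyN]
      refine (F.app_eq (mul_mem hyN hyN) ha ha).2 ?_
      rw [show y * y * ρ a * (y * y)⁻¹ = y * (y * ρ a * y⁻¹) * y⁻¹ by group, hyd, hyd]
  have hcen : ∀ d ∈ D, ∀ h ∈ H, d * h * d⁻¹ * h⁻¹ ∈ O := by
    intro d hd h hh
    by_cases hd1 : d = 1
    · subst hd1; simp
    have hdH : d ∈ H := hAH hd.1
    have hiso : Cfsg.IsIsolatedInvolution (⟨d, hdH⟩ : H) := by
      refine (Involutions.Isolated.iff_unique_in_sylow Q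
        (by rw [Subgroup.orderOf_mk]; exact F.A_order hd.1 hd1) ((hQ _).2 hd.1)).2 fun c hc => ?_
      obtain ⟨n, hn, hne⟩ := IndexFourCentre.Abelian.burnside Q hAQ ((hQ _).2 hd.1) hc
      rw [← hne]
      exact Subtype.ext (hfix n n.2 (hNQ n hn) d hd)
    exact hcoreH ⟨_, ZStar.Main.commutator_mem_oddCore hiso ⟨h, hh⟩, rfl⟩
  -- intersections of cores
  have hbal : ∀ d ∈ D, d ≠ 1 → J2Type.Loc.core d ⊓ C ≤ O := by
    intro d hd hd1 x hx
    set X := J2Type.Loc.core d ⊓ C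
    have hXo : Odd (Nat.card X) := (J2Type.Loc.core_odd d).of_dvd_nat (card_dvd_of_le inf_le_left)
    have hXn : X ≤ normalizer (O : Set G) := fun w hw =>
      J2Type.Loc.core_normalizer (mem_centralizer_singleton_iff.1 hw.2)
    set Y := X ⊔ O
    have hYo : Odd (Nat.card Y) := J2Type.Loc.odd_sup hXo (J2Type.Loc.core_odd p) hXn
    have hYC : Y ≤ C := sup_le inf_le_right (J2Type.Loc.core_le p)
    have hYH : Y ≤ H := fun w hw =>
      hHodd w (mem_centralizer_singleton_iff.1 (hYC hw)) (J2Type.Loc.odd_orderOf hYo hw)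
    refine J2Type.Loc.le_core_of_invariant hHC (fun c hc h hh => (hHn c hc).2 h hh) hYH hYo ?_ (mem_sup_left hx)
    intro c hc w hw
    have hcp : c * p = p * c := mem_centralizer_singleton_iff.1 (hHC hc)
    have hco : c * d * c⁻¹ * d⁻¹ ∈ O := by
      have h := O.inv_mem (hcen d hd c hc)
      rwa [show (d * c * d⁻¹ * c⁻¹)⁻¹ = c * d * c⁻¹ * d⁻¹ by group] at h
    have hd2 := F.A_order hd.1 hd1
    have hodd' : Odd (orderOf (c * d * c⁻¹ * d)) := J2Type.Loc.odd_orderOf (J2Type.Loc.core_odd p) (by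
      rwa [F.A_inv hd.1] at hco)
    obtain ⟨o, ho, hoe⟩ := Involutions.Basic.exists_conj_of_odd
      (x := c * d * c⁻¹) (y := d) (by rw [Involutions.Basic.orderOf_conj, hd2]) hd2 hodd'
    have hoO : o ∈ O := zpowers_le.2 (by rwa [F.A_inv hd.1] at hco) ho
    have hc' : (o * c) * p = p * (o * c) := by
      rw [mul_assoc, hcp, ← mul_assoc, mem_centralizer_singleton_iff.1 (J2Type.Loc.core_le p hoO), mul_assoc]
    have hcd : (o * c) * d = d * (o * c) := mul_inv_eq_iff_eq_mul.1 (by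
      rw [show o * c * d * (o * c)⁻¹ = o * (c * d * c⁻¹) * o⁻¹ by group, hoe])
    have hle : Y ≤ Y.comap (MulAut.conj (o * c)).toMonoidHom := sup_le
      (fun v hv => mem_sup_left ⟨J2Type.Loc.core_conj_mem hcd hv.1,
        mul_mem (mul_mem (mem_centralizer_singleton_iff.2 hc') hv.2)
          (C.inv_mem (mem_centralizer_singleton_iff.2 hc'))⟩)
      (fun v hv => mem_sup_right (J2Type.Loc.core_conj_mem hc' hv))
    have := Y.mul_mem (Y.mul_mem (Y.inv_mem (mem_sup_right hoO)) (hle hw)) (mem_sup_right hoO)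
    rwa [show o⁻¹ * (MulAut.conj (o * c)).toMonoidHom w * o = c * w * c⁻¹ by simp [mul_assoc]] at this
  refine Or.inr ⟨y, D, hyN, mem_centralizer_singleton_iff.1 (hHC hyH), hy, rfl, hpD, hcard, fun d hd hdT => ?_,
    fun d hd x hx ho => hcen d hd x (hHodd x hx ho), hbal⟩
  obtain ⟨a, ha, rfl⟩ := F.mem_T.1 hdT
  rcases hyT a (code_facts.2.1 a ha).1 ((hDmem a (code_facts.2.1 a ha).1).1 hd) ha with rfl | rfl
  · exact Or.inl F.zero
  · exact Or.inr rfl

/-- The centralizer of a pair not fused to `z` is balanced or has a central four-group, the fixed points of an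
element of order three. -/
theorem pair_shape_y (hF : Fus S ρ) (hz : BalA ρ (ρ 4)) {g : ℕ} (hg : g ∈ [1, 32, 33])
    (hnc : ¬ IsConj (ρ 4) (ρ (pairOf g))) :
    BalT ρ (ρ (pairOf g)) ∨ ∃ D, Central ρ (ρ (pairOf g)) D ∧ ∃ y ∈ normalizer (subA ρ : Set G),
      tab ρ y ∈ yL g ∧ D = subA ρ ⊓ centralizer ({y} : Set G) := by
  classical
  haveI : Fact (Nat.Prime 2) := ⟨Nat.prime_two⟩
  obtain ⟨-, -, -, -, hpt, hpa, hps, hp0, -⟩ := pair_facts g hg
  rcases F.pair_central hF hg hnc with h | ⟨y, D, hyN, -, hy, hD, hpD, hcard, hDT, hcen, hbal⟩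
  · exact Or.inl fun K hK hKo _ x hx =>
      h x (mem_centralizer_singleton_iff.1 (hK hx)) (J2Type.Loc.odd_orderOf hKo hx)
  have hDA : D ≤ subA ρ := hD ▸ inf_le_left
  set p := ρ (pairOf g) with hp
  have hp1 : p ≠ 1 := fun e => hp0 ((F.eq_one hps).1 e)
  set C := centralizer ({p} : Set G)
  set O := J2Type.Loc.core p with hO
  by_cases hpure : ∀ d ∈ D, d ≠ 1 → ¬ IsConj (ρ 4) d
  · exact Or.inr ⟨D, ⟨hDA, hpD, hcard, hpure, hcen, hbal⟩, y, hyN, hy, hD⟩
  -- a conjugate of `z` in `D`: the balance at `z` passes to `p`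
  push Not at hpure
  obtain ⟨d, hd, hd1, hdz⟩ := hpure
  left
  obtain ⟨c, hc⟩ := isConj_iff.1 hdz
  obtain ⟨n, hn, hne⟩ := F.fusion_A F.z_mem_A (g := c) (hc ▸ hDA hd)
  rw [hc] at hne
  have hbd : BalA ρ d := hne ▸ hz.conj hn
  intro K hK hKo hKT
  have hKO : K ≤ normalizer (O : Set G) := fun w hw =>
    J2Type.Loc.core_normalizer (mem_centralizer_singleton_iff.1 (hK hw))
  set Y := K ⊔ O
  have hYo : Odd (Nat.card Y) := J2Type.Loc.odd_sup hKo (J2Type.Loc.core_odd p) hKO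
  have hYC : Y ≤ C := sup_le hK (J2Type.Loc.core_le p)
  have hTY : ∀ t ∈ subT ρ, ∀ w ∈ Y, t * w * t⁻¹ ∈ Y := by
    intro t ht w hw
    have hle : Y ≤ Y.comap (MulAut.conj t).toMonoidHom := sup_le
      (fun v hv => mem_sup_left ((mem_normalizer_iff.1 (hKT ht) v).1 hv))
      (fun v hv => mem_sup_right (J2Type.Loc.core_conj_mem (F.A_comm (F.T_le_A ht) (mem_sub_of_mem hpa)) hv))
    exact hle hw
  have hDY : ∀ e ∈ D, ∀ w ∈ Y, e * w * e⁻¹ ∈ Y := by
    intro e he w hw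
    have h := hcen e he w (mem_centralizer_singleton_iff.1 (hYC hw)) (J2Type.Loc.odd_orderOf hYo hw)
    have := Y.mul_mem (mem_sup_right h) hw
    rwa [inv_mul_cancel_right] at this
  have hAY : subA ρ ≤ normalizer (Y : Set G) := by
    have hle : subT ρ ⊔ D ≤ normalizer (Y : Set G) := sup_le (fun t ht => mem_normalizer_of_maps (hTY t ht))
      (fun e he => mem_normalizer_of_maps (hDY e he))
    refine le_trans (le_of_eq ?_) hle
    -- `T` and `D` generate `A`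
    refine (eq_of_le_of_card_ge (sup_le F.T_le_A hDA) ?_).symm
    have hint : subT ρ ⊓ D ≤ zpowers p := by
      rintro _ ⟨ht, htD⟩
      rcases hDT _ htD ht with rfl | rfl
      · exact one_mem _
      · exact mem_zpowers _
    have hintc : Nat.card (subT ρ ⊓ D : Subgroup G) ≤ 2 := by
      refine (Subgroup.card_le_of_le hint).trans ?_
      rw [Nat.card_zpowers, F.A_order (mem_sub_of_mem hpa) hp1]
    obtain ⟨k, hk⟩ := (F.A_p.to_le (sup_le F.T_le_A hDA :
      subT ρ ⊔ D ≤ subA ρ)).exists_card_eq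
    have hlt : 8 < Nat.card (subT ρ ⊔ D : Subgroup G) := by
      rw [← F.card_T]
      refine lt_of_le_of_ne (Subgroup.card_le_of_le le_sup_left) fun e => ?_
      have hDT : D ≤ subT ρ := le_sup_right.trans
        (eq_of_le_of_card_ge (le_sup_left : subT ρ ≤ subT ρ ⊔ D) e.ge).ge
      rw [inf_eq_right.2 hDT, hcard] at hintc
      omega
    rw [hk] at hlt ⊢
    rw [F.card_A]
    have h3 : 3 < k := (Nat.pow_lt_pow_iff_right (show 1 < 2 by norm_num)).1 (lt_of_le_of_lt (by norm_num) hlt)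
    exact le_trans (by norm_num) (Nat.pow_le_pow_right (by norm_num) (show 4 ≤ k by omega))
  have hY' : (Y ⊓ centralizer ({d} : Set G) : Subgroup G) ≤ J2Type.Loc.core d :=
    hbd _ inf_le_right (hYo.of_dvd_nat (card_dvd_of_le inf_le_left))
      ((le_inf hAY ((F.A_le_cent (hDA hd)).trans le_normalizer)).trans inf_normalizer_le_normalizer_inf)
  intro k hk
  -- move `k` into the centralizer of `d` inside the core
  have hkY : k ∈ Y := mem_sup_left hk
  have hkp := mem_centralizer_singleton_iff.1 (hK hk)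
  have hco : k * d * k⁻¹ * d ∈ O := by
    have h := O.inv_mem (hcen d hd k hkp (J2Type.Loc.odd_orderOf hKo hk))
    rwa [show (d * k * d⁻¹ * k⁻¹)⁻¹ = k * d * k⁻¹ * d⁻¹ by group, F.A_inv (hDA hd)] at h
  have hd2 := F.A_order (hDA hd) hd1
  obtain ⟨o, ho, hoe⟩ := Involutions.Basic.exists_conj_of_odd (x := k * d * k⁻¹) (y := d)
    (by rw [Involutions.Basic.orderOf_conj, hd2]) hd2 (J2Type.Loc.odd_orderOf (J2Type.Loc.core_odd p) hco)
  have hoO : o ∈ O := zpowers_le.2 hco ho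
  have hokY : o * k ∈ Y := mul_mem (mem_sup_right hoO) hkY
  have hokd : o * k * d = d * (o * k) := mul_inv_eq_iff_eq_mul.1 (by
    rw [show o * k * d * (o * k)⁻¹ = o * (k * d * k⁻¹) * o⁻¹ by group, hoe])
  have h1 := hbal d hd hd1 ⟨hY' ⟨hokY, mem_centralizer_singleton_iff.2 hokd⟩, hYC hokY⟩
  have := O.mul_mem (O.inv_mem hoO) h1
  rwa [inv_mul_cancel_left] at this

/-- The centralizer of a pair not fused to `z` is balanced or has a central four-group. -/
theorem pair_shape (hF : Fus S ρ) (hz : BalA ρ (ρ 4)) {g : ℕ} (hg : g ∈ [1, 32, 33])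
    (hnc : ¬ IsConj (ρ 4) (ρ (pairOf g))) :
    BalT ρ (ρ (pairOf g)) ∨ ∃ D, Central ρ (ρ (pairOf g)) D :=
  (F.pair_shape_y hF hz hg hnc).imp_right fun ⟨D, hD, _⟩ => ⟨D, hD⟩

/-- The involutions of `A` are balanced or have central four-groups. -/
theorem balA_or_central (hF : Fus S ρ) (hz : BalA ρ (ρ 4)) {a : G} (ha : a ∈ subA ρ) (h1 : a ≠ 1) :
    BalA ρ a ∨ ∃ D, Central ρ a D := by
  by_cases hza : IsConj (ρ 4) a
  · obtain ⟨c, hc⟩ := isConj_iff.1 hza
    obtain ⟨n, hn, hne⟩ := F.fusion_A F.z_mem_A (g := c) (hc ▸ ha)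
    exact Or.inl (hc ▸ hne ▸ hz.conj hn)
  obtain ⟨n, hn, hnT⟩ := F.cover hF.nI ha h1
  have hn1 : n * a * n⁻¹ ≠ 1 := fun e => h1 (conj_eq_one_iff.1 e)
  have hnz : n * a * n⁻¹ ≠ ρ 4 := fun e => hza (isConj_iff.2 ⟨n, e⟩).symm
  obtain ⟨g, hg, s, hs, hse⟩ := F.T_conj hnT hn1 hnz
  have hnc : ¬ IsConj (ρ 4) (ρ (pairOf g)) := fun h => hza
    ((h.trans (isConj_iff.2 ⟨s, hse⟩)).trans (isConj_iff.2 ⟨n, rfl⟩).symm)
  have hmN : n⁻¹ * s ∈ normalizer (subA ρ : Set G) :=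
    mul_mem ((normalizer (subA ρ : Set G)).inv_mem hn) (F.S_le_NA hs)
  have hma : n⁻¹ * s * ρ (pairOf g) * (n⁻¹ * s)⁻¹ = a := by
    rw [show n⁻¹ * s * ρ (pairOf g) * (n⁻¹ * s)⁻¹ = n⁻¹ * (s * ρ (pairOf g) * s⁻¹) * n by group, hse]
    group
  rcases F.pair_shape hF hz hg hnc with h | ⟨D, hD⟩
  · exact Or.inl (hma ▸ (h.balA F).conj hmN)
  · exact Or.inr ⟨_, hma ▸ hD.conj hmN⟩

end Syl

end Cfsg.Agent.A8Type
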