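import Cfsg.Agent.Lib.A8Type.CentZCore

/-!
The centralizer of the central involution modulo its core: 2-closed, or with the extraspecial subgroup on top.
-/

set_option autoImplicit false
set_option linter.style.haveILetI false
set_option linter.unusedSectionVars false
set_option maxHeartbeats 800000

namespace Cfsg.Agent.A8Type

open Subgroup
open Cfsg.Agent.A8Type.Model
open Cfsg.Agent

universe u

variable {G : Type u} [Group G]

namespace CentZ

variable [Finite G]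

instance oddCore_cent_normal (z : G) : (Cfsg.oddCore ↥(centralizer ({z} : Set G))).Normal :=
  J2Type.Loc.oddCore_normal _

/-- The centralizer of `z` modulo its core. -/
abbrev Hq (z : G) := ↥(centralizer ({z} : Set G)) ⧸ Cfsg.oddCore ↥(centralizer ({z} : Set G))

/-- The image of an element of the centralizer. -/
noncomputable def mk (z g : G) : Hq z := by
  classical
  exact if h : g ∈ centralizer ({z} : Set G) then QuotientGroup.mk' _ ⟨g, h⟩ else 1

/-- The images of the codes. -/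
noncomputable def bar (ρ : ℕ → G) (a : ℕ) : Hq (ρ 4) := mk (ρ 4) (ρ a)

variable {z : G}

theorem mk_apply (x : ↥(centralizer ({z} : Set G))) : QuotientGroup.mk' _ x = mk z (x : G) := by
  rw [mk, dif_pos x.2]

theorem mk_mul {g h : G} (hg : g * z = z * g) (hh : h * z = z * h) : mk z (g * h) = mk z g * mk z h := by
  rw [show g * h = ((⟨g, mem_centralizer_singleton_iff.2 hg⟩ * ⟨h, mem_centralizer_singleton_iff.2 hh⟩ :
    centralizer ({z} : Set G)) : G) from rfl, ← mk_apply, map_mul, mk_apply, mk_apply]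

theorem mk_inv {g : G} (hg : g * z = z * g) : mk z g⁻¹ = (mk z g)⁻¹ := by
  rw [show g⁻¹ = (((⟨g, mem_centralizer_singleton_iff.2 hg⟩ : centralizer ({z} : Set G))⁻¹ :
    centralizer ({z} : Set G)) : G) from rfl, ← mk_apply, map_inv, mk_apply]

theorem comm_inv {g : G} (hg : g * z = z * g) : g⁻¹ * z = z * g⁻¹ := by
  rw [inv_mul_eq_iff_eq_mul, ← mul_assoc, hg, mul_inv_cancel_right]

theorem comm_mul {g h : G} (hg : g * z = z * g) (hh : h * z = z * h) : g * h * z = z * (g * h) := by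
  rw [mul_assoc, hh, ← mul_assoc, hg, mul_assoc]

theorem mk_conj {g h : G} (hg : g * z = z * g) (hh : h * z = z * h) :
    mk z (g * h * g⁻¹) = mk z g * mk z h * (mk z g)⁻¹ := by
  rw [mk_mul (comm_mul hg hh) (comm_inv hg), mk_mul hg hh, mk_inv hg]

theorem core_comm {g : G} (hg : g ∈ J2Type.Loc.core z) : g * z = z * g :=
  mem_centralizer_singleton_iff.1 (J2Type.Loc.core_le _ hg)

theorem mk_eq_one {g : G} (hg : g * z = z * g) : mk z g = 1 ↔ g ∈ J2Type.Loc.core z := by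
  rw [show g = ((⟨g, mem_centralizer_singleton_iff.2 hg⟩ : centralizer ({z} : Set G)) : G) from rfl, ← mk_apply]
  refine (QuotientGroup.eq_one_iff _).trans ⟨fun h => ⟨_, h, rfl⟩, ?_⟩
  rintro ⟨y, hy, e⟩
  exact (Subtype.ext e : y = _) ▸ hy

theorem mk_eq {g h : G} (hg : g * z = z * g) (hh : h * z = z * h) :
    mk z g = mk z h ↔ g * h⁻¹ ∈ J2Type.Loc.core z := by
  rw [← mk_eq_one (comm_mul hg (comm_inv hh)), mk_mul hg (comm_inv hh), mk_inv hh, mul_inv_eq_one]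

theorem mk_surj (x : Hq z) : ∃ g : G, g * z = z * g ∧ mk z g = x := by
  obtain ⟨y, rfl⟩ := QuotientGroup.mk'_surjective _ x
  exact ⟨y, mem_centralizer_singleton_iff.1 y.2, (mk_apply y).symm⟩

variable {S : Sylow 2 G} {ρ : ℕ → G} (F : Syl (S : Subgroup G) ρ)

include F

theorem comm_code {a : ℕ} (ha : a ∈ sL) : ρ a * ρ 4 = ρ 4 * ρ a := F.z_comm (F.mem a ha)

theorem mk_inj {g h : G} (hg : g ∈ (S : Subgroup G)) (hh : h ∈ (S : Subgroup G))
    (e : mk (ρ 4) g = mk (ρ 4) h) : g = h :=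
  mul_inv_eq_one.1 (J2Type.Loc.inf_eq_bot S.isPGroup' (J2Type.Loc.core_odd _) (mul_mem hg (inv_mem hh))
    ((mk_eq (F.z_comm hg) (F.z_comm hh)).1 e))

/-- The Sylow subgroup of the quotient with its codes. -/
theorem exists_quot : ∃ P : Sylow 2 (Hq (ρ 4)), Syl (P : Subgroup (Hq (ρ 4))) (bar ρ) ∧
    (∀ h : Hq (ρ 4), h * bar ρ 4 = bar ρ 4 * h) ∧ Cfsg.oddCore (Hq (ρ 4)) = ⊥ := by
  haveI : Fact (Nat.Prime 2) := ⟨Nat.prime_two⟩
  let P := (S.subtype F.le_cent_z).mapSurjective (QuotientGroup.mk'_surjective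
    (Cfsg.oddCore ↥(centralizer ({ρ 4} : Set G))))
  have hP : ∀ x, x ∈ (P : Subgroup (Hq (ρ 4))) ↔ ∃ s ∈ (S : Subgroup G), mk (ρ 4) s = x := by
    intro x
    rw [Sylow.coe_mapSurjective, Subgroup.mem_map]
    constructor
    · rintro ⟨y, hy, rfl⟩
      exact ⟨y, hy, (mk_apply y).symm⟩
    · rintro ⟨s, hs, rfl⟩
      exact ⟨⟨s, F.le_cent_z hs⟩, hs, mk_apply _⟩
  refine ⟨P, ⟨fun a ha => (hP _).2 ⟨_, F.mem a ha, rfl⟩, fun a ha b hb => ?_, fun a ha b hb e => ?_,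
    fun s hs => ?_⟩, fun h => ?_, InvChar.Core.oddCore_quotient_oddCore_eq_bot⟩
  · rw [bar, bar, bar, F.mul_eq a ha b hb, mk_mul (comm_code F ha) (comm_code F hb)]
  · exact F.inj a ha b hb (mk_inj F (F.mem a ha) (F.mem b hb) e)
  · obtain ⟨g, hg, rfl⟩ := (hP s).1 hs
    obtain ⟨a, ha, rfl⟩ := F.surj g hg
    exact ⟨a, ha, rfl⟩
  · obtain ⟨g, hg, rfl⟩ := mk_surj h
    rw [bar, ← mk_mul hg rfl, ← mk_mul rfl hg, hg]

omit F in
theorem card_quot (z : G) :
    Nat.card (centralizer ({z} : Set G)) = Nat.card (Hq z) * Nat.card (J2Type.Loc.core z) := by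
  rw [J2Type.Loc.core, card_map_of_injective (centralizer ({z} : Set G)).subtype_injective]
  exact card_eq_card_quotient_mul_card_subgroup _

theorem mem_bar {L : List ℕ} (hL : L ∈ [aL, qL, tL]) {P : Subgroup (Hq (ρ 4))} (F' : Syl P (bar ρ)) {g : G}
    (hg : g ∈ (S : Subgroup G)) : mk (ρ 4) g ∈ sub (bar ρ) L ↔ g ∈ sub ρ L := by
  constructor
  · intro h
    obtain ⟨a, ha, e⟩ := (F'.mem_sub hL).1 h
    exact mk_inj F (F.mem a (F.mem_sL hL ha)) hg e ▸ mem_sub_of_mem ha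
  · intro h
    obtain ⟨a, ha, rfl⟩ := (F.mem_sub hL).1 h
    exact mem_sub_of_mem ha

/-- An element whose image normalizes the image of a subgroup of `S` is a core element times a normalizing one. -/
theorem frattini {T : Subgroup G} (hTS : T ≤ (S : Subgroup G)) {g : G} (hg : g * ρ 4 = ρ 4 * g)
    (h : ∀ t ∈ T, ∃ t' ∈ T, mk (ρ 4) g * mk (ρ 4) t * (mk (ρ 4) g)⁻¹ = mk (ρ 4) t') :
    ∃ o ∈ J2Type.Loc.core (ρ 4), ∃ n : G, n * ρ 4 = ρ 4 * n ∧ mk (ρ 4) n = mk (ρ 4) g ∧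
      (∀ t ∈ T, n * t * n⁻¹ ∈ T) ∧ g = o * n := by
  have hTN : T ≤ normalizer (J2Type.Loc.core (ρ 4) : Set G) := fun t ht =>
    J2Type.Loc.core_normalizer (F.z_comm (hTS ht))
  obtain ⟨d, hd, hdN⟩ := J2Type.Loc.exists_mul_normalizer (g := g) (S.isPGroup'.to_le hTS) (J2Type.Loc.core_odd _) hTN
    fun t ht => by
      obtain ⟨t', ht', e⟩ := h t ht
      rw [← mk_conj hg (F.z_comm (hTS ht))] at e
      have h1 := (mk_eq (comm_mul (comm_mul hg (F.z_comm (hTS ht))) (comm_inv hg)) (F.z_comm (hTS ht'))).1 e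
      have := mul_mem (mem_sup_right (S := T) h1) (mem_sup_left ht')
      rwa [inv_mul_cancel_right] at this
  refine ⟨d⁻¹, inv_mem hd, d * g, comm_mul (core_comm hd) hg, ?_, fun t ht => (mem_normalizer_iff.1 hdN t).1 ht,
    by group⟩
  rw [mk_mul (core_comm hd) hg, (mk_eq_one (core_comm hd)).2 hd, one_mul]

omit F in
theorem Q_form {P : Sylow 2 (Hq (ρ 4))} (N : Norm P (bar ρ)) {x : Hq (ρ 4)} {t : G} (ht : t ∈ subQ ρ)
    (F : Syl (S : Subgroup G) ρ) : ∃ t' ∈ subQ ρ, x * mk (ρ 4) t * x⁻¹ = mk (ρ 4) t' := by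
  obtain ⟨a, ha, e⟩ := N.syl.mem_Q.1 (N.hn x _ ((mem_bar F (by simp) N.syl (F.Q_le ht)).2 ht))
  exact ⟨ρ a, mem_sub_of_mem ha, e.symm⟩

/-- The shape in the quotient gives the shape in the group. -/
theorem qshape {P : Sylow 2 (Hq (ρ 4))} (N : Norm P (bar ρ)) (hcol : ∃ h, act (bar ρ) h = colT) : QShape S ρ := by
  have hrows : ∀ {a : ℕ} {g : G}, a ∈ sL → g * ρ 4 = ρ 4 * g → g * ρ a * g⁻¹ ∈ subA ρ →
      mk (ρ 4) g * bar ρ a * (mk (ρ 4) g)⁻¹ ∈ subA (bar ρ) := fun ha hg h => by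
    rw [bar, ← mk_conj hg (comm_code F ha)]
    exact (mem_bar F (by simp) N.syl (F.A_le h)).2 h
  refine ⟨fun g hg => ?_, fun g hg hc => ?_, ?_, ?_, ?_, ?_⟩
  · obtain ⟨o, ho, n, hn, -, hnQ, e⟩ := frattini F F.Q_le hg fun t ht => Q_form N ht F
    exact ⟨o, ho, n, hn, hnQ, e⟩
  · have h1 : mk (ρ 4) g ∈ subQ (bar ρ) := N.hs _ fun x hx => by
      obtain ⟨a, ha, rfl⟩ := N.syl.mem_Q.1 hx
      rw [bar, ← mk_mul hg (comm_code F (qL_sL ha)), ← mk_mul (comm_code F (qL_sL ha)) hg,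
        hc _ (mem_sub_of_mem ha)]
    obtain ⟨a, ha, e⟩ := N.syl.mem_Q.1 h1
    refine ⟨ρ a, mem_sub_of_mem ha, (ρ a)⁻¹ * g, ?_, by group⟩
    rw [← mk_eq_one (comm_mul (comm_inv (comm_code F (qL_sL ha))) hg),
      mk_mul (comm_inv (comm_code F (qL_sL ha))) hg, mk_inv (comm_code F (qL_sL ha)), ← e, bar, inv_mul_cancel]
  · rw [card_quot]
    rcases N.card_cases hcol with ⟨h, -⟩ | h <;> rw [h]
    · exact Or.inl rfl
    · exact Or.inr rfl
  · obtain ⟨x, hx⟩ := hcol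
    obtain ⟨g, hg, rfl⟩ := mk_surj x
    obtain ⟨o, ho, n, hn, hne, hnQ, -⟩ := frattini F F.Q_le hg fun t ht => Q_form N ht F
    refine ⟨n, hn, hnQ, fun pq hpq => ?_⟩
    obtain ⟨h1, h2, -, -⟩ := col_facts pq hpq
    have hS := F.Q_le (hnQ _ (mem_sub_of_mem h1))
    have h4 : (4 : ℕ) ∈ sL := qL_sL q_small.1.2.1
    rcases N.col_maps hx pq hpq with e | e
    · rw [← hne, bar, ← mk_conj hn (comm_code F (qL_sL h1))] at e
      exact Or.inl (mk_inj F hS (F.mem _ (qL_sL h2)) e)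
    · rw [← hne, bar, bar, bar, ← mk_conj hn (comm_code F (qL_sL h1)),
        ← mk_mul (comm_code F (qL_sL h2)) (comm_code F h4)] at e
      exact Or.inr (mk_inj F hS (mul_mem (F.mem _ (qL_sL h2)) (F.mem _ h4)) e)
  · intro g hg p hp hp0 hp4 q hq hqT hq2 hc ⟨h1, h2⟩
    exact N.rows (mk (ρ 4) g) hp hp0 hp4 hq hqT hq2 hc
      ⟨hrows (qL_sL (point_facts.2.2.2 p hp).1) hg h1, hrows (qL_sL hq) hg h2⟩
  · intro hcard g hg hA
    have h192 : Nat.card (Hq (ρ 4)) = 192 := by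
      rw [card_quot] at hcard
      exact Nat.eq_of_mul_eq_mul_right Nat.card_pos hcard
    rcases N.card_cases hcol with ⟨-, hall⟩ | h
    · have h1 : mk (ρ 4) g ∈ (P : Subgroup (Hq (ρ 4))) := N.small hall fun a ha => by
        obtain ⟨c, hc, rfl⟩ := N.syl.mem_A.1 ha
        have hcs := F.mem_sL (L := aL) (by simp) hc
        exact hrows hcs hg ((mem_normalizer_iff.1 hA _).1 (mem_sub_of_mem hc))
      obtain ⟨a, ha, e⟩ := N.syl.surj _ h1
      refine ⟨g * (ρ a)⁻¹, (mk_eq hg (comm_code F ha)).1 e.symm, ρ a, F.mem a ha, by group⟩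
    · omega

/-- Conversely, the shape gives a normal self-centralizing subgroup in the quotient. -/
theorem norm_of_qshape (h : QShape S ρ) : ∃ P : Sylow 2 (Hq (ρ 4)), Norm P (bar ρ) := by
  obtain ⟨P, F', hz, -⟩ := exists_quot F
  refine ⟨P, F', hz, fun x q hq => ?_, fun x hx => ?_⟩
  · obtain ⟨a, ha, rfl⟩ := F'.mem_Q.1 hq
    obtain ⟨g, hg, rfl⟩ := mk_surj x
    obtain ⟨o, ho, n, hn, hnQ, rfl⟩ := h.norm g hg
    rw [mk_mul (core_comm ho) hn, (mk_eq_one (core_comm ho)).2 ho, one_mul, bar,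
      ← mk_conj hn (comm_code F (qL_sL ha))]
    exact (mem_bar F (by simp) F' (F.Q_le (hnQ _ (mem_sub_of_mem ha)))).2 (hnQ _ (mem_sub_of_mem ha))
  · obtain ⟨g, hg, rfl⟩ := mk_surj x
    obtain ⟨o, ho, n, hn, hnQ, rfl⟩ := h.norm g hg
    rw [mk_mul (core_comm ho) hn, (mk_eq_one (core_comm ho)).2 ho, one_mul] at hx ⊢
    have hc : ∀ q ∈ subQ ρ, n * q = q * n := by
      intro q hq
      have hqz := F.z_comm (F.Q_le hq)
      have e : mk (ρ 4) (n * q * n⁻¹) = mk (ρ 4) q := by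
        rw [mk_conj hn hqz, hx _ ((mem_bar F (by simp) F' (F.Q_le hq)).2 hq), mul_inv_cancel_right]
      exact mul_inv_eq_iff_eq_mul.1 (mk_inj F (F.Q_le (hnQ q hq)) (F.Q_le hq) e)
    obtain ⟨q, hq, o', ho', rfl⟩ := h.self n hn hc
    rw [mk_mul (F.z_comm (F.Q_le hq)) (core_comm ho'), (mk_eq_one (core_comm ho')).2 ho', mul_one]
    exact (mem_bar F (by simp) F' (F.Q_le hq)).2 hq

end CentZ

open CentZ

variable [Finite G] {S : Sylow 2 G} {ρ : ℕ → G}

/-- The centralizer of `z` is 2-closed modulo its core, or has the extraspecial shape. -/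
theorem Ctx.closed_or_qshape (C : Ctx S ρ) : Closed S ρ ∨ QShape S ρ := by
  obtain ⟨P, F', hz, hoc⟩ := exists_quot C.syl
  have hsol : Group.IsSolvable (Hq (ρ 4)) :=
    haveI := C.solz
    solvable_of_surjective (QuotientGroup.mk'_surjective _)
  rcases (⟨F', hz, hsol, hoc⟩ : CentZ.Quot P (bar ρ)).cases with hcl | ⟨N, hcol⟩
  · refine Or.inl fun g hg => ?_
    obtain ⟨o, ho, n, hn, -, hnS, e⟩ := frattini C.syl le_rfl hg fun t ht => by
      obtain ⟨a, ha, rfl⟩ := C.syl.surj t ht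
      obtain ⟨b, hb, e⟩ := F'.surj _ (hcl (CentZ.mk (ρ 4) g) _ (F'.mem a ha))
      exact ⟨ρ b, C.syl.mem b hb, e.symm⟩
    exact ⟨o, ho, n, hn, hnS, e⟩
  · exact Or.inr (qshape C.syl N hcol)

/-- An element of odd order of the centralizer of `z` fixing a point lies in the core. -/
theorem QShape.odd_fix (h : QShape S ρ) (F : Syl (S : Subgroup G) ρ) {t : G} (ht : t ∈ subQ ρ) (ht2 : t * t = 1)
    (ht1 : t ≠ 1) (htz : t ≠ ρ 4) {g : G} (hgz : g * ρ 4 = ρ 4 * g) (hgt : g * t = t * g) (hgo : Odd (orderOf g)) :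
    g ∈ J2Type.Loc.core (ρ 4) := by
  obtain ⟨P, N⟩ := norm_of_qshape F h
  obtain ⟨a, ha, rfl⟩ := F.mem_Q.1 ht
  have has := qL_sL ha
  have ho : Odd (orderOf (CentZ.mk (ρ 4) g)) := by
    rw [show g = ((⟨g, mem_centralizer_singleton_iff.2 hgz⟩ : centralizer ({ρ 4} : Set G)) : G) from rfl, ← mk_apply]
    exact hgo.of_dvd_nat ((orderOf_map_dvd _ _).trans (Subgroup.orderOf_mk g _).dvd)
  refine (mk_eq_one hgz).1 (N.eq_one_of_fix ho ha (fun e => ht1 (by rw [e, F.zero])) (fun e => htz (by rw [e]))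
    ((F.sq_one has).1 ht2) ?_)
  rw [bar, ← mk_conj hgz (comm_code F has), hgt, mul_inv_cancel_right]

/-- An odd subgroup of the centralizer of `z` normalized by `T` lies in the core. -/
theorem QShape.odd_T (h : QShape S ρ) (F : Syl (S : Subgroup G) ρ) {K : Subgroup G}
    (hK : K ≤ centralizer ({ρ 4} : Set G)) (hKo : Odd (Nat.card K)) (hT : subT ρ ≤ normalizer (K : Set G)) :
    K ≤ J2Type.Loc.core (ρ 4) := by
  haveI : Fact (Nat.Prime 2) := ⟨Nat.prime_two⟩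
  obtain ⟨P, N⟩ := norm_of_qshape F h
  intro k hk
  have hkz : k * ρ 4 = ρ 4 * k := mem_centralizer_singleton_iff.1 (hK hk)
  have hodd : ∀ x ∈ K, Odd (orderOf (CentZ.mk (ρ 4) x)) := fun x hx => by
    rw [show x = ((⟨x, hK hx⟩ : centralizer ({ρ 4} : Set G)) : G) from rfl, ← mk_apply]
    exact (J2Type.Loc.odd_orderOf hKo hx).of_dvd_nat ((orderOf_map_dvd _ _).trans (Subgroup.orderOf_mk x _).dvd)
  have h2 : (2 : ℕ) ∈ qL := by decide
  have h2T : ρ 2 ∈ subT ρ := mem_sub_of_mem (by decide)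
  have hc : k * ρ 2 * k⁻¹ * (ρ 2)⁻¹ ∈ K := by
    rw [show k * ρ 2 * k⁻¹ * (ρ 2)⁻¹ = k * (ρ 2 * k⁻¹ * (ρ 2)⁻¹) by group]
    exact mul_mem hk ((mem_normalizer_iff.1 (hT h2T) _).1 (inv_mem hk))
  have hz2 := comm_code F (qL_sL h2)
  have he : CentZ.mk (ρ 4) (k * ρ 2 * k⁻¹ * (ρ 2)⁻¹) = 1 := by
    refine J2Type.Loc.eq_one_of_two_odd (T := subQ (bar ρ))
      (IsPGroup.of_card (n := 5) (by rw [N.syl.card_Q]; norm_num)) ?_ (hodd _ hc)
    rw [mk_mul (comm_mul (comm_mul hkz hz2) (comm_inv hkz)) (comm_inv hz2), mk_inv hz2, mk_conj hkz hz2]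
    exact mul_mem (N.hn _ _ (mem_sub_of_mem h2)) (inv_mem (mem_sub_of_mem h2))
  refine (mk_eq_one hkz).1 (N.eq_one_of_fix (hodd k hk) h2 (by norm_num) (by norm_num) (by decide) ?_)
  rw [mk_mul (comm_mul (comm_mul hkz hz2) (comm_inv hkz)) (comm_inv hz2), mk_inv hz2, mk_conj hkz hz2,
    mul_inv_eq_one] at he
  exact he

end Cfsg.Agent.A8Type
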