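import Cfsg.Agent.Lib.A8Type.Syl
import Cfsg.Agent.Lib.J2Type.Local2
import Cfsg.Prelude.Def_Transfer
import Cfsg.Prelude.Def_Solvable

/-!
The hypotheses, and the two possible shapes of the centralizer of the central involution modulo its core.
-/

set_option autoImplicit false
set_option linter.style.haveILetI false
set_option linter.unusedSectionVars false

namespace Cfsg.Agent.A8Type

open Subgroup
open Cfsg.Agent.A8Type.Model
open Cfsg.Agent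

universe u

variable {G : Type u} [Group G]

/-- The hypotheses on the group. -/
structure Ctx [Finite G] (S : Sylow 2 G) (ρ : ℕ → G) : Prop where
  syl : Syl (S : Subgroup G) ρ
  res : Cfsg.pResidual 2 G = ⊤
  core2 : Cfsg.pCore 2 G = ⊥
  oddc : Cfsg.oddCore G = ⊥
  solz : Group.IsSolvable ↥(centralizer ({ρ 4} : Set G))

/-- The centralizer of `z` is 2-closed modulo its core. -/
def Closed [Finite G] (S : Sylow 2 G) (ρ : ℕ → G) : Prop :=
  ∀ g : G, g * ρ 4 = ρ 4 * g → ∃ o ∈ J2Type.Loc.core (ρ 4), ∃ n : G, n * ρ 4 = ρ 4 * n ∧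
    (∀ s ∈ (S : Subgroup G), n * s * n⁻¹ ∈ (S : Subgroup G)) ∧ g = o * n

/-- The pairs of a cyclic permutation of the columns of the nine singular points of `Q`. -/
def colPairs : List (ℕ × ℕ) := [(2, 1), (1, 3), (3, 2), (16, 32), (32, 48), (48, 16), (18, 33), (33, 51), (51, 18)]

/-- The centralizer of `z` has the extraspecial group as its largest normal 2-subgroup modulo the core. -/
structure QShape [Finite G] (S : Sylow 2 G) (ρ : ℕ → G) : Prop where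
  norm : ∀ g : G, g * ρ 4 = ρ 4 * g → ∃ o ∈ J2Type.Loc.core (ρ 4), ∃ n : G, n * ρ 4 = ρ 4 * n ∧
    (∀ q ∈ subQ ρ, n * q * n⁻¹ ∈ subQ ρ) ∧ g = o * n
  self : ∀ g : G, g * ρ 4 = ρ 4 * g → (∀ q ∈ subQ ρ, g * q = q * g) →
    ∃ q ∈ subQ ρ, ∃ o ∈ J2Type.Loc.core (ρ 4), g = q * o
  card : Nat.card (centralizer ({ρ 4} : Set G)) = 192 * Nat.card (J2Type.Loc.core (ρ 4)) ∨
    Nat.card (centralizer ({ρ 4} : Set G)) = 576 * Nat.card (J2Type.Loc.core (ρ 4))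
  col : ∃ n : G, n * ρ 4 = ρ 4 * n ∧ (∀ q ∈ subQ ρ, n * q * n⁻¹ ∈ subQ ρ) ∧
    ∀ pq ∈ colPairs, n * ρ pq.1 * n⁻¹ = ρ pq.2 ∨ n * ρ pq.1 * n⁻¹ = ρ pq.2 * ρ 4
  rows : ∀ g : G, g * ρ 4 = ρ 4 * g → ∀ p ∈ tL, p ≠ 0 → p ≠ 4 → ∀ q ∈ qL, q ∉ tL → Model.mul q q = 0 →
    Model.mul p q = Model.mul q p → ¬ (g * ρ p * g⁻¹ ∈ subA ρ ∧ g * ρ q * g⁻¹ ∈ subA ρ)
  small : Nat.card (centralizer ({ρ 4} : Set G)) = 192 * Nat.card (J2Type.Loc.core (ρ 4)) →
    ∀ g : G, g * ρ 4 = ρ 4 * g → g ∈ normalizer (subA ρ : Set G) →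
      ∃ o ∈ J2Type.Loc.core (ρ 4), ∃ s ∈ (S : Subgroup G), g = o * s

end Cfsg.Agent.A8Type
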