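import Cfsg.Agent.Lib.A8Type.CentZShape
import Cfsg.Agent.Lib.A8Type.Defs
import Cfsg.Agent.Lib.Involutions.BaerSuzuki
import Cfsg.Agent.InvChar.Solvable

/-!
A solvable group with trivial odd core, the Sylow subgroup of the codes and `σ 4` central: the Sylow subgroup is
normal, or the extraspecial subgroup is normal and self-centralizing and the column cycle occurs.
-/

set_option autoImplicit false
set_option linter.style.haveILetI false
set_option linter.unusedSectionVars false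
set_option maxHeartbeats 800000

namespace Cfsg.Agent.A8Type.CentZ

open Subgroup
open Cfsg.Agent.A8Type.Model

universe u

variable {H : Type u} [Group H]

/-- Representatives of the cosets of `T`. -/
def reps : List ℕ := [0, 1, 8, 9, 32, 33, 40, 41]

/-- The hypotheses on the quotient. -/
structure Quot [Finite H] (P : Sylow 2 H) (σ : ℕ → H) : Prop where
  syl : Syl (P : Subgroup H) σ
  hz : ∀ h : H, h * σ 4 = σ 4 * h
  sol : Group.IsSolvable H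
  oc : Cfsg.oddCore H = ⊥

theorem chain_facts : (∀ t ∈ tL, ∀ a ∈ sL, Model.cj t a = a ∨ Model.cj t a = Model.mul a 4) ∧
    (∀ q ∈ qL, ∀ a ∈ qL, Model.cj q a = a ∨ Model.cj q a = Model.mul a 4) ∧
    (∀ a ∈ sL, ∃ b ∈ reps, ∃ t ∈ tL, Model.mul b t = a ∧ bit 3 b = bit 3 a ∧ a * 1 = a) ∧
    (∀ b ∈ reps, b ∈ sL) ∧ (∀ a ∈ sL, Model.mul a a ∈ tL) ∧
    (∀ a ∈ aL, a ∈ tL ∨ ∃ t ∈ tL, Model.mul 8 t = a) ∧
    (∀ a ∈ reps, ∀ b ∈ reps, Nat.xor a b ∈ reps ∧ ∃ t ∈ tL, Model.mul (Nat.xor a b) t = Model.mul a b) := by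
  decide +kernel

theorem six_facts : ∀ B ∈ reps.sublists, 0 ∈ B → (∀ a ∈ B, ∀ b ∈ B, Nat.xor a b ∈ B) →
    (∃ b ∈ B, bit 3 b ≠ 0) → 8 ∈ B ∨ ∃ q ∈ [1, 32, 33], q ∉ B ∧ ∀ b ∈ B, ∃ c ∈ B, ∃ d ∈ B, ∃ e ∈ [0, 4],
      Model.mul (Model.cj q b) (Model.inv b) = Model.mul (Model.mul (Model.mul c c) (Model.mul d d)) e := by
  decide +kernel

theorem four_codes : (∀ c ∈ [1, 32, 33], c ∈ sL ∧ c ∈ reps ∧ Model.mul c c = 0 ∧ c ≠ 0 ∧
      ∀ a ∈ aL, Model.cj c (Model.mul (Model.cj c a) (Model.inv a)) = Model.mul (Model.cj c a) (Model.inv a)) ∧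
    (∀ c ∈ [1, 32, 33], ∀ a ∈ aL, ∀ b ∈ aL, Model.cj c a = a → a ≠ 0 → a ≠ 4 → Model.cj c b = b →
      b = 0 ∨ b = 4 ∨ b = a ∨ b = Model.mul a 4) ∧
    (∀ a ∈ sL, ∃ x ∈ [0, 1, 32, 33], ∃ t ∈ aL, Model.mul x t = a) ∧ Model.mul 1 32 = 33 := by
  decide +kernel

theorem cj_mem {g a : ℕ} (hg : g ∈ sL) (ha : a ∈ sL) : Model.cj g a ∈ sL :=
  closed _ (closed g hg a ha) _ (inv_mem g hg)

/-- The stabilizer of a chain. -/
theorem stab [Finite H] {f q : H} {R K : Subgroup H} (hR : ∀ r ∈ R, ∀ g : H, g * r * g⁻¹ ∈ R)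
    (hK : ∀ k ∈ K, ∀ g : H, g * k * g⁻¹ ∈ K) (hq : ∀ r ∈ R, q * r * q⁻¹ * r⁻¹ ∈ K)
    (hfk : ∀ k ∈ K, f * k = k * f) (hk2 : ∀ k ∈ K, k * k = 1) (hinv : q * f * q⁻¹ = f⁻¹) (ho : Odd (orderOf f))
    {r : H} (hr : r ∈ R) : f * r = r * f := by
  have hfix : ∀ k ∈ K, f * k * f⁻¹ = k := fun k hk => by rw [hfk k hk, mul_inv_cancel_right]
  have hfix' : ∀ k ∈ K, f⁻¹ * k * f = k := fun k hk => by
    calc f⁻¹ * k * f = f⁻¹ * (f * k * f⁻¹) * f := by rw [hfix k hk]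
      _ = k := by group
  have e : f * f = f * q * f⁻¹ * q⁻¹ := by
    rw [show f * q * f⁻¹ * q⁻¹ = f * (q * f * q⁻¹)⁻¹ by group, hinv, inv_inv]
  have h1R : q⁻¹ * r * q ∈ R := by simpa using hR r hr q⁻¹
  have h2R : f⁻¹ * r * f ∈ R := by simpa using hR r hr f⁻¹
  have hk1 : r * (q⁻¹ * r * q)⁻¹ ∈ K := by
    have := hq _ h1R
    rwa [show q * (q⁻¹ * r * q) * q⁻¹ * (q⁻¹ * r * q)⁻¹ = r * (q⁻¹ * r * q)⁻¹ by group] at this
  set k1 := r * (q⁻¹ * r * q)⁻¹ with hk1d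
  have hk3 := hq _ h2R
  set k3 := q * (f⁻¹ * r * f) * q⁻¹ * (f⁻¹ * r * f)⁻¹ with hk3d
  have hkK : q * k1⁻¹ * q⁻¹ * k3 ∈ K := mul_mem (hK _ (inv_mem hk1) q) hk3
  have key : f * f * r * (f * f)⁻¹ = q * k1⁻¹ * q⁻¹ * k3 * r := by
    calc f * f * r * (f * f)⁻¹ = f * q * f⁻¹ * (q⁻¹ * r * q) * f * q⁻¹ * f⁻¹ := by rw [e]; group
      _ = f * q * (f⁻¹ * k1⁻¹ * f * (f⁻¹ * r * f)) * q⁻¹ * f⁻¹ := by rw [hk1d]; group
      _ = f * (q * k1⁻¹ * q⁻¹ * k3) * f⁻¹ * r := by rw [hfix' _ (inv_mem hk1), hk3d]; group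
      _ = q * k1⁻¹ * q⁻¹ * k3 * r := by rw [hfix _ hkK]
  set k := q * k1⁻¹ * q⁻¹ * k3
  have hk' : r⁻¹ * k * r ∈ K := by simpa using hK k hkK r⁻¹
  have ho2 : Odd (orderOf (f * f)) := ho.of_dvd_nat (by rw [← pow_two]; exact orderOf_pow_dvd 2)
  refine J2Type.Loc.fix_of_sq ho (J2Type.Loc.fix_of_step ho2 (s := r⁻¹ * k * r) (by rw [key]; group) ?_ (hk2 _ hk'))
  exact mul_inv_eq_iff_eq_mul.2
    ((show Commute f (r⁻¹ * k * r) from hfk _ hk').mul_left (hfk _ hk')).eq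

/-- A fixed-point-free involution inverts an odd normal subgroup. -/
theorem inverts {Y : Type u} [Group Y] [Finite Y] {N : Subgroup Y} [N.Normal] {v : Y} (hv : v * v = 1)
    (hfix : ∀ x ∈ N, v * x = x * v → x = 1) {x : Y} (hx : x ∈ N) : v * x * v⁻¹ = x⁻¹ := by
  let φ : N →* N := (MulAut.conjNormal v : MulAut N).toMonoidHom
  have hφ : MonoidHom.FixedPointFree φ := fun y hy => Subtype.ext (hfix y y.2
    (mul_inv_eq_iff_eq_mul.1 (congrArg Subtype.val hy)))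
  have h2 : Function.Involutive φ := fun y => Subtype.ext (by
    show v * (v * (y : Y) * v⁻¹) * v⁻¹ = y
    rw [show v * (v * (y : Y) * v⁻¹) * v⁻¹ = v * v * (y : Y) * (v * v)⁻¹ by group, hv]; group)
  exact congrArg Subtype.val (congrFun (hφ.coe_eq_inv_of_involutive h2) ⟨x, hx⟩)

namespace Quot

variable [Finite H] {P : Sylow 2 H} {σ : ℕ → H} (N : Quot P σ)

include N

theorem z_cases {g : H} (hg : g ∈ zpowers (σ 4)) : g = 1 ∨ g = σ 4 := by
  obtain ⟨i, rfl⟩ := hg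
  show σ 4 ^ i = 1 ∨ σ 4 ^ i = σ 4
  rw [← zpow_mod_orderOf, N.syl.order_z]
  rcases Int.emod_two_eq_zero_or_one i with e | e <;> simp [e]

theorem zz : σ 4 * σ 4 = 1 := by
  rw [← pow_two, ← N.syl.order_z, pow_orderOf_eq_one]

theorem pcore_normal : (Cfsg.pCore 2 H).Normal := Subgroup.sSup_normal _ (fun K hK => hK.1)

theorem pcore_le : Cfsg.pCore 2 H ≤ (P : Subgroup H) :=
  haveI : Fact (Nat.Prime 2) := ⟨Nat.prime_two⟩
  Cores.pCore_le_sylow P

theorem pcore_cent : centralizer (Cfsg.pCore 2 H : Set H) ≤ Cfsg.pCore 2 H :=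
  InvChar.Solvable.centralizer_pCore_two_le N.sol N.oc

/-- The stabilizer of the chain below the largest normal 2-subgroup is inside it. -/
theorem mem_pcore {s : H} (hs : s ∈ (P : Subgroup H))
    (h : ∀ r ∈ Cfsg.pCore 2 H, s * r * s⁻¹ = r ∨ s * r * s⁻¹ = r * σ 4) : s ∈ Cfsg.pCore 2 H := by
  haveI : Fact (Nat.Prime 2) := ⟨Nat.prime_two⟩
  have hR := N.pcore_normal
  have hzc : ∀ g : H, g * σ 4 * g⁻¹ = σ 4 := fun g => by rw [N.hz g, mul_inv_cancel_right]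
  let M : Subgroup H :=
    { carrier := {g | ∀ r ∈ Cfsg.pCore 2 H, g * r * g⁻¹ = r ∨ g * r * g⁻¹ = r * σ 4}
      one_mem' := fun r _ => Or.inl (by simp)
      mul_mem' := fun {a b} ha hb r hr => by
        have e : a * b * r * (a * b)⁻¹ = a * (b * r * b⁻¹) * a⁻¹ := by group
        rcases hb r hr with e' | e' <;> rw [e, e']
        · exact ha r hr
        · rw [show a * (r * σ 4) * a⁻¹ = a * r * a⁻¹ * (a * σ 4 * a⁻¹) by group, hzc]
          rcases ha r hr with e'' | e'' <;> rw [e'']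
          · exact Or.inr rfl
          · exact Or.inl (by rw [mul_assoc, N.zz, mul_one])
      inv_mem' := fun {a} ha r hr => by
        rw [inv_inv]
        have h' := ha _ (hR.conj_mem r hr a⁻¹)
        rw [inv_inv, show a * (a⁻¹ * r * a) * a⁻¹ = r by group] at h'
        rcases h' with e | e
        · exact Or.inl e.symm
        · right
          have h2 : r * σ 4 = a⁻¹ * r * a * (σ 4 * σ 4) := by rw [← mul_assoc, ← e]
          rw [h2, N.zz, mul_one] }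
  have hMn : M.Normal := ⟨fun m hm g r hr => by
    have h' := hm _ (hR.conj_mem r hr g⁻¹)
    rw [inv_inv] at h'
    rw [show g * m * g⁻¹ * r * (g * m * g⁻¹)⁻¹ = g * (m * (g⁻¹ * r * g) * m⁻¹) * g⁻¹ by group]
    rcases h' with e | e <;> rw [e]
    · left; group
    · right
      rw [show g * (g⁻¹ * r * g * σ 4) * g⁻¹ = r * (g * σ 4 * g⁻¹) by group, hzc]⟩
  have hM2 : IsPGroup 2 M := IsPGroup.iff_orderOf.2 fun m => by
    obtain ⟨a, b, -, ⟨j, hj⟩, hab, ⟨i, hi⟩, hbo⟩ := J2Type.Loc.exists_parts (m : H)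
    have hbM : b ∈ M := hj ▸ zpow_mem m.2 j
    have hbR : b ∈ Cfsg.pCore 2 H := N.pcore_cent (mem_centralizer_iff.2 fun r hr => by
      rcases hbM r hr with e | e
      · exact (mul_inv_eq_iff_eq_mul.1 e).symm
      · exact (J2Type.Loc.fix_of_step hbo e (hzc b) N.zz).symm)
    have hb1 : b = 1 := J2Type.Loc.eq_one_of_two_odd (Cores.pCore_isPGroup 2) hbR hbo
    rw [hb1, mul_one] at hab
    rw [← Subgroup.orderOf_coe, ← hab]
    exact ((Nat.dvd_prime_pow Nat.prime_two).1 hi).imp fun k hk => hk.2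
  exact Cores.le_pCore (N := M) hM2 h

theorem T_mem : ∀ t ∈ tL, σ t ∈ Cfsg.pCore 2 H := by
  intro t ht
  have hts : t ∈ sL := N.syl.mem_sL (by simp) ht
  refine N.mem_pcore (N.syl.mem t hts) fun r hr => ?_
  obtain ⟨a, ha, rfl⟩ := N.syl.surj r (N.pcore_le hr)
  rw [← N.syl.cj_eq hts ha, ← N.syl.mul_eq a ha 4 (N.syl.mem_sL (L := tL) (by simp) (by decide))]
  exact (chain_facts.1 t ht a ha).imp (congrArg σ) (congrArg σ)

/-- If `A` is in the core, the Sylow subgroup is normal. -/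
theorem normal_of_A (h8 : σ 8 ∈ Cfsg.pCore 2 H) (h : H) {s : H} (hs : s ∈ (P : Subgroup H)) :
    h * s * h⁻¹ ∈ (P : Subgroup H) := by
  haveI : Fact (Nat.Prime 2) := ⟨Nat.prime_two⟩
  have hR := N.pcore_normal
  have hAR : subA σ ≤ Cfsg.pCore 2 H := fun g hg => by
    obtain ⟨a, ha, rfl⟩ := N.syl.mem_A.1 hg
    rcases chain_facts.2.2.2.2.2.1 a ha with h' | ⟨t, ht, rfl⟩
    · exact N.T_mem a h'
    · rw [N.syl.mul_eq 8 (List.mem_range.2 (by norm_num)) t (N.syl.mem_sL (by simp) ht)]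
      exact mul_mem h8 (N.T_mem t ht)
  have hAn : ∀ g : H, g ∈ normalizer (subA σ : Set H) := fun g =>
    N.syl.norm_A fun a ha => N.pcore_le (hR.conj_mem a (hAR ha) g)
  haveI hAN : (subA σ).Normal := ⟨fun a ha g => (mem_normalizer_iff.1 (hAn g) a).1 ha⟩
  obtain ⟨D, hD1, hD2, hD3, hD4⟩ := N.syl.exists_cent_A
  have hD : D = ⊥ := by
    refine le_bot_iff.1 (N.oc ▸ InvChar.Core.le_oddCore ⟨fun d hd g => hD3 _ ?_ ?_⟩ hD2)
    · intro a ha
      have h' := mem_centralizer_iff.1 (hD1 hd) _ ((mem_normalizer_iff''.1 (hAn g) a).1 ha)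
      calc g * d * g⁻¹ * a = g * (d * (g⁻¹ * a * g)) * g⁻¹ := by group
        _ = a * (g * d * g⁻¹) := by rw [← h']; group
    · rw [Involutions.Basic.orderOf_conj]; exact J2Type.Loc.odd_orderOf hD2 hd
  -- an odd element commuting with an outer involution modulo `A` is trivial
  have hfpf : ∀ c ∈ [1, 32, 33], ∀ b : H, Odd (orderOf b) → b * σ c * b⁻¹ * (σ c)⁻¹ ∈ subA σ → b = 1 := by
    intro c hc b hbo hbA
    obtain ⟨hcs, -, -, -, hcomm⟩ := four_codes.1 c hc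
    set α := b * σ c * b⁻¹ * (σ c)⁻¹ with hα
    have hbc : b * σ c * b⁻¹ = α * σ c := by rw [hα]; group
    have hconj : ∀ a ∈ subA σ, b * (σ c * a * (σ c)⁻¹) * b⁻¹ = σ c * (b * a * b⁻¹) * (σ c)⁻¹ := by
      intro a ha
      have ha' : σ c * (b * a * b⁻¹) * (σ c)⁻¹ ∈ subA σ := hAN.conj_mem _ (hAN.conj_mem a ha b) _
      calc b * (σ c * a * (σ c)⁻¹) * b⁻¹ = b * σ c * b⁻¹ * (b * a * b⁻¹) * (b * σ c * b⁻¹)⁻¹ := by group
        _ = α * (σ c * (b * a * b⁻¹) * (σ c)⁻¹) * α⁻¹ := by rw [hbc]; group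
        _ = _ := by rw [N.syl.A_comm hbA ha', mul_inv_cancel_right]
    have hFix : ∀ w ∈ subA σ, σ c * w * (σ c)⁻¹ = w → b * w = w * b := by
      intro w hw hwc
      have hw' : σ c * (b * w * b⁻¹) * (σ c)⁻¹ = b * w * b⁻¹ := by rw [← hconj w hw, hwc]
      obtain ⟨a, ha, rfl⟩ := N.syl.mem_A.1 hw
      obtain ⟨a', ha', e⟩ := N.syl.mem_A.1 (hAN.conj_mem _ hw b)
      have has := N.syl.mem_sL (L := aL) (by simp) ha
      have has' := N.syl.mem_sL (L := aL) (by simp) ha'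
      have h4s : (4 : ℕ) ∈ sL := List.mem_range.2 (by norm_num)
      have e1 : Model.cj c a = a :=
        N.syl.inj _ (cj_mem hcs has) a has (by rw [N.syl.cj_eq hcs has, hwc])
      have e2 : Model.cj c a' = a' :=
        N.syl.inj _ (cj_mem hcs has') a' has' (by rw [N.syl.cj_eq hcs has', e, hw'])
      by_cases h0 : a = 0
      · rw [h0, N.syl.zero]; simp
      by_cases h4 : a = 4
      · rw [h4]; exact N.hz b
      rcases four_codes.2.1 c hc a ha a' ha' e1 h0 h4 e2 with rfl | rfl | rfl | rfl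
      · rw [N.syl.zero] at e
        exact absurd ((N.syl.eq_one has).1 (_root_.conj_eq_one_iff.1 e.symm)) h0
      · exfalso
        refine h4 (N.syl.inj a has 4 h4s ((MulAut.conj b).injective ?_))
        simp only [MulAut.conj_apply]
        rw [← e, N.hz b, mul_inv_cancel_right]
      · exact mul_inv_eq_iff_eq_mul.1 e.symm
      · rw [N.syl.mul_eq a has 4 h4s] at e
        exact J2Type.Loc.fix_of_step hbo e.symm (by rw [N.hz b, mul_inv_cancel_right]) N.zz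
    have hbA' : ∀ a ∈ subA σ, b * a = a * b := by
      intro a ha
      have ha' : b * a * b⁻¹ ∈ subA σ := hAN.conj_mem a ha b
      have hd : b * (σ c * a * (σ c)⁻¹ * a⁻¹) = σ c * a * (σ c)⁻¹ * a⁻¹ * b := by
        refine hFix _ (mul_mem (hAN.conj_mem a ha _) (inv_mem ha)) ?_
        obtain ⟨x, hx, rfl⟩ := N.syl.mem_A.1 ha
        have hxs := N.syl.mem_sL (L := aL) (by simp) hx
        have hm := closed _ (cj_mem hcs hxs) _ (inv_mem x hxs)
        rw [← N.syl.cj_eq hcs hxs, ← N.syl.inv_eq hxs,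
          ← N.syl.mul_eq (Model.cj c x) (cj_mem hcs hxs) _ (inv_mem x hxs),
          ← N.syl.cj_eq hcs hm, hcomm x hx]
      have hw : a⁻¹ * (b * a * b⁻¹) ∈ subA σ := mul_mem (inv_mem ha) ha'
      have hwc : σ c * (a⁻¹ * (b * a * b⁻¹)) * (σ c)⁻¹ = a⁻¹ * (b * a * b⁻¹) := by
        have h1 : b * (σ c * a * (σ c)⁻¹ * a⁻¹) * b⁻¹ = σ c * a * (σ c)⁻¹ * a⁻¹ := by
          rw [hd, mul_inv_cancel_right]
        rw [show b * (σ c * a * (σ c)⁻¹ * a⁻¹) * b⁻¹ = b * (σ c * a * (σ c)⁻¹) * b⁻¹ * (b * a * b⁻¹)⁻¹ by group,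
          hconj a ha] at h1
        calc σ c * (a⁻¹ * (b * a * b⁻¹)) * (σ c)⁻¹
            = (σ c * a * (σ c)⁻¹)⁻¹ * (σ c * (b * a * b⁻¹) * (σ c)⁻¹ * (b * a * b⁻¹)⁻¹) * (b * a * b⁻¹) := by
              group
          _ = (σ c * a * (σ c)⁻¹)⁻¹ * (σ c * a * (σ c)⁻¹ * a⁻¹) * (b * a * b⁻¹) := by rw [h1]
          _ = a⁻¹ * (b * a * b⁻¹) := by group
      refine J2Type.Loc.fix_of_step hbo (s := a⁻¹ * (b * a * b⁻¹)) (by group) ?_ (N.syl.A_sq hw)
      rw [hFix _ hw hwc, mul_inv_cancel_right]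
    have := hD3 b hbA' hbo
    rwa [hD, mem_bot] at this
  let π := QuotientGroup.mk' (subA σ)
  have hπ : Function.Surjective π := QuotientGroup.mk'_surjective _
  have hmk : ∀ g : H, π g = 1 ↔ g ∈ subA σ := fun g => QuotientGroup.eq_one_iff g
  let V : Sylow 2 (H ⧸ subA σ) := P.mapSurjective hπ
  have hVmem : ∀ v ∈ (V : Subgroup (H ⧸ subA σ)), ∃ c ∈ [0, 1, 32, 33], π (σ c) = v := by
    intro v hv
    rw [Sylow.coe_mapSurjective] at hv
    obtain ⟨p, hp, rfl⟩ := hv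
    obtain ⟨a, ha, rfl⟩ := N.syl.surj p hp
    obtain ⟨x, hx, t, ht, rfl⟩ := four_codes.2.2.1 a ha
    refine ⟨x, hx, ?_⟩
    have hxs : x ∈ sL := (show ∀ x ∈ [0, 1, 32, 33], x ∈ sL by decide) x hx
    rw [N.syl.mul_eq x hxs t (N.syl.mem_sL (by simp) ht), map_mul, (hmk _).2 (mem_sub_of_mem ht), mul_one]
  have hfix : ∀ c ∈ [1, 32, 33], ∀ x : H ⧸ subA σ, Odd (orderOf x) → π (σ c) * x = x * π (σ c) → x = 1 := by
    intro c hc x hxo hxc
    obtain ⟨g, rfl⟩ := hπ x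
    obtain ⟨a, b, ⟨j, hj⟩, -, hab, ⟨i, hi⟩, hbo⟩ := J2Type.Loc.exists_parts g
    have ha1 : π a = 1 := by
      have hd : orderOf (π a) ∣ orderOf (π g) := by
        rw [← hj, map_zpow]
        exact orderOf_dvd_of_mem_zpowers (zpow_mem (mem_zpowers _) j)
      have h2 : orderOf (π a) ∣ 2 ^ i := (orderOf_map_dvd π a).trans hi
      have hcop : Nat.Coprime (2 ^ i) (orderOf (π g)) := Nat.Coprime.pow_left i (Nat.coprime_two_left.2 hxo)
      exact orderOf_eq_one_iff.1 (Nat.eq_one_of_dvd_coprimes hcop h2 hd)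
    rw [← hab, map_mul, ha1, one_mul] at hxc ⊢
    rw [hfpf c hc b hbo ((hmk _).1 (by simp only [map_mul, map_inv]; rw [← hxc]; group)), map_one]
  have hOC : Cfsg.oddCore (H ⧸ subA σ) = ⊥ := by
    haveI := J2Type.Loc.oddCore_normal (H ⧸ subA σ)
    rw [eq_bot_iff]
    intro x hx
    have hxo : Odd (orderOf x) := J2Type.Loc.odd_orderOf InvChar.Core.odd_card_oddCore hx
    have hinv : ∀ c ∈ [1, 32, 33], π (σ c) * x * (π (σ c))⁻¹ = x⁻¹ := fun c hc =>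
      inverts (N := Cfsg.oddCore (H ⧸ subA σ))
        (by rw [← map_mul, (N.syl.sq_one (four_codes.1 c hc).1).2 (four_codes.1 c hc).2.2.1, map_one])
        (fun y hy e => hfix c hc y (J2Type.Loc.odd_orderOf InvChar.Core.odd_card_oddCore hy) e) hx
    refine mem_bot.2 (hfix 33 (by simp) x hxo (mul_inv_eq_iff_eq_mul.1 ?_))
    rw [← four_codes.2.2.2, N.syl.mul_eq 1 (four_codes.1 1 (by simp)).1 32 (four_codes.1 32 (by simp)).1, map_mul]
    calc π (σ 1) * π (σ 32) * x * (π (σ 1) * π (σ 32))⁻¹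
        = π (σ 1) * (π (σ 32) * x * (π (σ 32))⁻¹) * (π (σ 1))⁻¹ := by group
      _ = π (σ 1) * x⁻¹ * (π (σ 1))⁻¹ := by rw [hinv 32 (by simp)]
      _ = (π (σ 1) * x * (π (σ 1))⁻¹)⁻¹ := by group
      _ = x := by rw [hinv 1 (by simp), inv_inv]
  haveI := N.sol
  have hsol : Group.IsSolvable (H ⧸ subA σ) := solvable_of_surjective hπ
  set W := Cfsg.pCore 2 (H ⧸ subA σ) with hW
  have hWV : W ≤ (V : Subgroup (H ⧸ subA σ)) := Cores.pCore_le_sylow V
  have hVW : (V : Subgroup (H ⧸ subA σ)) ≤ W := by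
    intro v hv
    refine InvChar.Solvable.centralizer_pCore_two_le hsol hOC (mem_centralizer_iff.2 fun w hw => ?_)
    obtain ⟨c, hc, rfl⟩ := hVmem v hv
    obtain ⟨d, hd, rfl⟩ := hVmem w (hWV hw)
    have hcs : c ∈ sL := (show ∀ x ∈ [0, 1, 32, 33], x ∈ sL by decide) c hc
    have hds : d ∈ sL := (show ∀ x ∈ [0, 1, 32, 33], x ∈ sL by decide) d hd
    rw [← map_mul, ← map_mul]
    refine congrArg π ((N.syl.comm hds hcs).2 ?_)
    exact (show ∀ x ∈ [0, 1, 32, 33], ∀ y ∈ [0, 1, 32, 33], Model.mul x y = Model.mul y x by decide +kernel) d hd c hc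
  have hWn : W.Normal := Subgroup.sSup_normal _ (fun K hK => hK.1)
  have h1 : π (h * s * h⁻¹) ∈ (V : Subgroup (H ⧸ subA σ)) := by
    rw [map_mul, map_mul, map_inv]
    exact hWV (hWn.conj_mem _ (hVW (by rw [Sylow.coe_mapSurjective]; exact ⟨s, hs, rfl⟩)) _)
  rw [Sylow.coe_mapSurjective] at h1
  obtain ⟨p, hp, e⟩ := h1
  have h2 : p⁻¹ * (h * s * h⁻¹) ∈ subA σ := QuotientGroup.eq.1 e
  have := mul_mem hp (N.syl.A_le h2)
  rwa [mul_inv_cancel_left] at this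

/-- The three cases. -/
theorem cases : (∀ h : H, ∀ s ∈ (P : Subgroup H), h * s * h⁻¹ ∈ (P : Subgroup H)) ∨
    (Norm P σ ∧ ∃ h : H, act σ h = colT) := by
  classical
  haveI : Fact (Nat.Prime 2) := ⟨Nat.prime_two⟩
  have hR := N.pcore_normal
  have h4s : (4 : ℕ) ∈ sL := List.mem_range.2 (by norm_num)
  by_cases hQ : ∀ a ∈ sL, σ a ∈ Cfsg.pCore 2 H → a ∈ qL
  · have hQR : subQ σ ≤ Cfsg.pCore 2 H := fun g hg => by
      obtain ⟨q, hq, rfl⟩ := N.syl.mem_Q.1 hg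
      refine N.mem_pcore (N.syl.mem q (qL_sL hq)) fun r hr => ?_
      obtain ⟨a, ha, rfl⟩ := N.syl.surj r (N.pcore_le hr)
      rw [← N.syl.cj_eq (qL_sL hq) ha, ← N.syl.mul_eq a ha 4 h4s]
      exact (chain_facts.2.1 q hq a (hQ a ha hr)).imp (congrArg σ) (congrArg σ)
    have heq : subQ σ = Cfsg.pCore 2 H := le_antisymm hQR fun g hg => by
      obtain ⟨a, ha, rfl⟩ := N.syl.surj g (N.pcore_le hg)
      exact mem_sub_of_mem (hQ a ha hg)
    have hN : Norm P σ := ⟨N.syl, N.hz, fun h q hq => heq ▸ hR.conj_mem q (heq ▸ hq) h,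
      fun h hh => heq ▸ N.pcore_cent (mem_centralizer_iff.2 fun q hq => (hh q (heq.symm ▸ hq)).symm)⟩
    by_cases hcol : ∃ h : H, act σ h = colT
    · exact Or.inr ⟨hN, hcol⟩
    · exact Or.inl fun h s hs => hN.sylow_normal hcol h hs
  push Not at hQ
  obtain ⟨a, ha, haR, haQ⟩ := hQ
  obtain ⟨-, -, hrep, hrs, hsq, -, hxor⟩ := chain_facts
  set B := reps.filter fun c => decide (σ c ∈ Cfsg.pCore 2 H) with hB
  have hBmem : ∀ b, b ∈ B ↔ b ∈ reps ∧ σ b ∈ Cfsg.pCore 2 H := fun b => by simp [hB, List.mem_filter]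
  have hred : ∀ r ∈ Cfsg.pCore 2 H, ∃ b ∈ B, ∃ t ∈ tL, r = σ b * σ t := by
    intro r hr
    obtain ⟨c, hc, rfl⟩ := N.syl.surj r (N.pcore_le hr)
    obtain ⟨b, hb, t, ht, e, -, -⟩ := hrep c hc
    have he : σ c = σ b * σ t := by rw [← e, N.syl.mul_eq b (hrs b hb) t (N.syl.mem_sL (by simp) ht)]
    refine ⟨b, (hBmem b).2 ⟨hb, ?_⟩, t, ht, he⟩
    have := mul_mem hr (inv_mem (N.T_mem t ht))
    rwa [he, mul_inv_cancel_right] at this
  have hclosed : ∀ x ∈ B, ∀ y ∈ B, Nat.xor x y ∈ B := by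
    intro x hx y hy
    obtain ⟨hxr, hxR⟩ := (hBmem x).1 hx
    obtain ⟨hyr, hyR⟩ := (hBmem y).1 hy
    obtain ⟨hm, t, ht, e⟩ := hxor x hxr y hyr
    refine (hBmem _).2 ⟨hm, ?_⟩
    have h' := mul_mem (mul_mem hxR hyR) (inv_mem (N.T_mem t ht))
    rwa [← N.syl.mul_eq x (hrs x hxr) y (hrs y hyr), ← e,
      N.syl.mul_eq _ (hrs _ hm) t (N.syl.mem_sL (by simp) ht), mul_inv_cancel_right] at h'
  have hbit : ∃ b ∈ B, bit 3 b ≠ 0 := by
    obtain ⟨b, hb, t, ht, e, e3, -⟩ := hrep a ha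
    refine ⟨b, (hBmem b).2 ⟨hb, ?_⟩, ?_⟩
    · have := mul_mem haR (inv_mem (N.T_mem t ht))
      rwa [← e, N.syl.mul_eq b (hrs b hb) t (N.syl.mem_sL (by simp) ht), mul_inv_cancel_right] at this
    · rw [e3]
      intro h0
      exact haQ (List.mem_filter.2 ⟨ha, by simp [h0]⟩)
  have h0B : 0 ∈ B := (hBmem 0).2 ⟨by decide, N.syl.zero ▸ one_mem _⟩
  rcases six_facts B (List.mem_sublists.2 List.filter_sublist) h0B hclosed hbit with h8 | ⟨q, hq, hqB, hqc⟩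
  · exact Or.inl fun h s hs => N.normal_of_A ((hBmem 8).1 h8).2 h hs
  exfalso
  obtain ⟨hqs, hqr, hq2, hq0, -⟩ := four_codes.1 q hq
  have hqR : σ q ∉ Cfsg.pCore 2 H := fun h => hqB ((hBmem q).2 ⟨hqr, h⟩)
  obtain ⟨f, hf1, hfo, hinv⟩ := Involutions.BaerSuzuki.exists_inverted_odd (σ q) (N.syl.orderOf_two hqs hq2 hq0)
    fun M hM hM2 hqM => hqR (Cores.le_pCore (N := M) hM2 hqM)
  -- the characteristic subgroup of squares
  let K : Subgroup H := closure ({σ 4} ∪ {x | ∃ r ∈ Cfsg.pCore 2 H, r * r = x})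
  have hzK : σ 4 ∈ K := subset_closure (Or.inl rfl)
  have hKn : ∀ k ∈ K, ∀ g : H, g * k * g⁻¹ ∈ K := by
    intro k hk g
    induction hk using Subgroup.closure_induction with
    | mem x hx =>
      rcases hx with hx | ⟨r, hr, rfl⟩
      · rw [Set.mem_singleton_iff.1 hx, N.hz g, mul_inv_cancel_right]; exact hzK
      · exact subset_closure (Or.inr ⟨g * r * g⁻¹, hR.conj_mem r hr g, by group⟩)
    | one => simp
    | mul x y _ _ hx hy =>
      rw [show g * (x * y) * g⁻¹ = g * x * g⁻¹ * (g * y * g⁻¹) by group]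
      exact mul_mem hx hy
    | inv x _ hx =>
      rw [show g * x⁻¹ * g⁻¹ = (g * x * g⁻¹)⁻¹ by group]
      exact inv_mem hx
  have hKT : K ≤ subT σ := (closure_le _).2 (by
    rintro x (hx | ⟨r, hr, rfl⟩)
    · rw [Set.mem_singleton_iff.1 hx]; exact N.syl.z_mem_T
    · obtain ⟨c, hc, rfl⟩ := N.syl.surj r (N.pcore_le hr)
      rw [← N.syl.mul_eq c hc c hc]
      exact mem_sub_of_mem (hsq c hc))
  have hZn : ∀ k ∈ zpowers (σ 4), ∀ g : H, g * k * g⁻¹ ∈ zpowers (σ 4) := fun k hk g => by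
    rcases N.z_cases hk with rfl | rfl
    · simp
    · rw [N.hz g, mul_inv_cancel_right]; exact mem_zpowers _
  have hqT : ∀ t ∈ subT σ, σ q * t * (σ q)⁻¹ * t⁻¹ ∈ zpowers (σ 4) := by
    intro t ht
    obtain ⟨c, hc, rfl⟩ := N.syl.mem_T.1 ht
    have hcs := N.syl.mem_sL (L := tL) (by simp) hc
    rw [← N.syl.cj_eq hqs hcs]
    rcases (show ∀ q ∈ [1, 32, 33], ∀ c ∈ tL, Model.cj q c = c ∨ Model.cj q c = Model.mul c 4 by decide +kernel)
      q hq c hc with e | e <;> rw [e]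
    · rw [mul_inv_cancel]; exact one_mem _
    · rw [N.syl.mul_eq c hcs 4 h4s, N.hz (σ c), mul_inv_cancel_right]; exact mem_zpowers _
  have hfK : ∀ k ∈ K, f * k = k * f := fun k hk => stab hKn hZn (fun r hr => hqT r (hKT hr))
    (fun k hk => by
      rcases N.z_cases hk with rfl | rfl
      · simp
      · exact N.hz f)
    (fun k hk => by
      rcases N.z_cases hk with rfl | rfl
      · simp
      · exact N.zz) hinv hfo hk
  have hqK : ∀ r ∈ Cfsg.pCore 2 H, σ q * r * (σ q)⁻¹ * r⁻¹ ∈ K := by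
    intro r hr
    obtain ⟨b, hb, t, ht, rfl⟩ := hred r hr
    obtain ⟨hbr, hbR⟩ := (hBmem b).1 hb
    obtain ⟨c, hc, d, hd, e, he, heq⟩ := hqc b hb
    have hbs := hrs b hbr
    have hcs := hrs c ((hBmem c).1 hc).1
    have hds := hrs d ((hBmem d).1 hd).1
    have hes : e ∈ sL ∧ σ e ∈ K := by
      simp only [List.mem_cons, List.not_mem_nil, or_false] at he
      rcases he with rfl | rfl
      · exact ⟨zero_sL, N.syl.zero ▸ one_mem K⟩
      · exact ⟨h4s, hzK⟩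
    have h1 : σ q * σ b * (σ q)⁻¹ * (σ b)⁻¹ ∈ K := by
      rw [← N.syl.cj_eq hqs hbs, ← N.syl.inv_eq hbs,
        ← N.syl.mul_eq (Model.cj q b) (cj_mem hqs hbs) _ (inv_mem b hbs), heq,
        N.syl.mul_eq _ (closed _ (closed c hcs c hcs) _ (closed d hds d hds)) e hes.1,
        N.syl.mul_eq _ (closed c hcs c hcs) _ (closed d hds d hds), N.syl.mul_eq c hcs c hcs,
        N.syl.mul_eq d hds d hds]
      exact mul_mem (mul_mem (subset_closure (Or.inr ⟨_, ((hBmem c).1 hc).2, rfl⟩))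
        (subset_closure (Or.inr ⟨_, ((hBmem d).1 hd).2, rfl⟩))) hes.2
    rcases N.z_cases (hqT _ (mem_sub_of_mem ht)) with e' | e'
    · have : σ q * (σ b * σ t) * (σ q)⁻¹ * (σ b * σ t)⁻¹ = σ q * σ b * (σ q)⁻¹ * (σ b)⁻¹ := by
        calc σ q * (σ b * σ t) * (σ q)⁻¹ * (σ b * σ t)⁻¹
            = σ q * σ b * (σ q)⁻¹ * (σ q * σ t * (σ q)⁻¹ * (σ t)⁻¹) * (σ b)⁻¹ := by group
          _ = _ := by rw [e', mul_one]
      rw [this]; exact h1
    · have : σ q * (σ b * σ t) * (σ q)⁻¹ * (σ b * σ t)⁻¹ = σ q * σ b * (σ q)⁻¹ * (σ b)⁻¹ * σ 4 := by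
        calc σ q * (σ b * σ t) * (σ q)⁻¹ * (σ b * σ t)⁻¹
            = σ q * σ b * (σ q)⁻¹ * (σ q * σ t * (σ q)⁻¹ * (σ t)⁻¹) * (σ b)⁻¹ := by group
          _ = _ := by rw [e', mul_assoc _ (σ 4), ← N.hz (σ b)⁻¹, ← mul_assoc]
      rw [this]; exact mul_mem h1 hzK
  have hfR : ∀ r ∈ Cfsg.pCore 2 H, f * r = r * f := fun r hr =>
    stab (fun r hr g => hR.conj_mem r hr g) hKn hqK hfK (fun k hk => N.syl.A_sq (N.syl.T_le_A (hKT hk))) hinv hfo hr
  exact hf1 (J2Type.Loc.eq_one_of_two_odd (Cores.pCore_isPGroup 2)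
    (N.pcore_cent (mem_centralizer_iff.2 fun r hr => (hfR r hr).symm)) hfo)

end Quot

end Cfsg.Agent.A8Type.CentZ
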