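import Cfsg.Agent.Lib.A8Type.Model

/-!
The linear maps of the extraspecial group of codes modulo its centre that preserve the squares, as four images of
a basis.
-/

set_option autoImplicit false

namespace Cfsg.Agent.A8Type.CentZ

open Cfsg.Agent.A8Type.Model

/-- The class of a code modulo the code 4. -/
def cls (a : ℕ) : ℕ := Nat.xor a (4 * bit 2 a)

/-- All classes. -/
def clsL : List ℕ := [0, 1, 2, 3, 16, 17, 18, 19, 32, 33, 34, 35, 48, 49, 50, 51]

/-- The classes of square one. -/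
def sgL : List ℕ := [0, 1, 2, 3, 16, 18, 32, 33, 48, 51]

/-- The classes inside `T`. -/
def tcL : List ℕ := [0, 2, 16, 18]

/-- The linear extension of four values. -/
def lin (p q r s a : ℕ) : ℕ :=
  Nat.xor (Nat.xor (bit 0 a * p) (bit 1 a * q)) (Nat.xor (bit 4 a * r) (bit 5 a * s))

/-- The application of a table. -/
def app (t : List ℕ) (a : ℕ) : ℕ := lin (t.getD 0 0) (t.getD 1 0) (t.getD 2 0) (t.getD 3 0) a

/-- The composition of tables. -/
def comp (s t : List ℕ) : List ℕ := t.map (app s)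

/-- The basis, which is the table of the identity. -/
def one : List ℕ := [1, 2, 16, 32]

/-- The table of the code 8. -/
def uT : List ℕ := [3, 2, 16, 48]

/-- The table of the cyclic permutation of the columns. -/
def colT : List ℕ := [3, 1, 32, 48]

/-- The group generated by the column cycle and `uT`. -/
def g6 : List (List ℕ) :=
  [[1, 2, 16, 32], [1, 3, 48, 32], [2, 1, 32, 16], [2, 3, 48, 16], [3, 1, 32, 48], [3, 2, 16, 48]]

/-- The centralizer of `uT` in the next group. -/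
def c6 : List (List ℕ) :=
  [[1, 2, 16, 32], [3, 2, 16, 48], [32, 16, 18, 33], [33, 18, 2, 1], [48, 16, 18, 51], [51, 18, 2, 3]]

/-- The group of the translations of the nine points extended by `uT`. -/
def g18 : List (List ℕ) :=
  g6 ++ [[16, 32, 33, 18], [16, 48, 51, 18], [18, 33, 1, 2], [18, 51, 3, 2], [32, 16, 18, 33], [32, 48, 51, 33],
    [33, 18, 2, 1], [33, 51, 3, 1], [48, 16, 18, 51], [48, 32, 33, 51], [51, 18, 2, 3], [51, 33, 1, 3]]

/-- The product of a list of tables. -/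
def prodT (L : List (List ℕ)) : List ℕ := L.foldl comp one

/-- Four tables attached to a table. -/
def fourL (w : List ℕ) : List (List ℕ) :=
  if comp w w = one then [one, uT, w, comp uT w] else [one, w, comp w w, comp (comp w w) w]

/-- Two words in `uT` and a table. -/
def badWords (v : List ℕ) : List (List ℕ) := [prodT [v, uT, v, uT, v, v, v], prodT [uT, v]]

/-- Two words in `uT` and a table giving the column cycle. -/
def colWords (v : List ℕ) : List (List ℕ) := [prodT [uT, v, uT, v, v, v, v, v], prodT [v, uT, v, v, v, v, v, uT]]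

/-- One of the words generates, with `uT` or alone, a group of order four. -/
def bad (v : List ℕ) : Bool :=
  (badWords v).any fun w => decide (fourL w).Nodup && (fourL w).all fun a => (fourL w).all fun b =>
    (fourL w).contains (comp a b)

theorem cls_facts : (∀ a ∈ qL, cls a ∈ clsL ∧ cls a ∈ qL ∧ Model.mul a a = Model.mul (cls a) (cls a) ∧
      (Model.mul a a = 0 ∨ Model.mul a a = 4) ∧ (cls a = a ∨ Model.mul (cls a) 4 = a) ∧
      bit 0 (cls a) = bit 0 a ∧ bit 1 (cls a) = bit 1 a ∧ bit 4 (cls a) = bit 4 a ∧ bit 5 (cls a) = bit 5 a) ∧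
    (∀ a ∈ qL, ∀ b ∈ qL, cls (Model.mul a b) = Nat.xor (cls a) (cls b) ∧ Model.mul a b ∈ qL) ∧
    (∀ a ∈ clsL, a ∈ qL ∧ cls a = a ∧ app one a = a ∧ (Model.mul a a = 0 → a ∈ sgL)) := by
  decide +kernel

theorem split : ∀ a ∈ qL, ∃ c ∈ [0, 4], Model.mul (Model.mul (Model.mul (bit 0 a * 1) (bit 1 a * 2))
    (Model.mul (bit 4 a * 16) (bit 5 a * 32))) c = a ∧ cls c = 0 := by
  decide +kernel

theorem in_qL : ∀ a ∈ qL, bit 0 a * 1 ∈ qL ∧ bit 1 a * 2 ∈ qL ∧ bit 4 a * 16 ∈ qL ∧ bit 5 a * 32 ∈ qL ∧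
    Model.mul (bit 0 a * 1) (bit 1 a * 2) ∈ qL ∧ Model.mul (bit 4 a * 16) (bit 5 a * 32) ∈ qL := by
  decide +kernel

theorem table_uT : ∀ b ∈ one, cls (Model.cj 8 b) = app uT b ∧ b ∈ qL ∧ app colT b ∈ qL := by decide +kernel

/-- The tables preserving the squares lie in the group of order 18 or give a group of order four. -/
theorem classify : ∀ p ∈ sgL, ∀ q ∈ sgL, Model.mul (Nat.xor p q) (Nat.xor p q) = Model.mul 3 3 →
    ∀ r ∈ sgL, Model.mul (Nat.xor p r) (Nat.xor p r) = Model.mul 17 17 →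
      Model.mul (Nat.xor q r) (Nat.xor q r) = Model.mul 18 18 →
    ∀ s ∈ sgL, Model.mul (Nat.xor p s) (Nat.xor p s) = Model.mul 33 33 →
      Model.mul (Nat.xor q s) (Nat.xor q s) = Model.mul 34 34 →
      Model.mul (Nat.xor r s) (Nat.xor r s) = Model.mul 48 48 →
      [p, q, r, s] ∈ g18 ∨ bad [p, q, r, s] = true := by
  decide +kernel

theorem group_facts : (g18.Nodup ∧ g6.Nodup ∧ g18.length = 18 ∧ g6.length = 6 ∧ one ∈ g18 ∧ uT ∈ g6 ∧ colT ∈ g6 ∧
      ∀ v ∈ g6, v ∈ g18) ∧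
    (∀ v ∈ c6, comp uT v = comp v uT) ∧
    (∀ v ∈ g18, v ∈ c6 ∨ ∃ w ∈ colWords v, w = colT) ∧
    (∀ w ∈ g6, ∃ i ∈ [[], [colT], [colT, colT]], ∃ j ∈ [[], [uT]], prodT (i ++ j) = w) ∧
    (∀ v ∈ g18, v ∉ g6 → ∀ w ∈ g18, ∃ a ∈ g6, ∃ b ∈ [one, v, comp v v, prodT [v, uT, v]], comp a b = w) := by
  decide +kernel

theorem point_facts : (∀ v ∈ g18, ∀ t ∈ sgL, t ≠ 0 → app v t = t → comp v v = one) ∧
    (∀ v ∈ g18, ∀ p ∈ tL, p ≠ 0 → p ≠ 4 → ∀ q ∈ qL, q ∉ tL → Model.mul q q = 0 → Model.mul p q = Model.mul q p →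
      ¬ (app v (cls p) ∈ tcL ∧ app v (cls q) ∈ tcL)) ∧
    (∀ v ∈ g6, app v 2 ∈ tcL → app v 16 ∈ tcL → v = one ∨ v = uT) ∧
    (∀ a ∈ tL, a ∈ qL ∧ cls a ∈ tcL) := by
  decide +kernel

theorem col_facts : ∀ pq ∈ [(2, 1), (1, 3), (3, 2), (16, 32), (32, 48), (48, 16), (18, 33), (33, 51), (51, 18)],
    pq.1 ∈ qL ∧ pq.2 ∈ qL ∧ app colT (cls pq.1) = pq.2 ∧ cls pq.2 = pq.2 := by
  decide +kernel

end Cfsg.Agent.A8Type.CentZ
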