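import Cfsg.Agent.Lib.A8Type.Basic
import Cfsg.Agent.Lib.A8Type.CentZTab

/-!
A finite group with the Sylow subgroup of the codes, central `σ 4`, and the extraspecial subgroup normal and
self-centralizing: the action on that subgroup modulo its centre.
-/

set_option autoImplicit false
set_option linter.style.haveILetI false
set_option linter.unusedSectionVars false
set_option maxHeartbeats 800000

namespace Cfsg.Agent.A8Type.CentZ

open Subgroup
open Cfsg.Agent.A8Type.Model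

universe u

variable {H : Type u} [Group H]

/-- The extraspecial subgroup is normal and self-centralizing, and `σ 4` is central. -/
structure Norm [Finite H] (P : Sylow 2 H) (σ : ℕ → H) : Prop where
  syl : Syl (P : Subgroup H) σ
  hz : ∀ h : H, h * σ 4 = σ 4 * h
  hn : ∀ h : H, ∀ q ∈ subQ σ, h * q * h⁻¹ ∈ subQ σ
  hs : ∀ h : H, (∀ q ∈ subQ σ, h * q = q * h) → h ∈ subQ σ

/-- The code of an element of the extraspecial subgroup. -/
noncomputable def codeQ (σ : ℕ → H) (g : H) : ℕ := _root_.Classical.epsilon fun a => a ∈ qL ∧ σ a = g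

/-- The class of the image of a code. -/
noncomputable def im (σ : ℕ → H) (h : H) (a : ℕ) : ℕ := cls (codeQ σ (h * σ a * h⁻¹))

/-- The table of an element. -/
noncomputable def act (σ : ℕ → H) (h : H) : List ℕ := one.map (im σ h)

theorem bit_cases (k a : ℕ) : bit k a = 0 ∨ bit k a = 1 := by unfold bit; omega

theorem qL_sL {a : ℕ} (ha : a ∈ qL) : a ∈ sL := (List.mem_filter.1 ha).1

theorem q_small : (0 ∈ qL ∧ 4 ∈ qL ∧ cls 0 = 0 ∧ cls 4 = 0 ∧ Model.mul 4 4 = 0 ∧ (∀ b ∈ one, b ∈ qL)) ∧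
    (∀ b ∈ qL, cls b = 0 → b = 0 ∨ b = 4) ∧ (∀ b ∈ qL, ∀ a ∈ qL, cls b = cls a → b = a ∨ b = Model.mul a 4) ∧
    (∀ a ∈ qL, ∀ q ∈ qL, Model.cj q a ∈ qL ∧ cls (Model.cj q a) = cls a) ∧
    (∀ c1 ∈ [0, 4], ∀ c2 ∈ [0, 4], ∀ c3 ∈ [0, 4], ∀ c4 ∈ [0, 4], ∃ q ∈ qL, Model.cj q 1 = Model.mul 1 c1 ∧
      Model.cj q 2 = Model.mul 2 c2 ∧ Model.cj q 16 = Model.mul 16 c3 ∧ Model.cj q 32 = Model.mul 32 c4) := by
  decide +kernel

namespace Norm

variable [Finite H] {P : Sylow 2 H} {σ : ℕ → H} (N : Norm P σ)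

include N

theorem code_spec {g : H} (hg : g ∈ subQ σ) : codeQ σ g ∈ qL ∧ σ (codeQ σ g) = g :=
  _root_.Classical.epsilon_spec (p := fun a => a ∈ qL ∧ σ a = g) (N.syl.mem_Q.1 hg)

theorem code_eq {a : ℕ} (ha : a ∈ qL) : codeQ σ (σ a) = a := by
  obtain ⟨h1, h2⟩ := N.code_spec (mem_sub_of_mem ha)
  exact N.syl.inj _ (qL_sL h1) a (qL_sL ha) h2

theorem conj_code (h : H) {a : ℕ} (ha : a ∈ qL) : codeQ σ (h * σ a * h⁻¹) ∈ qL ∧
    σ (codeQ σ (h * σ a * h⁻¹)) = h * σ a * h⁻¹ := N.code_spec (N.hn h _ (mem_sub_of_mem ha))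

theorem im_of_eq {h : H} {a b : ℕ} (hb : b ∈ qL) (e : h * σ a * h⁻¹ = σ b) : im σ h a = cls b := by
  rw [im, e, N.code_eq hb]

theorem im_mul (h : H) {a b : ℕ} (ha : a ∈ qL) (hb : b ∈ qL) :
    im σ h (Model.mul a b) = Nat.xor (im σ h a) (im σ h b) := by
  obtain ⟨h1, e1⟩ := N.conj_code h ha
  obtain ⟨h2, e2⟩ := N.conj_code h hb
  obtain ⟨h3, h4⟩ := cls_facts.2.1 _ h1 _ h2
  rw [N.im_of_eq h4 (by
    rw [N.syl.mul_eq _ (qL_sL h1) _ (qL_sL h2), e1, e2, N.syl.mul_eq a (qL_sL ha) b (qL_sL hb)]; group), h3]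
  rfl

theorem im_zero (h : H) : im σ h 0 = 0 :=
  (N.im_of_eq q_small.1.1 (by rw [N.syl.zero]; simp)).trans q_small.1.2.2.1

theorem im_four (h : H) : im σ h 4 = 0 :=
  (N.im_of_eq q_small.1.2.1 (by rw [N.hz h, mul_inv_cancel_right])).trans q_small.1.2.2.2.1

theorem im_lin (h : H) {a : ℕ} (ha : a ∈ qL) :
    im σ h a = lin (im σ h 1) (im σ h 2) (im σ h 16) (im σ h 32) a := by
  obtain ⟨c, hc, e, -⟩ := split a ha
  obtain ⟨h1, h2, h3, h4, h12, h34⟩ := in_qL a ha
  have hsc : ∀ k b, im σ h (bit k a * b) = bit k a * im σ h b := fun k b => by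
    rcases bit_cases k a with e | e <;> simp [e, N.im_zero]
  have hc' : c ∈ qL ∧ im σ h c = 0 := by
    simp only [List.mem_cons, List.not_mem_nil, or_false] at hc
    rcases hc with rfl | rfl
    · exact ⟨q_small.1.1, N.im_zero h⟩
    · exact ⟨q_small.1.2.1, N.im_four h⟩
  conv_lhs => rw [← e]
  rw [N.im_mul h (cls_facts.2.1 _ h12 _ h34).2 hc'.1, hc'.2, N.im_mul h h12 h34, N.im_mul h h1 h2,
    N.im_mul h h3 h4, hsc, hsc, hsc, hsc]
  exact Nat.xor_zero _

/-- The table gives the image. -/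
theorem im_app (h : H) {a : ℕ} (ha : a ∈ qL) : im σ h a = app (act σ h) (cls a) := by
  obtain ⟨-, -, -, -, -, b0, b1, b4, b5⟩ := cls_facts.1 a ha
  rw [N.im_lin h ha]
  show _ = lin (im σ h 1) (im σ h 2) (im σ h 16) (im σ h 32) (cls a)
  simp only [lin, b0, b1, b4, b5]

theorem act_mul (g h : H) : act σ (g * h) = comp (act σ g) (act σ h) := by
  show one.map (im σ (g * h)) = (one.map (im σ h)).map (app (act σ g))
  rw [List.map_map]
  refine List.map_congr_left fun a ha => ?_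
  obtain ⟨h1, e1⟩ := N.conj_code h (q_small.1.2.2.2.2.2 a ha)
  obtain ⟨h2, e2⟩ := N.conj_code g h1
  show im σ (g * h) a = app (act σ g) (im σ h a)
  rw [im, im, ← N.im_app g h1, im, e1,
    show g * h * σ a * (g * h)⁻¹ = g * (h * σ a * h⁻¹) * g⁻¹ by group]

theorem act_Q {g : H} (hg : g ∈ subQ σ) : act σ g = one := by
  obtain ⟨q, hq, rfl⟩ := N.syl.mem_Q.1 hg
  calc act σ (σ q) = one.map id := List.map_congr_left fun b hb => by
        obtain ⟨h1, h2⟩ := q_small.2.2.2.1 b (q_small.1.2.2.2.2.2 b hb) q hq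
        rw [N.im_of_eq h1 (N.syl.cj_eq (qL_sL hq) (qL_sL (q_small.1.2.2.2.2.2 b hb))).symm, h2]
        exact (show ∀ b ∈ one, cls b = id b by decide) b hb
    _ = one := List.map_id _

theorem act_one : act σ 1 = one := N.act_Q (one_mem _)

/-- An element fixing all classes lies in the extraspecial subgroup. -/
theorem act_eq_one {h : H} : act σ h = one ↔ h ∈ subQ σ := by
  refine ⟨fun e => ?_, N.act_Q⟩
  have hcl : ∀ b ∈ one, ∃ c ∈ [0, 4], h * σ b * h⁻¹ = σ (Model.mul b c) := by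
    intro b hb
    have hbq := q_small.1.2.2.2.2.2 b hb
    obtain ⟨h1, e1⟩ := N.conj_code h hbq
    have h2 : cls (codeQ σ (h * σ b * h⁻¹)) = cls b := by
      have h3 := N.im_app h hbq
      rw [e] at h3
      rw [show cls (codeQ σ (h * σ b * h⁻¹)) = im σ h b from rfl, h3]
      exact (show ∀ b ∈ one, app one (cls b) = cls b by decide) b hb
    rcases q_small.2.2.1 _ h1 b hbq h2 with e' | e'
    · exact ⟨0, by simp, by rw [(unit_laws b (qL_sL hbq)).1, ← e1, e']⟩
    · exact ⟨4, by simp, by rw [← e1, e']⟩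
  obtain ⟨c1, m1, e1⟩ := hcl 1 (by decide)
  obtain ⟨c2, m2, e2⟩ := hcl 2 (by decide)
  obtain ⟨c3, m3, e3⟩ := hcl 16 (by decide)
  obtain ⟨c4, m4, e4⟩ := hcl 32 (by decide)
  obtain ⟨q, hq, f1, f2, f3, f4⟩ := q_small.2.2.2.2 c1 m1 c2 m2 c3 m3 c4 m4
  have hgen : ∀ b ∈ one, h⁻¹ * σ q * σ b = σ b * (h⁻¹ * σ q) := by
    intro b hb
    have hbq := q_small.1.2.2.2.2.2 b hb
    have hh : h * σ b * h⁻¹ = σ q * σ b * (σ q)⁻¹ := by
      rw [← N.syl.cj_eq (qL_sL hq) (qL_sL hbq)]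
      simp only [one, List.mem_cons, List.not_mem_nil, or_false] at hb
      rcases hb with rfl | rfl | rfl | rfl
      · rw [e1, f1]
      · rw [e2, f2]
      · rw [e3, f3]
      · rw [e4, f4]
    calc h⁻¹ * σ q * σ b = h⁻¹ * (σ q * σ b * (σ q)⁻¹) * σ q := by group
      _ = σ b * (h⁻¹ * σ q) := by rw [← hh]; group
  have hc : ∀ a ∈ qL, h⁻¹ * σ q * σ a = σ a * (h⁻¹ * σ q) := by
    intro a ha
    set K := centralizer ({h⁻¹ * σ q} : Set H)
    have hK : ∀ b, b ∈ one → σ b ∈ K := fun b hb => mem_centralizer_singleton_iff.2 (hgen b hb).symm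
    have hK0 : σ 0 ∈ K := N.syl.zero ▸ one_mem K
    have hK4 : σ 4 ∈ K := mem_centralizer_singleton_iff.2 (N.hz _).symm
    obtain ⟨c, hc, e, -⟩ := split a ha
    obtain ⟨p1, p2, p3, p4, p12, p34⟩ := in_qL a ha
    have hbit : ∀ k b, b ∈ one → σ (bit k a * b) ∈ K := fun k b hb => by
      rcases bit_cases k a with e | e <;> rw [e]
      · rw [zero_mul]; exact hK0
      · rw [one_mul]; exact hK b hb
    have hcK : c ∈ qL ∧ σ c ∈ K := by
      simp only [List.mem_cons, List.not_mem_nil, or_false] at hc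
      rcases hc with rfl | rfl
      · exact ⟨q_small.1.1, hK0⟩
      · exact ⟨q_small.1.2.1, hK4⟩
    refine (mem_centralizer_singleton_iff.1 (?_ : σ a ∈ K)).symm
    rw [← e, N.syl.mul_eq _ (qL_sL (cls_facts.2.1 _ p12 _ p34).2) _ (qL_sL hcK.1),
      N.syl.mul_eq _ (qL_sL p12) _ (qL_sL p34), N.syl.mul_eq _ (qL_sL p1) _ (qL_sL p2),
      N.syl.mul_eq _ (qL_sL p3) _ (qL_sL p4)]
    exact mul_mem (mul_mem (mul_mem (hbit 0 1 (by decide)) (hbit 1 2 (by decide)))
      (mul_mem (hbit 4 16 (by decide)) (hbit 5 32 (by decide)))) hcK.2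
  have hmem : h⁻¹ * σ q ∈ subQ σ := N.hs _ fun x hx => by
    obtain ⟨a, ha, rfl⟩ := N.syl.mem_Q.1 hx
    exact hc a ha
  have := mul_mem (mem_sub_of_mem (ρ := σ) hq) (inv_mem hmem)
  rwa [mul_inv_rev, inv_inv, mul_inv_cancel_left] at this

theorem act_congr {g h : H} (e : act σ g = act σ h) : g⁻¹ * h ∈ subQ σ :=
  N.act_eq_one.1 (by rw [N.act_mul, ← e, ← N.act_mul, inv_mul_cancel, N.act_one])

theorem eight_s : (8 : ℕ) ∈ sL := List.mem_range.2 (by norm_num)

theorem act_eight : act σ (σ 8) = uT := by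
  calc act σ (σ 8) = one.map (app uT) := List.map_congr_left fun b hb => by
        obtain ⟨e, hb', -⟩ := table_uT b hb
        obtain ⟨h1, e1⟩ := N.conj_code (σ 8) hb'
        rw [← e, im]
        refine congrArg cls (N.syl.inj _ (qL_sL h1) _ ?_ ?_)
        · exact closed _ (closed _ N.eight_s _ (qL_sL hb')) _ (inv_mem _ N.eight_s)
        · rw [e1, N.syl.cj_eq N.eight_s (qL_sL hb')]
    _ = uT := by decide

/-- The table of an element of the Sylow subgroup. -/
theorem act_P {s : H} (hs : s ∈ (P : Subgroup H)) : act σ s = one ∨ act σ s = uT := by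
  obtain ⟨a, ha, rfl⟩ := N.syl.surj s hs
  rcases (show ∀ a ∈ sL, a ∈ qL ∨ Model.mul 8 a ∈ qL by decide +kernel) a ha with h | h
  · exact Or.inl (N.act_Q (mem_sub_of_mem h))
  · refine Or.inr ?_
    have h1 : σ 8 * σ a ∈ subQ σ := N.syl.mul_eq 8 N.eight_s a ha ▸ mem_sub_of_mem h
    have h2 : act σ (σ 8 * (σ 8 * σ a)) = comp uT one := by rw [N.act_mul, N.act_eight, N.act_Q h1]
    rwa [← mul_assoc, (N.syl.sq_one N.eight_s).2 (show Model.mul 8 8 = 0 by decide), one_mul,
      show comp uT one = uT by decide] at h2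

theorem act_pow {h : H} {L : List (List ℕ)} (h1 : one ∈ L) (hL : ∀ a ∈ L, ∀ b ∈ L, comp a b ∈ L)
    (hh : act σ h ∈ L) (n : ℕ) : act σ (h ^ n) ∈ L := by
  induction n with
  | zero => rw [pow_zero, N.act_one]; exact h1
  | succ n ih => rw [pow_succ, N.act_mul]; exact hL _ ih _ hh

theorem inv_pow_eq (h : H) : h⁻¹ = h ^ (orderOf h - 1) := by
  refine inv_eq_of_mul_eq_one_right ?_
  rw [← pow_succ', Nat.sub_add_cancel (orderOf_pos h), pow_orderOf_eq_one]

omit N in
theorem mem_img_prod {σ : ℕ → H} {P : Sylow 2 H} (N : Norm P σ) (L : List (List ℕ))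
    (hL : ∀ v ∈ L, ∃ h : H, act σ h = v) : ∃ h : H, act σ h = prodT L := by
  induction L using List.reverseRecOn with
  | nil => exact ⟨1, N.act_one⟩
  | append_singleton L v ih =>
    obtain ⟨g, hg⟩ := ih fun w hw => hL w (List.mem_append_left _ hw)
    obtain ⟨h, hh⟩ := hL v (List.mem_append_right _ (List.mem_singleton_self v))
    refine ⟨g * h, ?_⟩
    rw [N.act_mul, hg, hh, prodT, prodT, List.foldl_concat]

theorem Q_pre {L : List (List ℕ)} (h1 : one ∈ L) {X : Subgroup H} (hX : ∀ h, h ∈ X ↔ act σ h ∈ L) :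
    subQ σ ≤ X := fun q hq => (hX q).2 (by rw [N.act_Q hq]; exact h1)

/-- The order of a subgroup containing the extraspecial one is 32 times its number of tables. -/
theorem card_pre {L : List (List ℕ)} (hL : L.Nodup) (hreal : ∀ v ∈ L, ∃ h : H, act σ h = v) (h1 : one ∈ L)
    {X : Subgroup H} (hX : ∀ h, h ∈ X ↔ act σ h ∈ L) : Nat.card X = 32 * L.length := by
  classical
  have hQX := N.Q_pre h1 hX
  choose f hf using hreal
  have hfX : ∀ v : L.toFinset, f v.1 (List.mem_toFinset.1 v.2) ∈ X := fun v =>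
    (hX _).2 (by rw [hf]; exact List.mem_toFinset.1 v.2)
  let g : L.toFinset → X ⧸ (subQ σ).subgroupOf X := fun v => QuotientGroup.mk ⟨_, hfX v⟩
  have hb : Function.Bijective g := by
    refine ⟨fun v w e => ?_, fun x => ?_⟩
    · have h2 : (f v.1 (List.mem_toFinset.1 v.2))⁻¹ * f w.1 (List.mem_toFinset.1 w.2) ∈ subQ σ :=
        mem_subgroupOf.1 (QuotientGroup.eq.1 e)
      have h3 := congrArg (comp (act σ (f v.1 (List.mem_toFinset.1 v.2)))) (N.act_Q h2)
      rw [← N.act_mul, mul_inv_cancel_left, hf, ← N.act_one, ← N.act_mul, mul_one, hf] at h3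
      exact Subtype.ext h3.symm
    · obtain ⟨y, rfl⟩ := QuotientGroup.mk_surjective x
      have hy : act σ (y : H) ∈ L := (hX _).1 y.2
      exact ⟨⟨_, List.mem_toFinset.2 hy⟩, QuotientGroup.eq.2 (mem_subgroupOf.2 (N.act_congr (hf _ _)))⟩
  rw [card_eq_card_quotient_mul_card_subgroup ((subQ σ).subgroupOf X), ← Nat.card_eq_of_bijective g hb,
    Nat.card_eq_finsetCard, List.toFinset_card_of_nodup hL,
    Nat.card_congr (subgroupOfEquivOfLe hQX).toEquiv, N.syl.card_Q, mul_comm]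

theorem not_four {L : List (List ℕ)} (hn : L.Nodup) (h1 : one ∈ L) (hlen : L.length = 4)
    (hL : ∀ a ∈ L, ∀ b ∈ L, comp a b ∈ L) (hreal : ∀ v ∈ L, ∃ h : H, act σ h = v) : False := by
  haveI : Fact (Nat.Prime 2) := ⟨Nat.prime_two⟩
  let X : Subgroup H :=
    { carrier := {h | act σ h ∈ L}
      one_mem' := show act σ 1 ∈ L from N.act_one.symm ▸ h1
      mul_mem' := fun {a b} ha hb => show act σ (a * b) ∈ L from (N.act_mul a b).symm ▸ hL _ ha _ hb
      inv_mem' := fun {a} ha => show act σ a⁻¹ ∈ L by rw [N.inv_pow_eq]; exact N.act_pow h1 hL ha _ }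
  have hX : IsPGroup 2 X := IsPGroup.of_card (n := 7) (by
    rw [N.card_pre hn hreal h1 (X := X) (fun h => Iff.rfl), hlen]; norm_num)
  obtain ⟨P', hP'⟩ := hX.exists_le_sylow
  have h2 : Nat.card (P' : Subgroup H) = 64 := by
    rw [P'.card_eq_multiplicity, ← P.card_eq_multiplicity, N.syl.card_eq]
  have h3 := card_le_of_le hP'
  rw [N.card_pre hn hreal h1 (X := X) (fun h => Iff.rfl), hlen, h2] at h3
  omega

/-- Every table lies in the group of order 18. -/
theorem act_mem (h : H) : act σ h ∈ g18 := by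
  have hq := q_small.1.2.2.2.2.2
  have hsq : ∀ a ∈ qL, ∃ b ∈ qL, cls b = im σ h a ∧ Model.mul b b = Model.mul a a := by
    intro a ha
    obtain ⟨h1, e1⟩ := N.conj_code h ha
    refine ⟨_, h1, rfl, N.syl.inj _ (closed _ (qL_sL h1) _ (qL_sL h1)) _ (closed _ (qL_sL ha) _ (qL_sL ha)) ?_⟩
    rw [N.syl.mul_eq _ (qL_sL h1) _ (qL_sL h1), e1,
      show h * σ a * h⁻¹ * (h * σ a * h⁻¹) = h * (σ a * σ a) * h⁻¹ by group,
      ← N.syl.mul_eq _ (qL_sL ha) _ (qL_sL ha)]
    rcases (cls_facts.1 a ha).2.2.2.1 with e | e <;> rw [e]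
    · rw [N.syl.zero]; simp
    · rw [N.hz h, mul_inv_cancel_right]
  have hsing : ∀ a ∈ one, im σ h a ∈ sgL := fun a ha => by
    obtain ⟨b, hb, e1, e2⟩ := hsq a (hq a ha)
    obtain ⟨c1, -, c3, -⟩ := cls_facts.1 b hb
    exact e1 ▸ (cls_facts.2.2 _ c1).2.2.2 (by rw [← c3, e2]; exact
      (show ∀ a ∈ one, Model.mul a a = 0 by decide) a ha)
  have hpair : ∀ a ∈ one, ∀ b ∈ one, Model.mul (Nat.xor (im σ h a) (im σ h b)) (Nat.xor (im σ h a) (im σ h b)) =
      Model.mul (Model.mul a b) (Model.mul a b) := fun a ha b hb => by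
    obtain ⟨d, hd, e1, e2⟩ := hsq _ (cls_facts.2.1 a (hq a ha) b (hq b hb)).2
    rw [N.im_mul h (hq a ha) (hq b hb)] at e1
    rw [← e1, ← (cls_facts.1 d hd).2.2.1, e2]
  have m1 : 1 ∈ one := by decide
  have m2 : 2 ∈ one := by decide
  have m16 : 16 ∈ one := by decide
  have m32 : 32 ∈ one := by decide
  rcases classify _ (hsing 1 m1) _ (hsing 2 m2) ((hpair 1 m1 2 m2).trans (by decide))
      _ (hsing 16 m16) ((hpair 1 m1 16 m16).trans (by decide)) ((hpair 2 m2 16 m16).trans (by decide))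
      _ (hsing 32 m32) ((hpair 1 m1 32 m32).trans (by decide)) ((hpair 2 m2 32 m32).trans (by decide))
      ((hpair 16 m16 32 m32).trans (by decide)) with h' | h'
  · exact h'
  · exfalso
    set v := act σ h with hv
    have hu : ∃ g : H, act σ g = uT := ⟨σ 8, N.act_eight⟩
    have hbad : bad v = true := h'
    obtain ⟨w, hw, hw'⟩ := List.any_eq_true.1 hbad
    simp only [Bool.and_eq_true, decide_eq_true_eq, List.all_eq_true, List.contains_iff_mem] at hw'
    have hwr : ∃ g : H, act σ g = w := by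
      simp only [badWords, List.mem_cons, List.not_mem_nil, or_false] at hw
      rcases hw with rfl | rfl <;> refine mem_img_prod N _ fun x hx => ?_ <;>
        simp only [List.mem_cons, List.not_mem_nil, or_false] at hx <;>
        casesm* _ ∨ _ <;> subst x <;> first | exact hu | exact ⟨h, rfl⟩
    obtain ⟨g, hg⟩ := hwr
    refine N.not_four (L := fourL w) hw'.1 ?_ ?_ hw'.2 ?_
    · unfold fourL; split <;> simp
    · unfold fourL; split <;> rfl
    · intro x hx
      unfold fourL at hx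
      split at hx <;> simp only [List.mem_cons, List.not_mem_nil, or_false] at hx <;>
        rcases hx with rfl | rfl | rfl | rfl
      · exact ⟨1, N.act_one⟩
      · exact hu
      · exact ⟨g, hg⟩
      · exact ⟨σ 8 * g, by rw [N.act_mul, N.act_eight, hg]⟩
      · exact ⟨1, N.act_one⟩
      · exact ⟨g, hg⟩
      · exact ⟨g * g, by rw [N.act_mul, hg]⟩
      · exact ⟨g * g * g, by rw [N.act_mul, N.act_mul, hg]⟩

/-- An element of odd order fixing a singular class is trivial. -/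
theorem eq_one_of_fix {h : H} (ho : Odd (orderOf h)) {a : ℕ} (ha : a ∈ qL) (h0 : a ≠ 0) (h4 : a ≠ 4)
    (hsq : Model.mul a a = 0) (hfix : h * σ a * h⁻¹ = σ a) : h = 1 := by
  obtain ⟨c1, c2, c3, -, -, -, -, -, -⟩ := cls_facts.1 a ha
  have hf : app (act σ h) (cls a) = cls a := by rw [← N.im_app h ha, N.im_of_eq ha hfix]
  have h2 := point_facts.1 _ (N.act_mem h) (cls a) ((cls_facts.2.2 _ c1).2.2.2 (by rw [← c3, hsq]))
    (fun e => by rcases q_small.2.1 a ha e with e' | e' <;> contradiction) hf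
  rw [← N.act_mul, N.act_eq_one] at h2
  have hQ2 : IsPGroup 2 (subQ σ) := IsPGroup.of_card (n := 5) (by rw [N.syl.card_Q]; norm_num)
  exact J2Type.Loc.eq_one_of_two_odd hQ2 (zpowers_le.2 h2 (J2Type.Loc.mem_zpowers_sq ho)) ho

/-- No element carries two points of the wrong kind into `T`. -/
theorem rows (h : H) {p q : ℕ} (hp : p ∈ tL) (hp0 : p ≠ 0) (hp4 : p ≠ 4) (hq : q ∈ qL) (hqT : q ∉ tL)
    (hq2 : Model.mul q q = 0) (hc : Model.mul p q = Model.mul q p) :
    ¬ (h * σ p * h⁻¹ ∈ subA σ ∧ h * σ q * h⁻¹ ∈ subA σ) := by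
  rintro ⟨h1, h2⟩
  have hT : ∀ a ∈ qL, h * σ a * h⁻¹ ∈ subA σ → app (act σ h) (cls a) ∈ tcL := by
    intro a ha hA
    obtain ⟨b, hb, e⟩ := N.syl.mem_T.1 (N.syl.A_inf_Q hA (N.hn h _ (mem_sub_of_mem ha)))
    obtain ⟨hbq, hbc⟩ := point_facts.2.2.2 b hb
    rw [← N.im_app h ha, N.im_of_eq hbq e.symm]
    exact hbc
  exact point_facts.2.1 _ (N.act_mem h) p hp hp0 hp4 q hq hqT hq2 hc
    ⟨hT p (point_facts.2.2.2 p hp).1 h1, hT q hq h2⟩

/-- If no table is the column cycle, all commute with `uT` and the Sylow subgroup is normal. -/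
theorem sylow_normal (hno : ¬ ∃ h : H, act σ h = colT) (h : H) {s : H} (hs : s ∈ (P : Subgroup H)) :
    h * s * h⁻¹ ∈ (P : Subgroup H) := by
  have hc : comp uT (act σ h) = comp (act σ h) uT := by
    refine group_facts.2.1 _ ((group_facts.2.2.1 _ (N.act_mem h)).resolve_right ?_)
    rintro ⟨w, hw, rfl⟩
    refine hno ?_
    have hu : ∃ g : H, act σ g = uT := ⟨σ 8, N.act_eight⟩
    simp only [colWords, List.mem_cons, List.not_mem_nil, or_false] at hw
    rcases hw with e | e <;> rw [e] <;> refine mem_img_prod N _ fun x hx => ?_ <;>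
      simp only [List.mem_cons, List.not_mem_nil, or_false] at hx <;>
      casesm* _ ∨ _ <;> subst x <;> first | exact hu | exact ⟨h, rfl⟩
  have hhs : act σ (h * s) = act σ (s * h) := by
    rw [N.act_mul, N.act_mul]
    rcases N.act_P hs with e | e <;> rw [e]
    · rw [← N.act_one, ← N.act_mul, ← N.act_mul, mul_one, one_mul]
    · exact hc.symm
  have h1 := N.hn h _ (N.act_congr hhs.symm)
  rw [show h * ((s * h)⁻¹ * (h * s)) * h⁻¹ = s⁻¹ * (h * s * h⁻¹) by group] at h1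
  have := mul_mem hs (N.syl.Q_le h1)
  rwa [mul_inv_cancel_left] at this

/-- The tables with the column cycle: two possible orders. -/
theorem card_cases (hcol : ∃ h : H, act σ h = colT) :
    Nat.card H = 192 ∧ (∀ h : H, act σ h ∈ g6) ∨ Nat.card H = 576 := by
  have hu : ∃ g : H, act σ g = uT := ⟨σ 8, N.act_eight⟩
  obtain ⟨⟨hn18, hn6, hl18, hl6, h1, -, -, hsub⟩, -, -, hgen, hext⟩ := group_facts
  have h6 : ∀ w ∈ g6, ∃ h : H, act σ h = w := by
    intro w hw
    obtain ⟨i, hi, j, hj, rfl⟩ := hgen w hw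
    refine mem_img_prod N _ fun x hx => ?_
    rcases List.mem_append.1 hx with hx | hx
    · have : x = colT := by
        simp only [List.mem_cons, List.not_mem_nil, or_false] at hi
        rcases hi with rfl | rfl | rfl <;> simp_all
      exact this ▸ hcol
    · have : x = uT := by
        simp only [List.mem_cons, List.not_mem_nil, or_false] at hj
        rcases hj with rfl | rfl <;> simp_all
      exact this ▸ hu
  by_cases hall : ∀ h : H, act σ h ∈ g6
  · left
    refine ⟨?_, hall⟩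
    have := N.card_pre hn6 h6 (by decide) (X := ⊤) fun h => ⟨fun _ => hall h, fun _ => mem_top h⟩
    rwa [card_top, hl6] at this
  · right
    push Not at hall
    obtain ⟨g, hg⟩ := hall
    have h18 : ∀ w ∈ g18, ∃ h : H, act σ h = w := by
      intro w hw
      obtain ⟨a, ha, b, hb, rfl⟩ := hext _ (N.act_mem g) hg w hw
      obtain ⟨x, hx⟩ := h6 a ha
      obtain ⟨y, hy⟩ : ∃ y : H, act σ y = b := by
        simp only [List.mem_cons, List.not_mem_nil, or_false] at hb
        rcases hb with rfl | rfl | rfl | rfl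
        · exact ⟨1, N.act_one⟩
        · exact ⟨g, rfl⟩
        · exact ⟨g * g, N.act_mul g g⟩
        · refine mem_img_prod N _ fun z hz => ?_
          simp only [List.mem_cons, List.not_mem_nil, or_false] at hz
          rcases hz with rfl | rfl | rfl
          · exact ⟨g, rfl⟩
          · exact hu
          · exact ⟨g, rfl⟩
      exact ⟨x * y, by rw [N.act_mul, hx, hy]⟩
    have := N.card_pre hn18 h18 h1 (X := ⊤) fun h => ⟨fun _ => N.act_mem h, fun _ => mem_top h⟩
    rwa [card_top, hl18] at this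

/-- An element with the table of the column cycle. -/
theorem col_maps {h : H} (hc : act σ h = colT) : ∀ pq ∈ colPairs,
    h * σ pq.1 * h⁻¹ = σ pq.2 ∨ h * σ pq.1 * h⁻¹ = σ pq.2 * σ 4 := by
  intro pq hpq
  obtain ⟨h1, h2, h3, h4⟩ := col_facts pq hpq
  obtain ⟨hb, e⟩ := N.conj_code h h1
  have hcl : cls (codeQ σ (h * σ pq.1 * h⁻¹)) = cls pq.2 := by
    rw [show cls (codeQ σ (h * σ pq.1 * h⁻¹)) = im σ h pq.1 from rfl, N.im_app h h1, hc, h3, h4]
  rcases q_small.2.2.1 _ hb _ h2 hcl with e' | e'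
  · exact Or.inl (by rw [← e, e'])
  · exact Or.inr (by rw [← e, e', N.syl.mul_eq _ (qL_sL h2) 4 (qL_sL q_small.1.2.1)])

/-- With six tables, an element normalizing `A` is in the Sylow subgroup. -/
theorem small (hall : ∀ h : H, act σ h ∈ g6) {h : H} (hA : ∀ a ∈ subA σ, h * a * h⁻¹ ∈ subA σ) :
    h ∈ (P : Subgroup H) := by
  have hT : ∀ a ∈ [2, 16], app (act σ h) a ∈ tcL := by
    intro a ha
    obtain ⟨hat, hacl⟩ := (show ∀ a ∈ [2, 16], a ∈ tL ∧ cls a = a by decide) a ha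
    have haT : σ a ∈ subT σ := mem_sub_of_mem hat
    obtain ⟨b, hb, e⟩ := N.syl.mem_T.1 (N.syl.A_inf_Q (hA _ (N.syl.T_le_A haT)) (N.hn h _ (N.syl.T_le_Q haT)))
    obtain ⟨hbq, hbc⟩ := point_facts.2.2.2 b hb
    rw [← hacl, ← N.im_app h (point_facts.2.2.2 a hat).1, N.im_of_eq hbq e.symm]
    exact hbc
  rcases point_facts.2.2.1 _ (hall h) (hT 2 (by simp)) (hT 16 (by simp)) with e | e
  · exact N.syl.Q_le (N.act_eq_one.1 e)
  · have h1 := N.syl.Q_le (N.act_congr (N.act_eight.trans e.symm))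
    have := mul_mem (N.syl.mem 8 N.eight_s) h1
    rwa [mul_inv_cancel_left] at this

end Norm

end Cfsg.Agent.A8Type.CentZ
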