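import Cfsg.Agent.Lib.TwoPointA5.GWTorus
import Cfsg.Agent.Lib.J2Type.TwoClass.KleinCent
import Cfsg.Agent.Lib.CN.Main

/-!
# An outer involution of a group with a fused Klein Sylow 2-subgroup

`X` has a subgroup `H` of index two without core whose Sylow 2-subgroup `{1, z, e, ez}` is a fused four-group,
and an involution `u` outside `H` sends `e` to `ez`. If the odd part of the centralizer of `z` is controlled
by an odd subgroup `J` invariant under the four-group and under the centralizer of `u`, then this odd part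
is trivial.
-/

set_option autoImplicit false
set_option linter.unusedSectionVars false
set_option linter.style.haveILetI false
set_option maxHeartbeats 1000000
set_option linter.unusedVariables false

namespace Cfsg.Agent.A8Type.KleinOuter

open Subgroup
open Cfsg.Agent.TwoPointA5 Cfsg.Agent.J2Type
open scoped MatrixGroups

universe u

section Basic

variable {G : Type u} [Group G] [Finite G]

/-- In a finite cyclic group a subgroup contains all solutions of `y ^ n = 1` for its order `n`. -/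
theorem mem_zpowers_of_pow [IsCyclic G] {x y : G} (h : y ^ orderOf x = 1) : y ∈ zpowers x := by
  classical
  haveI := Fintype.ofFinite G
  have hsub : Finset.univ.filter (fun a : G => a ∈ zpowers x) ⊆
      Finset.univ.filter (fun a : G => a ^ orderOf x = 1) := by
    intro a ha
    simp only [Finset.mem_filter, Finset.mem_univ, true_and] at ha ⊢
    obtain ⟨k, rfl⟩ := ha
    rw [← zpow_natCast, ← zpow_mul, mul_comm, zpow_mul, zpow_natCast, pow_orderOf_eq_one, one_zpow]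
  have hcard : (Finset.univ.filter (fun a : G => a ∈ zpowers x)).card = orderOf x := by
    rw [← Fintype.card_subtype, ← Nat.card_eq_fintype_card]
    exact Nat.card_zpowers x
  have heq := Finset.eq_of_subset_of_card_le hsub
    (hcard.symm ▸ IsCyclic.card_pow_eq_one_le (orderOf_pos x))
  have hy : y ∈ Finset.univ.filter (fun a : G => a ^ orderOf x = 1) := by simpa using h
  rw [← heq] at hy
  simpa using hy

/-- An element of odd order equal to its inverse is trivial. -/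
theorem one_of_inv {x : G} (ho : Odd (orderOf x)) (h : x = x⁻¹) : x = 1 := by
  obtain ⟨j, hj⟩ := Loc.mem_zpowers_sq ho
  have hxx : x * x = 1 := by nth_rewrite 2 [h]; exact mul_inv_cancel x
  rw [← hj, hxx]
  simp

/-- A non-trivial solvable subgroup has a non-trivial abelian subgroup invariant under its normalizer. -/
theorem exists_abelian {J : Subgroup G} (hsol : Group.IsSolvable J) (hne : J ≠ ⊥) :
    ∃ A : Subgroup G, A ≤ J ∧ A ≠ ⊥ ∧ (∀ a ∈ A, ∀ b ∈ A, a * b = b * a) ∧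
      ∀ g : G, (∀ j ∈ J, g * j * g⁻¹ ∈ J) → ∀ a ∈ A, g * a * g⁻¹ ∈ A := by
  classical
  have hex : ∃ n : ℕ, derivedSeries J n = ⊥ := hsol.solvable
  obtain ⟨m, hm⟩ : ∃ m, Nat.find hex = m + 1 := by
    refine Nat.exists_eq_add_one.2 (Nat.pos_of_ne_zero fun h0 => hne ?_)
    have h := Nat.find_spec hex
    rw [h0, derivedSeries_zero] at h
    refine (Subgroup.eq_bot_iff_forall _).2 fun x hx => ?_
    have h1 : (⟨x, hx⟩ : J) ∈ (⊥ : Subgroup J) := h ▸ mem_top _
    exact congrArg Subtype.val (mem_bot.1 h1)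
  set A₀ := derivedSeries J m with hA₀
  have hA0ne : A₀ ≠ ⊥ := Nat.find_min hex (by rw [hm]; exact Nat.lt_succ_self m)
  refine ⟨A₀.map J.subtype, map_subtype_le _, fun h => hA0ne
    ((Subgroup.map_eq_bot_iff_of_injective _ J.subtype_injective).1 h), ?_, ?_⟩
  · rintro _ ⟨a, ha, rfl⟩ _ ⟨b, hb, rfl⟩
    have hc := commutator_mem_commutator (H₁ := A₀) (H₂ := A₀) ha hb
    rw [hA₀, ← derivedSeries_succ, ← hm, Nat.find_spec hex, mem_bot] at hc
    exact congrArg Subtype.val (commutatorElement_eq_one_iff_mul_comm.1 hc)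
  · rintro g hg _ ⟨a, ha, rfl⟩
    have hgN : g ∈ normalizer (J : Set G) := mem_normalizer_fintype fun j hj => hg j hj
    set φ := (J.normalizerMonoidHom ⟨g, hgN⟩).toMonoidHom
    exact ⟨φ a, map_derivedSeries_le_derivedSeries φ m (mem_map_of_mem φ ha), rfl⟩

end Basic

section Model

variable {X : Type u} [Group X] [Finite X] (LX : Subgroup X) {F : Type} [Field F] [Fintype F]
  (f : LX ≃* Matrix.ProjectiveSpecialLinearGroup (Fin 2) F) (hodd : Odd (Fintype.card F))

local notation "PG" => Matrix.ProjectiveSpecialLinearGroup (Fin 2) F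

theorem order_f {x : X} (hx : x ∈ LX) : orderOf (f ⟨x, hx⟩) = orderOf x := by
  rw [MulEquiv.orderOf_eq, Subgroup.orderOf_mk]

theorem commute_f {x y : X} (hx : x ∈ LX) (hy : y ∈ LX) (h : x * y = y * x) :
    Commute (f ⟨x, hx⟩) (f ⟨y, hy⟩) :=
  Commute.map (show Commute (⟨x, hx⟩ : LX) ⟨y, hy⟩ from Subtype.ext h) f

include f hodd in
/-- The centralizer in `LX` of a non-trivial element of odd order is abelian. -/
theorem ca {x a b : X} (hx : x ∈ LX) (ha : a ∈ LX) (hb : b ∈ LX) (ho : Odd (orderOf x)) (h1 : x ≠ 1)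
    (hax : a * x = x * a) (hbx : b * x = x * b) : a * b = b * a := by
  have h2 := GW.ComponentPSL.two_ne_zero_of_odd hodd
  obtain ⟨Y, hY⟩ := Forms.KleinPSL.pi_surjective (f ⟨x, hx⟩)
  obtain ⟨A, hA⟩ := Forms.KleinPSL.pi_surjective (f ⟨a, ha⟩)
  obtain ⟨B, hB⟩ := Forms.KleinPSL.pi_surjective (f ⟨b, hb⟩)
  have hYo : Odd (orderOf (Forms.KleinPSL.pi F Y)) := by rw [hY, order_f]; exact ho
  have hY1 : Forms.KleinPSL.pi F Y ≠ 1 := by
    rw [hY]
    exact fun h => h1 (congrArg Subtype.val ((MulEquiv.map_eq_one_iff f).1 h))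
  have key : ∀ Z : SL(2, F), Commute (Forms.KleinPSL.pi F Z) (Forms.KleinPSL.pi F Y) →
      (Y : Matrix (Fin 2) (Fin 2) F) * Z = (Z : Matrix (Fin 2) (Fin 2) F) * Y := fun Z hc =>
    (GW.OvergroupsPSL.comm_of_fix h2 (g := Matrix.SpecialLinearGroup.toGL Z) (X := Y) (by
      rw [← GW.OvergroupsPSL.conj_pi, MulAut.conj_apply, hc.eq, mul_inv_cancel_right]) hYo).symm
  have hAB : A * B = B * A := Subtype.ext (GW.OvergroupsPSL.comm_trans (PSLBinary.pi_ne_one.1 hY1)
    (key A (by rw [hA, hY]; exact commute_f LX f ha hx hax))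
    (key B (by rw [hB, hY]; exact commute_f LX f hb hx hbx)))
  have h : f ⟨a, ha⟩ * f ⟨b, hb⟩ = f ⟨b, hb⟩ * f ⟨a, ha⟩ := by
    rw [← hA, ← hB, ← map_mul, hAB, map_mul]
  rw [← map_mul, ← map_mul] at h
  exact congrArg Subtype.val (f.injective h)

include f hodd in
/-- An involution commuting with the involution `t` inverts the elements of odd order of `C(t)`. -/
theorem inverted {t b x : X} (ht : t ∈ LX) (hb : b ∈ LX) (hx : x ∈ LX) (ht2 : orderOf t = 2)
    (hb2 : orderOf b = 2) (hbt : b ≠ t) (hc : b * t = t * b) (hxt : x * t = t * x)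
    (ho : Odd (orderOf x)) : b * x * b⁻¹ = x⁻¹ := by
  have h := GW.OvergroupsPSL.inner_inverts (GW.ComponentPSL.two_ne_zero_of_odd hodd)
    (t := f ⟨t, ht⟩) (b := f ⟨b, hb⟩) (x := f ⟨x, hx⟩) (by rw [order_f, ht2]) (by rw [order_f, hb2])
    (fun e => hbt (congrArg Subtype.val (f.injective e))) (commute_f LX f hb ht hc)
    (commute_f LX f hx ht hxt) (by rw [order_f]; exact ho)
  rw [← map_inv, ← map_inv, ← map_mul, ← map_mul] at h
  exact congrArg Subtype.val (f.injective h)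

include f hodd in
/-- A non-trivial element of odd order commutes with at most one involution. -/
theorem invol_unique {t s y : X} (ht : t ∈ LX) (hs : s ∈ LX) (hy : y ∈ LX) (ht2 : orderOf t = 2)
    (hs2 : orderOf s = 2) (hyt : y * t = t * y) (hys : y * s = s * y) (ho : Odd (orderOf y))
    (h1 : y ≠ 1) : s = t := by
  by_contra hst
  have h := inverted LX f hodd ht hs hy ht2 hs2 hst
    (ca LX f hodd hy hs ht ho h1 hys.symm hyt.symm) hyt ho
  rw [← hys, mul_inv_cancel_right] at h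
  exact h1 (one_of_inv ho h)

include f hodd in
/-- The odd part of the centralizer of an involution of `LX` is cyclic. -/
theorem mem_zpowers_of_order {z x y : X} (hz : z ∈ LX) (hz2 : orderOf z = 2) (hx : x ∈ LX) (hy : y ∈ LX)
    (hxz : x * z = z * x) (hyz : y * z = z * y) (hxo : Odd (orderOf x)) (ho : orderOf y = orderOf x) :
    y ∈ zpowers x := by
  set K := zpowers (f ⟨x, hx⟩) ⊔ zpowers (f ⟨y, hy⟩)
  have hKc : K ≤ centralizer ({f ⟨z, hz⟩} : Set PG) := sup_le
    (zpowers_le.2 (mem_centralizer_singleton_iff.2 (commute_f LX f hx hz hxz).eq))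
    (zpowers_le.2 (mem_centralizer_singleton_iff.2 (commute_f LX f hy hz hyz).eq))
  have hcomm : Commute (f ⟨x, hx⟩) (f ⟨y, hy⟩) := GW.ComponentPSL.odd_comm hodd
    (t := f ⟨z, hz⟩) (by rw [order_f, hz2]) (commute_f LX f hx hz hxz) (commute_f LX f hy hz hyz)
    (by rw [order_f]; exact hxo) (by rw [order_f, ho]; exact hxo)
  have hKo : Odd (Nat.card K) := Loc.odd_sup (by rw [Nat.card_zpowers, order_f]; exact hxo)
    (by rw [Nat.card_zpowers, order_f, ho]; exact hxo)
    (zpowers_le.2 (centralizer_le_normalizer _ (mem_centralizer_iff.2 fun w hw => by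
      obtain ⟨k, rfl⟩ := hw
      exact (hcomm.zpow_right k).eq.symm)))
  haveI := GW.ComponentPSL.odd_cyclic hodd (t := f ⟨z, hz⟩) (by rw [order_f, hz2]) K
    (fun w hw => mem_centralizer_singleton_iff.1 (hKc hw)) hKo
  obtain ⟨k, hk⟩ := mem_zpowers_of_pow (x := (⟨f ⟨x, hx⟩, mem_sup_left (mem_zpowers _)⟩ : K))
    (y := (⟨f ⟨y, hy⟩, mem_sup_right (mem_zpowers _)⟩ : K)) (Subtype.ext (by
      rw [SubgroupClass.coe_pow, Subgroup.orderOf_mk, order_f, ← ho, ← order_f LX f hy]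
      exact pow_orderOf_eq_one _))
  refine ⟨k, congrArg Subtype.val (f.injective (a₁ := (⟨x, hx⟩ : LX) ^ k) (a₂ := ⟨y, hy⟩) ?_)⟩
  rw [map_zpow]
  exact congrArg Subtype.val hk

/-- The action of the normalizer of `LX` on the projective group. -/
noncomputable def au : normalizer (LX : Set X) →* MulAut PG :=
  (MulAut.congr f).toMonoidHom.comp LX.normalizerMonoidHom

theorem au_apply (a : normalizer (LX : Set X)) {x : X} (hx : x ∈ LX) :
    au LX f a (f ⟨x, hx⟩) = f ⟨(a : X) * x * (a : X)⁻¹, (mem_normalizer_iff.1 a.2 x).1 hx⟩ := by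
  show f ((LX.normalizerMonoidHom a) (f.symm (f ⟨x, hx⟩))) = _
  rw [MulEquiv.symm_apply_apply]
  rfl

theorem au_inner {b : X} (hb : b ∈ LX) :
    au LX f ⟨b, le_normalizer hb⟩ = MulAut.conj (f ⟨b, hb⟩) := by
  ext p
  obtain ⟨⟨x, hx⟩, rfl⟩ := f.surjective p
  rw [au_apply, MulAut.conj_apply, ← map_inv, ← map_mul, ← map_mul]
  rfl

end Model

section Fix

variable {Y : Type u} [Group Y] [Finite Y] (T : Sylow 2 Y) (hT4 : Nat.card (T : Subgroup Y) = 4)
  (hsq : ∀ x ∈ (T : Subgroup Y), x * x = 1)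

include hT4 hsq in
/-- An element normalizing the four-group and fixing one of its involutions centralizes it. -/
theorem normalizer_fix {c t : Y} (hc : c ∈ normalizer ((T : Subgroup Y) : Set Y))
    (ht : t ∈ (T : Subgroup Y)) (ht1 : t ≠ 1) (hct : c * t = t * c) :
    ∀ x ∈ (T : Subgroup Y), c * x = x * c := by
  intro x hx
  obtain ⟨a, b, ha, hb, hab, ⟨i, hi⟩, hbo⟩ := Loc.exists_parts c
  have hN : zpowers c ≤ normalizer ((T : Subgroup Y) : Set Y) := zpowers_le.2 hc
  have hC : zpowers c ≤ centralizer ({t} : Set Y) := zpowers_le.2 (mem_centralizer_singleton_iff.2 hct)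
  have haT : a ∈ (T : Subgroup Y) := by
    have h2 : IsPGroup 2 ((T : Subgroup Y) ⊔ zpowers a : Subgroup Y) :=
      IsPGroup.to_sup_of_normal_left' T.isPGroup' (Loc.isPGroup_zpowers hi) (zpowers_le.2 (hN ha))
    exact T.3 h2 le_sup_left ▸ mem_sup_right (mem_zpowers a)
  have hb' := KleinCent.odd_fix T hT4 hsq (hN hb) hbo ht ht1 (mem_centralizer_singleton_iff.1 (hC hb)) x hx
  rw [← hab, mul_assoc, hb', ← mul_assoc, (GWFacts.comm_four T hT4 hsq haT hx).eq, mul_assoc]

include hT4 hsq in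
/-- Two commuting involutions are carried into the four-group by one conjugation. -/
theorem exists_conj_pair {a b : Y} (ha : a * a = 1) (hb : b * b = 1) (hab : a * b = b * a) :
    ∃ h : Y, h * a * h⁻¹ ∈ (T : Subgroup Y) ∧ h * b * h⁻¹ ∈ (T : Subgroup Y) := by
  haveI := Fact.mk Nat.prime_two
  have hp : ∀ {c : Y}, c * c = 1 → IsPGroup 2 (zpowers c) := fun {c} hc =>
    Loc.isPGroup_zpowers (i := 1) (orderOf_dvd_of_pow_eq_one (by rw [pow_one, pow_two, hc]))
  obtain ⟨Q, hQ⟩ := (IsPGroup.to_sup_of_normal_left' (hp ha) (hp hb)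
    (zpowers_le.2 (centralizer_le_normalizer _ (mem_centralizer_iff.2 fun w hw => by
      obtain ⟨k, rfl⟩ := hw
      exact ((show Commute a b from hab).zpow_left k).eq)))).exists_le_sylow
  obtain ⟨h, rfl⟩ := MulAction.exists_smul_eq Y T Q
  have key : ∀ c ∈ ((h • T : Sylow 2 Y) : Subgroup Y), h⁻¹ * c * h⁻¹⁻¹ ∈ (T : Subgroup Y) := by
    rintro c ⟨w, hw, rfl⟩
    show h⁻¹ * (h * w * h⁻¹) * h⁻¹⁻¹ ∈ (T : Subgroup Y)
    rwa [show h⁻¹ * (h * w * h⁻¹) * h⁻¹⁻¹ = w by group]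
  exact ⟨h⁻¹, key a (hQ (mem_sup_left (mem_zpowers a))), key b (hQ (mem_sup_right (mem_zpowers b)))⟩

end Fix

variable {X : Type u} [Group X] [Finite X]

/-- The elements of odd order of the centralizer of `z` are trivial. -/
theorem no_torus (H : Subgroup X) (hH : H.index = 2) (S : Sylow 2 ↥H)
    (hS4 : Nat.card (S : Subgroup ↥H) = 4) (hsq : ∀ x ∈ (S : Subgroup ↥H), x * x = 1)
    (hfus : ∃ r ∈ normalizer ((S : Subgroup ↥H) : Set ↥H), ∃ x ∈ (S : Subgroup ↥H), r * x * r⁻¹ ≠ x)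
    (hO : Cfsg.oddCore ↥H = ⊥)
    {z e u : X} (hz : z ∈ (S : Subgroup ↥H).map H.subtype) (hz1 : z ≠ 1)
    (he : e ∈ (S : Subgroup ↥H).map H.subtype) (he1 : e ≠ 1) (hez : e ≠ z)
    (hu2 : u * u = 1) (huH : u ∉ H) (huz : u * z * u⁻¹ = z) (hue : u * e * u⁻¹ = e * z)
    (J : Subgroup X) (hJH : J ≤ H) (hJo : Odd (Nat.card J))
    (hJS : ∀ s ∈ (S : Subgroup ↥H).map H.subtype, ∀ j ∈ J, s * j * s⁻¹ ∈ J)
    (hv : ∀ v ∈ H, Odd (orderOf v) → v * u = u * v → ∀ j ∈ J, v * j * v⁻¹ ∈ J)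
    (P₀ P₁ P₂ : Subgroup X)
    (h0 : ∀ p ∈ P₀, p ∈ H ∧ p * z = z * p ∧ p * e = e * p ∧ Odd (orderOf p))
    (hP : ∀ P ∈ [P₁, P₂], P ≤ H ∧ Odd (Nat.card P) ∧ ∀ p ∈ P, p * z = z * p ∧ e * p * e⁻¹ ∈ P ∧
      u * p * u⁻¹ ∈ P ∧ u * p * u⁻¹ * p⁻¹ ∈ J)
    (hgen : ∀ g ∈ H, Odd (orderOf g) → g * z = z * g → g ∈ P₀ ⊔ P₁ ⊔ P₂) :
    ∀ g ∈ H, Odd (orderOf g) → g * z = z * g → g = 1 := by
  classical
  haveI := Fact.mk Nat.prime_two
  have hHn : H.Normal := Subgroup.normal_of_index_eq_two hH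
  obtain ⟨zH, hzS, hzc⟩ := hz
  obtain ⟨eH, heS, hec⟩ := he
  change (zH : X) = z at hzc
  change (eH : X) = e at hec
  subst hzc hec
  have hz1' : zH ≠ 1 := fun h => hz1 (by rw [h]; rfl)
  have he1' : eH ≠ 1 := fun h => he1 (by rw [h]; rfl)
  have hez' : eH ≠ zH := fun h => hez (by rw [h])
  intro g hg hgo hgz
  have hgoH : Odd (orderOf (⟨g, hg⟩ : H)) := by rwa [Subgroup.orderOf_mk]
  have hgzH : (⟨g, hg⟩ : H) * zH = zH * ⟨g, hg⟩ := Subtype.ext hgz
  rcases GWFacts.four_shape S hS4 hsq hfus hO with ⟨hSn, -, hC⟩ |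
    ⟨L, F, _, _, hLn, hodd, h3, ⟨e0⟩, hSL, hLC, -, hmin⟩
  · -- the small case
    have hfix := normalizer_fix S hS4 hsq (by rw [normalizer_eq_top_iff.2 hSn]; exact mem_top _) hzS hz1' hgzH
    exact congrArg Subtype.val (Loc.eq_one_of_two_odd S.isPGroup'
      (hC ▸ mem_centralizer_iff.2 fun x hx => (hfix x hx).symm) hgoH)
  set LX := L.map H.subtype with hLX
  have hLH : LX ≤ H := map_subtype_le _
  have hmemL : ∀ {x : H}, x ∈ L → (x : X) ∈ LX := fun {x} hx => ⟨x, hx, rfl⟩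
  set f0 := L.equivMapOfInjective H.subtype H.subtype_injective with hf0
  set f := f0.symm.trans e0 with hf
  have hfe : ∀ (x : H) (hx : x ∈ L), f ⟨(x : X), hmemL hx⟩ = e0 ⟨x, hx⟩ := fun x hx => by
    rw [hf, MulEquiv.trans_apply]
    congr 1
    rw [MulEquiv.symm_apply_eq]
    exact Subtype.ext rfl
  have hzX : (zH : X) ∈ LX := hmemL (hSL hzS)
  have heX : (eH : X) ∈ LX := hmemL (hSL heS)
  have hsqz : (zH : X) * zH = 1 := congrArg Subtype.val (hsq zH hzS)
  have hsqe : (eH : X) * eH = 1 := congrArg Subtype.val (hsq eH heS)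
  have hz2 : orderOf (zH : X) = 2 := orderOf_eq_prime (by rw [pow_two]; exact hsqz) hz1
  have he2 : orderOf (eH : X) = 2 := orderOf_eq_prime (by rw [pow_two]; exact hsqe) he1
  have hze : (eH : X) * zH = zH * eH := congrArg Subtype.val (GWFacts.comm_four S hS4 hsq heS hzS).eq
  -- the normalizer of `LX`
  have hnorm : ∀ a ∈ H, ∀ x ∈ LX, a * x * a⁻¹ ∈ LX := by
    rintro a ha _ ⟨y, hy, rfl⟩
    exact ⟨⟨a, ha⟩ * y * ⟨a, ha⟩⁻¹, hLn.conj_mem y hy _, rfl⟩
  have hui : u⁻¹ = u := inv_eq_of_mul_eq_one_right hu2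
  have huL : ∀ x ∈ LX, u * x * u⁻¹ ∈ LX := by
    haveI := hHn
    let φ : MulAut H := MulAut.conjNormal u
    let K := L.map φ.toMonoidHom
    have hK : K.Normal := hLn.map _ φ.surjective
    have hK0 : K ≠ ⊥ := fun h => by
      have h1 : φ zH ∈ (⊥ : Subgroup H) := h ▸ mem_map_of_mem φ.toMonoidHom (hSL hzS)
      exact hz1' ((MulEquiv.map_eq_one_iff φ).1 (mem_bot.1 h1))
    have heq : L = K := eq_of_le_of_card_ge (hmin K hK hK0)
      (card_map_of_injective φ.injective).le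
    rintro _ ⟨y, hy, rfl⟩
    exact ⟨φ y, heq.ge (mem_map_of_mem φ.toMonoidHom hy), MulAut.conjNormal_apply u y⟩
  have huN : u ∈ normalizer (LX : Set X) := mem_normalizer_fintype fun x hx => huL x hx
  have heN : (eH : X) ∈ normalizer (LX : Set X) := le_normalizer heX
  -- odd elements inverted by `e` lie in `LX`
  have hinL : ∀ x ∈ H, Odd (orderOf x) → (eH : X) * x * (eH : X)⁻¹ = x⁻¹ → x ∈ LX := by
    intro x hx ho hxe
    have h := mul_mem (hnorm x hx _ heX) (inv_mem heX)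
    rw [show x * (eH : X) * x⁻¹ * (eH : X)⁻¹ = x * ((eH : X) * x * (eH : X)⁻¹)⁻¹ by group, hxe,
      inv_inv] at h
    exact zpowers_le.2 h (Loc.mem_zpowers_sq ho)
  -- the odd part of `C_H(z)`
  set D := (Loc.core zH).map H.subtype with hD
  have hDmem : ∀ x, x ∈ D ↔ x ∈ H ∧ Odd (orderOf x) ∧ x * zH = zH * x := by
    intro x
    constructor
    · rintro ⟨y, hy, rfl⟩
      exact ⟨y.2, by rw [show H.subtype y = (y : X) from rfl, Subgroup.orderOf_coe]
                     exact Loc.odd_orderOf (Loc.core_odd _) hy,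
        congrArg Subtype.val (mem_centralizer_singleton_iff.1 (Loc.core_le _ hy))⟩
    · rintro ⟨hx, ho, hc⟩
      exact ⟨⟨x, hx⟩, KleinCent.odd_mem_core S hS4 hsq hzS hz1' (Subtype.ext hc)
        (by rwa [Subgroup.orderOf_mk]), rfl⟩
  set T := D ⊓ centralizer ({(eH : X)} : Set X) with hT
  set U := D ⊓ LX with hU
  have hUe : ∀ x ∈ U, (eH : X) * x * (eH : X)⁻¹ = x⁻¹ := fun x hx => by
    obtain ⟨-, ho, hc⟩ := (hDmem x).1 hx.1
    exact inverted LX f hodd hzX heX hx.2 hz2 he2 hez hze hc ho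
  -- `u` inverts `U`
  let P : Sylow 2 (Matrix.ProjectiveSpecialLinearGroup (Fin 2) F) :=
    (S.subtype hSL).mapSurjective (f := e0.toMonoidHom) e0.surjective
  have hPc : (P : Subgroup (Matrix.ProjectiveSpecialLinearGroup (Fin 2) F)) =
      ((S.subtype hSL : Sylow 2 L) : Subgroup L).map e0.toMonoidHom := Sylow.coe_mapSurjective _ _
  have hP4 : Nat.card (P : Subgroup (Matrix.ProjectiveSpecialLinearGroup (Fin 2) F)) = 4 := by
    rw [hPc, card_map_of_injective e0.injective, ← hS4]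
    exact Nat.card_congr (subgroupOfEquivOfLe hSL).toEquiv
  have hfP : ∀ (x : H) (hx : x ∈ (S : Subgroup H)), f ⟨(x : X), hmemL (hSL hx)⟩ ∈
      (P : Subgroup (Matrix.ProjectiveSpecialLinearGroup (Fin 2) F)) := fun x hx => by
    rw [hfe x (hSL hx), hPc]
    exact mem_map_of_mem _ (mem_subgroupOf.2 hx)
  set t := f ⟨(zH : X), hzX⟩ with ht
  set w := f ⟨(eH : X), heX⟩ with hw
  have ht2 : orderOf t = 2 := by rw [ht, order_f, hz2]
  have hw2 : orderOf w = 2 := by rw [hw, order_f, he2]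
  have hwt : w * t = f ⟨(eH : X) * zH, mul_mem heX hzX⟩ := by rw [ht, hw, ← map_mul]; rfl
  have hue' : u * (eH : X) * u⁻¹ * eH = zH := by
    rw [hue, hze, mul_assoc, hsqe, mul_one]
  have hUu : ∀ x ∈ U, u * x * u⁻¹ = x⁻¹ := by
    intro x hx
    obtain ⟨-, ho, hc⟩ := (hDmem x).1 hx.1
    set a : normalizer (LX : Set X) := ⟨u * eH, mul_mem huN heN⟩
    have e1 : u * (eH : X) * zH * (u * (eH : X))⁻¹ = zH := by
      calc u * (eH : X) * zH * (u * (eH : X))⁻¹ = u * ((eH : X) * zH) * (eH : X)⁻¹ * u⁻¹ := by group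
        _ = zH := by rw [hze]; group; simpa [mul_assoc] using huz
    have e2 : u * (eH : X) * eH * (u * (eH : X))⁻¹ = eH * zH := by
      rw [← hue]; group
    have e3 : u * (eH : X) * (u * (eH : X)) = zH := by
      rw [← hue']; simp [hui, mul_assoc]
    have h := GWFacts.fix_torus (F := F) hodd hP4 (hfP zH hzS) (hfP eH heS) ht2 hw2
      (fun h => hez (congrArg Subtype.val (f.injective h) : _)) (commute_f LX f heX hzX hze) (au LX f a)
      (by rw [au_apply]; exact congrArg f (Subtype.ext e1))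
      (by rw [au_apply]; exact (congrArg f (Subtype.ext e2)).trans hwt.symm)
      (by rw [← map_mul, ← au_inner LX f hzX]; exact congrArg _ (Subtype.ext e3))
      (commute_f LX f hx.2 hzX hc) (by rw [order_f]; exact ho)
    rw [au_apply] at h
    have h' : u * (eH : X) * x * (u * (eH : X))⁻¹ = x := congrArg Subtype.val (f.injective h)
    rw [show u * (eH : X) * x * (u * (eH : X))⁻¹ = u * ((eH : X) * x * (eH : X)⁻¹) * u⁻¹ by group,
      hUe x hx, show u * x⁻¹ * u⁻¹ = (u * x * u⁻¹)⁻¹ by group] at h'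
    exact inv_injective (h'.trans (inv_inv x).symm)
  -- `D` is the product of its part fixed by `e` and a part in `J`
  set U' := U ⊓ J with hU'
  have hTU : T ≤ normalizer (U' : Set X) := by
    refine fun a ha => mem_normalizer_fintype fun x hx => ?_
    obtain ⟨haH, -, hac⟩ := (hDmem a).1 ha.1
    obtain ⟨hxH, hxo, hxc⟩ := (hDmem x).1 hx.1.1
    have hord : orderOf (a * x * a⁻¹) = orderOf x := (MulAut.conj a).orderOf_eq x
    have hyc : a * x * a⁻¹ * zH = zH * (a * x * a⁻¹) :=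
      (((show Commute a (zH : X) from hac).mul_left hxc).mul_left
        (Commute.inv_left hac)).eq
    exact zpowers_le.2 hx (mem_zpowers_of_order LX f hodd hzX hz2 hx.1.2 (hnorm a haH x hx.1.2)
      hxc hyc hxo hord)
  have hPle : ∀ P' ∈ [P₁, P₂], P' ≤ T ⊔ U' := by
    intro P' hP' p hp
    obtain ⟨hle, hPo, hprop⟩ := hP P' hP'
    obtain ⟨a, ha, i, hi, hai, hae, hie⟩ := KleinCent.exists_fixed_inverted hPo hsqe
      (fun d hd => (hprop d hd).2.1) hp
    have hmemD : ∀ d ∈ P', d ∈ D := fun d hd =>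
      (hDmem d).2 ⟨hle hd, Loc.odd_orderOf hPo hd, (hprop d hd).1⟩
    have hiU : i ∈ U := ⟨hmemD i hi, hinL i (hle hi) (Loc.odd_orderOf hPo hi) hie⟩
    have hiJ : i * i ∈ J := by
      have h := inv_mem (hprop i hi).2.2.2
      rwa [hUu i hiU, show (i⁻¹ * i⁻¹)⁻¹ = i * i by simp] at h
    rw [← hai]
    exact mul_mem (mem_sup_left ⟨hmemD a ha, mem_centralizer_singleton_iff.2
      (mul_inv_eq_iff_eq_mul.1 hae).symm⟩)
      (mem_sup_right ⟨hiU, zpowers_le.2 hiJ (Loc.mem_zpowers_sq (Loc.odd_orderOf hPo hi))⟩)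
  have hDle : D ≤ T ⊔ U' := by
    intro x hx
    obtain ⟨hxH, hxo, hxc⟩ := (hDmem x).1 hx
    refine sup_le (sup_le ?_ (hPle P₁ (by simp))) (hPle P₂ (by simp)) (hgen x hxH hxo hxc)
    intro p hp
    obtain ⟨h1, h2, h3, h4⟩ := h0 p hp
    exact mem_sup_left ⟨(hDmem p).2 ⟨h1, h4, h2⟩, mem_centralizer_singleton_iff.2 h3⟩
  by_cases hU1 : U = ⊥
  · -- every element of `D` centralizes the four-group
    have hgT : g ∈ T := by
      have h := hDle ((hDmem g).2 ⟨hg, hgo, hgz⟩)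
      rwa [show U' = ⊥ from le_bot_iff.1 (hU1 ▸ inf_le_left), sup_bot_eq] at h
    have hge : (⟨g, hg⟩ : H) * eH = eH * ⟨g, hg⟩ := Subtype.ext (mem_centralizer_singleton_iff.1 hgT.2)
    have hfS : ∀ x ∈ (S : Subgroup H), (⟨g, hg⟩ : H) * x = x * ⟨g, hg⟩ := by
      intro x hx
      rcases KleinCent.four_cases S hS4 hsq hzS hz1' heS he1' hez' hx with rfl | rfl | rfl | rfl
      · simp
      · exact hgzH
      · exact hge
      · exact Commute.mul_right hge hgzH
    have h := KleinCent.gen S hS4 hsq hfus hO hzS hz1' heS he1' hez' hgoH hfS fun l hl hlo hle => by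
      have hl' : (l : X) ∈ U := ⟨(hDmem _).2 ⟨l.2, by rwa [Subgroup.orderOf_coe], congrArg Subtype.val hl⟩,
        hinL _ l.2 (by rwa [Subgroup.orderOf_coe]) (congrArg Subtype.val hle)⟩
      rw [hU1, mem_bot] at hl'
      rw [show l = 1 from Subtype.ext hl', mul_one, one_mul]
    exact congrArg Subtype.val h
  -- otherwise a contradiction
  exfalso
  obtain ⟨x₀, hx₀U, hx₀1⟩ : ∃ x ∈ U, x ≠ 1 := by
    by_contra hcon
    push Not at hcon
    exact hU1 ((Subgroup.eq_bot_iff_forall _).2 hcon)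
  obtain ⟨-, hx₀o, hx₀c⟩ := (hDmem x₀).1 hx₀U.1
  have hx₀J : x₀ ∈ J := by
    obtain ⟨a, ha, d, hd, had⟩ := Loc.mem_sup_iff hTU (hDle hx₀U.1)
    have haU : a ∈ U := by
      rw [show a = x₀ * d⁻¹ by rw [← had, mul_inv_cancel_right]]
      exact mul_mem hx₀U (inv_mem hd.1)
    have h := hUe a haU
    rw [← mem_centralizer_singleton_iff.1 ha.2, mul_inv_cancel_right] at h
    rw [← had, one_of_inv ((hDmem a).1 ha.1).2.1 h, one_mul]
    exact hd.2
  set J₀ := J ⊓ LX with hJ₀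
  have hJ₀o : Odd (Nat.card J₀) := hJo.of_dvd_nat (card_dvd_of_le inf_le_left)
  have hJ₀S : ∀ s ∈ (S : Subgroup H), ∀ j ∈ J₀, (s : X) * j * (s : X)⁻¹ ∈ J₀ := fun s hs j hj =>
    ⟨hJS s ⟨s, hs, rfl⟩ j hj.1, hnorm s s.2 j hj.2⟩
  have hsol : Group.IsSolvable J₀ := by
    refine CN.isSolvable_of_odd_cn _ J₀ rfl hJ₀o (CN.isCNGroup_of_ca fun x hx a ha b hb => Subtype.ext ?_)
    exact ca LX f hodd x.2.2 a.2.2 b.2.2 (Loc.odd_orderOf hJ₀o x.2) (fun h => hx (Subtype.ext h))
      (congrArg Subtype.val (mem_centralizer_singleton_iff.1 ha))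
      (congrArg Subtype.val (mem_centralizer_singleton_iff.1 hb))
  obtain ⟨A, hAJ, hA1, hAc, hAn⟩ := exists_abelian hsol (fun h => hx₀1 (mem_bot.1 (h ▸
    (⟨hx₀J, hx₀U.2⟩ : x₀ ∈ J₀))))
  have hAo : Odd (Nat.card A) := hJ₀o.of_dvd_nat (card_dvd_of_le hAJ)
  -- an element of `A` commuting with an involution of the four-group
  obtain ⟨y, hyA, hy1, s, hsS, hs1, hys⟩ : ∃ y ∈ A, y ≠ 1 ∧ ∃ s ∈ (S : Subgroup H), s ≠ 1 ∧
      y * (s : X) = s * y := by
    obtain ⟨y, hy, hy1⟩ : ∃ y ∈ A, y ≠ 1 := by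
      by_contra hcon
      push Not at hcon
      exact hA1 ((Subgroup.eq_bot_iff_forall _).2 hcon)
    obtain ⟨a, ha, i, hi, hai, hae, hie⟩ := KleinCent.exists_fixed_inverted hAo hsqe
      (fun d hd => hAn _ (fun j hj => hJ₀S eH heS j hj) d hd) hy
    by_cases ha1 : a = 1
    · obtain ⟨a', ha', i', hi', hai', haz', hiz'⟩ := KleinCent.exists_fixed_inverted hAo hsqz
        (fun d hd => hAn _ (fun j hj => hJ₀S zH hzS j hj) d hd) hy
      by_cases ha1' : a' = 1
      · rw [ha1, one_mul] at hai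
        rw [ha1', one_mul] at hai'
        rw [hai] at hie
        rw [hai'] at hiz'
        refine ⟨y, hy, hy1, eH * zH, mul_mem heS hzS, fun h => hez' ?_, ?_⟩
        · rw [mul_eq_one_iff_eq_inv.1 h, inv_eq_of_mul_eq_one_right (hsq zH hzS)]
        · refine (mul_inv_eq_iff_eq_mul.1 ?_).symm
          show (eH : X) * zH * y * ((eH : X) * zH)⁻¹ = y
          rw [show (eH : X) * zH * y * ((eH : X) * zH)⁻¹ = (eH : X) * ((zH : X) * y * (zH : X)⁻¹) * (eH : X)⁻¹ by
            group, hiz', show (eH : X) * y⁻¹ * (eH : X)⁻¹ = ((eH : X) * y * (eH : X)⁻¹)⁻¹ by group, hie,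
            inv_inv]
      · exact ⟨a', ha', ha1', zH, hzS, hz1', (mul_inv_eq_iff_eq_mul.1 haz').symm⟩
    · exact ⟨a, ha, ha1, eH, heS, he1', (mul_inv_eq_iff_eq_mul.1 hae).symm⟩
  have hsX : (s : X) ∈ LX := hmemL (hSL hsS)
  have hs2 : orderOf (s : X) = 2 := orderOf_eq_prime (by
    rw [pow_two]; exact congrArg Subtype.val (hsq s hsS)) (fun h => hs1 (Subtype.ext h))
  have hyL : y ∈ LX := (hAJ hyA).2
  have hyo : Odd (orderOf y) := Loc.odd_orderOf hAo hyA
  have hJs : ∀ j ∈ J₀, j * (s : X) = s * j := by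
    intro j hj
    have hy'A : j * y * j⁻¹ ∈ A := hAn j (fun i hi => mul_mem (mul_mem hj hi) (inv_mem hj)) y hyA
    have hy'L : j * y * j⁻¹ ∈ LX := (hAJ hy'A).2
    have hy's : j * y * j⁻¹ * (s : X) = s * (j * y * j⁻¹) :=
      ca LX f hodd hyL hy'L hsX hyo hy1 (hAc _ hy'A _ hyA) hys.symm
    have hy'j : j * y * j⁻¹ * (j * (s : X) * j⁻¹) = j * (s : X) * j⁻¹ * (j * y * j⁻¹) := by
      calc j * y * j⁻¹ * (j * (s : X) * j⁻¹) = j * (y * s) * j⁻¹ := by group
        _ = j * ((s : X) * y) * j⁻¹ := by rw [hys]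
        _ = _ := by group
    have h := invol_unique LX f hodd hsX (mul_mem (mul_mem hj.2 hsX) (inv_mem hj.2)) hy'L hs2
      (((MulAut.conj j).orderOf_eq (s : X)).trans hs2) hy's hy'j (Loc.odd_orderOf hAo hy'A)
      (fun h => hy1 (conj_eq_one_iff.1 h))
    exact mul_inv_eq_iff_eq_mul.1 h
  have hsz : (s : X) = zH :=
    invol_unique LX f hodd hzX hsX hx₀U.2 hz2 hs2 hx₀c (hJs x₀ ⟨hx₀J, hx₀U.2⟩) hx₀o hx₀1
  rw [hsz] at hJs
  have hmk : ∀ {p q : H}, q ∈ (S : Subgroup H) → (p : X) = q → p ∈ (S : Subgroup H) :=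
    fun {p q} hq h => by rwa [show p = q from Subtype.ext h]
  -- the outer involution induced by `u`
  set β := au LX f ⟨u, huN⟩ with hβ
  have hβapp : ∀ (x : X) (hx : x ∈ LX), β (f ⟨x, hx⟩) = f ⟨u * x * u⁻¹, huL x hx⟩ := fun x hx =>
    au_apply LX f _ hx
  have hβt : β t = t := by rw [ht, hβapp]; exact congrArg f (Subtype.ext huz)
  have hβw : β w = w * t := by rw [hwt, hw, hβapp]; exact congrArg f (Subtype.ext hue)
  have hwt1 : w * t ≠ w := fun h => by
    rw [mul_eq_left.1 h, orderOf_one] at ht2; omega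
  have hβ2 : β * β = 1 := by
    rw [hβ, ← map_mul, show (⟨u, huN⟩ : normalizer (LX : Set X)) * ⟨u, huN⟩ = 1 from Subtype.ext hu2,
      map_one]
  have hβo : orderOf β = 2 := orderOf_eq_prime (by rw [pow_two]; exact hβ2) fun h => hwt1 (by
    rw [← hβw, h]; rfl)
  have hinn : β ∉ Cfsg.Inn (Matrix.ProjectiveSpecialLinearGroup (Fin 2) F) := by
    rintro ⟨b, hb⟩
    obtain ⟨⟨b, hbL⟩, rfl⟩ := f.surjective b
    have hconj : ∀ x ∈ LX, b * x * b⁻¹ = u * x * u⁻¹ := fun x hx => by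
      have h := DFunLike.congr_fun hb (f ⟨x, hx⟩)
      rw [MulAut.conj_apply, hβapp, ← map_inv, ← map_mul, ← map_mul] at h
      exact congrArg Subtype.val (f.injective h)
    have hbN : (⟨b, hLH hbL⟩ : H) ∈ normalizer ((S : Subgroup H) : Set H) :=
      mem_normalizer_fintype fun x hx => by
        rcases KleinCent.four_cases S hS4 hsq hzS hz1' heS he1' hez' hx with rfl | rfl | rfl | rfl
        · simp
        · exact hmk hzS ((hconj _ hzX).trans huz)
        · exact hmk (mul_mem heS hzS) ((hconj _ heX).trans hue)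
        · refine hmk heS ((hconj _ (mul_mem heX hzX)).trans ?_)
          rw [show u * ((eH : X) * zH) * u⁻¹ = u * (eH : X) * u⁻¹ * (u * (zH : X) * u⁻¹) by group, hue,
            huz, mul_assoc, hsqz, mul_one]
    have h := congrArg Subtype.val (normalizer_fix S hS4 hsq hbN hzS hz1'
      (Subtype.ext (mul_inv_eq_iff_eq_mul.1 ((hconj _ hzX).trans huz))) eH heS)
    have h' := hconj _ heX
    rw [show b * (eH : X) = eH * b from h, mul_inv_cancel_right, hue] at h'
    exact hz1 (mul_eq_left.1 h'.symm)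
  have hfour : ¬ ∃ x y : Matrix.ProjectiveSpecialLinearGroup (Fin 2) F,
      orderOf x = 2 ∧ orderOf y = 2 ∧ x ≠ y ∧ Commute x y ∧ β x = x ∧ β y = y := by
    rintro ⟨x, y', hx2, hy2, hxy, hcxy, hbx, hby⟩
    obtain ⟨⟨x, hx⟩, rfl⟩ := f.surjective x
    obtain ⟨⟨y', hy'⟩, rfl⟩ := f.surjective y'
    rw [order_f] at hx2 hy2
    rw [hβapp] at hbx hby
    have hxu : u * x * u⁻¹ = x := congrArg Subtype.val (f.injective hbx)
    have hyu : u * y' * u⁻¹ = y' := congrArg Subtype.val (f.injective hby)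
    have hxy' : x * y' = y' * x := congrArg Subtype.val (f.injective (a₁ := ⟨x, hx⟩ * ⟨y', hy'⟩)
      (a₂ := ⟨y', hy'⟩ * ⟨x, hx⟩) (by rw [map_mul, map_mul]; exact hcxy.eq))
    have hsqof : ∀ c : X, orderOf c = 2 → c * c = 1 := fun c hc => by
      rw [← pow_two, ← hc, pow_orderOf_eq_one]
    obtain ⟨k, hka, hkb⟩ := exists_conj_pair S hS4 hsq (a := ⟨x, hLH hx⟩) (b := ⟨y', hLH hy'⟩)
      (Subtype.ext (hsqof x hx2)) (Subtype.ext (hsqof y' hy2)) (Subtype.ext hxy')
    set a := k * ⟨x, hLH hx⟩ * k⁻¹ with ha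
    set b := k * ⟨y', hLH hy'⟩ * k⁻¹ with hb
    have ha1 : a ≠ 1 := fun h => by
      have := congrArg Subtype.val (conj_eq_one_iff.1 h)
      change x = 1 at this
      rw [this, orderOf_one] at hx2; omega
    have hb1 : b ≠ 1 := fun h => by
      have := congrArg Subtype.val (conj_eq_one_iff.1 h)
      change y' = 1 at this
      rw [this, orderOf_one] at hy2; omega
    have hba : b ≠ a := fun h => hxy (congrArg f (Subtype.ext
      (congrArg Subtype.val (mul_left_cancel (mul_right_cancel h))).symm))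
    set u' := (k : X) * u * (k : X)⁻¹ with hu'
    have hu'a : Commute u' (a : X) := by
      rw [hu', ha]
      exact (show Commute u x from mul_inv_eq_iff_eq_mul.1 hxu).map (MulAut.conj (k : X))
    have hu'b : Commute u' (b : X) := by
      rw [hu', hb]
      exact (show Commute u y' from mul_inv_eq_iff_eq_mul.1 hyu).map (MulAut.conj (k : X))
    have hu'S : ∀ q : H, q ∈ (S : Subgroup H) → u' * (q : X) * u'⁻¹ = q := fun q hq => by
      have hc : Commute u' (q : X) := by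
        rcases KleinCent.four_cases S hS4 hsq hka ha1 hkb hb1 hba hq with rfl | rfl | rfl | rfl
        · exact Commute.one_right _
        · exact hu'a
        · exact hu'b
        · exact hu'b.mul_right hu'a
      rw [hc.eq, mul_inv_cancel_right]
    -- `c = u'⁻¹ u` lies in `H` and acts on the four-group as `u`
    have hu'H : u' ∉ H := fun h => huH (by
      have h1 := mul_mem (mul_mem (inv_mem k.2) h) k.2
      rwa [hu', show (k : X)⁻¹ * ((k : X) * u * (k : X)⁻¹) * k = u by group] at h1)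
    have hcH : u'⁻¹ * u ∈ H := (Subgroup.mul_mem_iff_of_index_two hH).2 (by
      rw [inv_mem_iff]
      exact ⟨fun h => absurd h hu'H, fun h => absurd h huH⟩)
    have hact : ∀ q q' : H, q' ∈ (S : Subgroup H) → u * (q : X) * u⁻¹ = q' →
        u'⁻¹ * u * (q : X) * (u'⁻¹ * u)⁻¹ = q' := fun q q' hq' h => by
      have h2 := hu'S q' hq'
      rw [show u'⁻¹ * u * (q : X) * (u'⁻¹ * u)⁻¹ = u'⁻¹ * (u * (q : X) * u⁻¹) * u' by group, h]
      conv_lhs => rw [← h2]
      group
    have hcN : (⟨_, hcH⟩ : H) ∈ normalizer ((S : Subgroup H) : Set H) :=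
      mem_normalizer_fintype fun q hq => by
        rcases KleinCent.four_cases S hS4 hsq hzS hz1' heS he1' hez' hq with rfl | rfl | rfl | rfl
        · simp
        · exact hmk hzS (hact _ _ hzS huz)
        · exact hmk (mul_mem heS hzS) (hact _ _ (mul_mem heS hzS) hue)
        · refine hmk heS (hact _ _ heS ?_)
          show u * ((eH : X) * zH) * u⁻¹ = eH
          rw [show u * ((eH : X) * zH) * u⁻¹ = u * (eH : X) * u⁻¹ * (u * (zH : X) * u⁻¹) by group, hue,
            huz, mul_assoc, hsqz, mul_one]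
    have hcz := hact _ _ hzS huz
    have h : u'⁻¹ * u * (eH : X) = eH * (u'⁻¹ * u) := congrArg Subtype.val
      (normalizer_fix S hS4 hsq hcN hzS hz1' (Subtype.ext (mul_inv_eq_iff_eq_mul.1 hcz)) eH heS)
    have h' := hact eH (eH * zH) (mul_mem heS hzS) hue
    rw [h, mul_inv_cancel_right] at h'
    exact hz1 (mul_eq_left.1 h'.symm)
  obtain ⟨v, hβv, htv, hvo, -, hvp, -, -⟩ :=
    GW.ComponentPSL.outer_torus hodd h3 ht2 β hβo hβt hinn hfour
  have hv1 : v ≠ 1 := by
    intro h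
    obtain ⟨p, hp, hpd⟩ := Nat.exists_prime_and_dvd (mt orderOf_eq_one_iff.1 hx₀1)
    have hp2 : p ≠ 2 := by
      rintro rfl
      exact (Nat.not_even_iff_odd.2 hx₀o) (even_iff_two_dvd.2 hpd)
    have hlt := hvp p hp hp2 (hpd.trans (by
      rw [← order_f LX f hx₀U.2]
      exact Subgroup.orderOf_dvd_natCard _
        (mem_centralizer_singleton_iff.2 (commute_f LX f hx₀U.2 hzX hx₀c).eq)))
    rw [h, orderOf_one] at hlt
    omega
  obtain ⟨⟨v, hvL⟩, rfl⟩ := f.surjective v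
  rw [order_f] at hvo
  rw [hβapp] at hβv
  have hvu : v * u = u * v :=
    (mul_inv_eq_iff_eq_mul.1 (congrArg Subtype.val (f.injective hβv) : u * v * u⁻¹ = v)).symm
  have hzv : (zH : X) * v * (zH : X)⁻¹ = v⁻¹ := by
    rw [ht, ← map_inv, ← map_inv, ← map_mul, ← map_mul] at htv
    exact congrArg Subtype.val (f.injective htv)
  have hy'J : v * x₀ * v⁻¹ ∈ J₀ :=
    ⟨hv v (hLH hvL) hvo hvu x₀ hx₀J, LX.mul_mem (LX.mul_mem hvL hx₀U.2) (LX.inv_mem hvL)⟩
  have hvz' : v * x₀ * v⁻¹ * (v * (zH : X) * v⁻¹) = v * (zH : X) * v⁻¹ * (v * x₀ * v⁻¹) := by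
    calc v * x₀ * v⁻¹ * (v * (zH : X) * v⁻¹) = v * (x₀ * zH) * v⁻¹ := by group
      _ = v * ((zH : X) * x₀) * v⁻¹ := by rw [hx₀c]
      _ = _ := by group
  have h := invol_unique LX f hodd hzX (mul_mem (mul_mem hvL hzX) (inv_mem hvL)) hy'J.2 hz2
    (((MulAut.conj v).orderOf_eq (zH : X)).trans hz2) (hJs _ hy'J) hvz'
    (Loc.odd_orderOf hJ₀o hy'J) (fun h => hx₀1 (conj_eq_one_iff.1 h))
  rw [← mul_inv_eq_iff_eq_mul.1 h, mul_inv_cancel_right] at hzv
  exact hv1 (by rw [show (⟨v, hvL⟩ : LX) = 1 from Subtype.ext (one_of_inv hvo hzv), map_one])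

end Cfsg.Agent.A8Type.KleinOuter
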