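import Cfsg.Agent.Lib.A8Type.FusQ
import Cfsg.Agent.Lib.A8Type.KleinOuter
import Cfsg.Agent.Lib.J2Type.ElemSylow
import Cfsg.Agent.Lib.Cores.Subnormal
import Cfsg.Agent.Lib.Involutions.Basic

/-!
With all involutions of `A` balanced, the core of the centralizer of `z` is trivial: otherwise the
normalizer of the join of the cores would contain the centralizers of all its involutions.
-/

set_option autoImplicit false
set_option linter.style.haveILetI false
set_option linter.unusedSectionVars false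
set_option maxHeartbeats 800000

namespace Cfsg.Agent.A8Type

open Subgroup
open Cfsg.Agent.A8Type.Model
open Cfsg.Agent.A8Type.Tab (pairOf)

universe u

variable {G : Type u} [Group G]

/-- Balance over `T` is carried along by the normalizer of `T`. -/
theorem BalT.conj [Finite G] {ρ : ℕ → G} {a n : G} (hn : n ∈ normalizer (subT ρ : Set G)) (h : BalT ρ a) :
    BalT ρ (n * a * n⁻¹) := by
  intro K hK hKo hT x hx
  have h1 : n⁻¹ * x * n ∈ J2Type.Loc.core a := by
    refine h (K.map (MulAut.conj n⁻¹).toMonoidHom) ?_ ?_ ?_ ⟨x, hx, by simp⟩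
    · rintro _ ⟨y, hy, rfl⟩
      refine mem_centralizer_singleton_iff.2 ?_
      show n⁻¹ * y * n⁻¹⁻¹ * a = a * (n⁻¹ * y * n⁻¹⁻¹)
      rw [inv_inv]
      exact cent_conj (mem_centralizer_singleton_iff.1 (hK hy))
    · rwa [card_map_of_injective (MulAut.conj _).injective]
    · intro b hb
      refine mem_normalizer_of_maps ?_
      rintro _ ⟨y, hy, rfl⟩
      exact ⟨n * b * n⁻¹ * y * (n * b * n⁻¹)⁻¹,
        (mem_normalizer_iff.1 (hT ((mem_normalizer_iff.1 hn b).1 hb)) y).1 hy, by simp [mul_assoc]⟩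
  have := J2Type.Loc.core_map (g := n) h1
  rwa [show n * (n⁻¹ * x * n) * n⁻¹ = x by group] at this

/-- Conjugation inside `M` keeps a centralizer inside `M`. -/
theorem cent_le_conj {M : Subgroup G} {a n : G} (hn : n ∈ M) (h : centralizer ({a} : Set G) ≤ M) :
    centralizer ({n * a * n⁻¹} : Set G) ≤ M := fun x hx => by
  have h1 := h (mem_centralizer_singleton_iff.2 (cent_conj (mem_centralizer_singleton_iff.1 hx)))
  have := mul_mem (mul_mem hn h1) (inv_mem hn)
  rwa [show n * (n⁻¹ * x * n) * n⁻¹ = x by group] at this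

/-- A normal solvable subgroup is trivial when the two cores are. -/
theorem solvable_normal_bot [Finite G] {J : Subgroup G} [J.Normal] (hsol : Group.IsSolvable J)
    (h2 : Cfsg.pCore 2 G = ⊥) (hodd : Cfsg.oddCore G = ⊥) : J = ⊥ := by
  haveI : Fact (Nat.Prime 2) := ⟨Nat.prime_two⟩
  by_contra hne
  obtain ⟨A, -, hA1, hAc, hAn⟩ := KleinOuter.exists_abelian hsol hne
  have hAn' : ∀ g : G, ∀ a ∈ A, g * a * g⁻¹ ∈ A := fun g =>
    hAn g fun j hj => ‹J.Normal›.conj_mem j hj g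
  haveI : A.Normal := ⟨fun a ha g => hAn' g a ha⟩
  refine hA1 (le_bot_iff.1 ((Cores.le_oddCore ?_).trans_eq hodd))
  let E : Subgroup G :=
    { carrier := {x | x ∈ A ∧ x * x = 1}
      one_mem' := ⟨A.one_mem, one_mul 1⟩
      mul_mem' := fun {x y} hx hy => ⟨A.mul_mem hx.1 hy.1, by
        rw [show x * y * (x * y) = x * (y * x) * y by group, hAc y hy.1 x hx.1,
          show x * (x * y) * y = x * x * (y * y) by group, hx.2, hy.2, one_mul]⟩
      inv_mem' := fun {x} hx => ⟨A.inv_mem hx.1, by rw [← mul_inv_rev, hx.2, inv_one]⟩ }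
  haveI : E.Normal := ⟨fun x hx g => ⟨hAn' g x hx.1, by
    rw [show g * x * g⁻¹ * (g * x * g⁻¹) = g * (x * x) * g⁻¹ by group, hx.2, mul_one, mul_inv_cancel]⟩⟩
  have hE : E ≤ ⊥ := h2 ▸ Cores.le_pCore (fun x => ⟨1, Subtype.ext (by
    rw [Subgroup.coe_pow, pow_one, pow_two]; exact x.2.2)⟩)
  rw [Nat.odd_iff]
  by_contra hev
  obtain ⟨x, hx⟩ := exists_prime_orderOf_dvd_card' (G := A) 2 (Nat.dvd_of_mod_eq_zero (by omega))
  have hxx : (x : G) * x = 1 := by
    have h := pow_orderOf_eq_one x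
    rw [hx, pow_two] at h
    exact congrArg Subtype.val h
  have h1 : x = 1 := Subtype.ext (mem_bot.1 (hE ⟨x.2, hxx⟩))
  rw [h1, orderOf_one] at hx
  omega

namespace Syl

variable [Finite G] {S : Sylow 2 G} {ρ : ℕ → G}

/-- All cores of centralizers of involutions of `A` balanced: the core of the centralizer of `z` is trivial. -/
theorem core_bot (C : Ctx S ρ) (h : QShape S ρ) (hF : Fus S ρ) (hzT : BalT ρ (ρ 4))
    (hpT : ∀ g ∈ [1, 32, 33], ¬ IsConj (ρ 4) (ρ (Tab.pairOf g)) → BalT ρ (ρ (Tab.pairOf g))) :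
    J2Type.Loc.core (ρ 4) = ⊥ := by
  classical
  haveI : Fact (Nat.Prime 2) := ⟨Nat.prime_two⟩
  have F := C.syl
  set z := ρ 4 with hz
  have hzA : z ∈ subA ρ := F.z_mem_A
  have hz1 : z ≠ 1 := Involutions.Basic.ne_one F.order_z
  have hSNT : (S : Subgroup G) ≤ normalizer (subT ρ : Set G) := fun s hs => mem_normalizer_of_maps fun t ht => by
    have h1 := mul_mem (F.comm_mem_T hs (F.A_le (F.T_le_A ht))) ht
    rwa [inv_mul_cancel_right] at h1
  -- every involution of `A` is balanced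
  have hbal : ∀ a ∈ subA ρ, a ≠ 1 → BalA ρ a := by
    intro a ha h1
    by_cases hza : IsConj z a
    · obtain ⟨c, hc⟩ := isConj_iff.1 hza
      obtain ⟨n, hn, hne⟩ := F.fusion_A hzA (g := c) (hc ▸ ha)
      rw [← hc, ← hne]
      exact (hzT.balA F).conj hn
    obtain ⟨n, hn, hnT⟩ := F.cover hF.nI ha h1
    have hn1 : n * a * n⁻¹ ≠ 1 := fun e => h1 (conj_eq_one_iff.1 e)
    have hnz : n * a * n⁻¹ ≠ z := fun e => hza (isConj_iff.2 ⟨n, e⟩).symm
    obtain ⟨g, hg, s, hs, hse⟩ := F.T_conj hnT hn1 hnz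
    have hnc : ¬ IsConj z (ρ (pairOf g)) := fun h => hza
      ((h.trans (isConj_iff.2 ⟨s, hse⟩)).trans (isConj_iff.2 ⟨n, rfl⟩).symm)
    have hmN : n⁻¹ * s ∈ normalizer (subA ρ : Set G) :=
      mul_mem ((normalizer (subA ρ : Set G)).inv_mem hn) (F.S_le_NA hs)
    have hma : n⁻¹ * s * ρ (pairOf g) * (n⁻¹ * s)⁻¹ = a := by
      rw [show n⁻¹ * s * ρ (pairOf g) * (n⁻¹ * s)⁻¹ = n⁻¹ * (s * ρ (pairOf g) * s⁻¹) * n by group, hse]
      group
    exact hma ▸ ((hpT g hg hnc).balA F).conj hmN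
  set W := J2Type.Loc.wJoin (subA ρ) with hW
  have hAe : Cfsg.IsElementaryAbelian 2 (subA ρ) :=
    ⟨⟨⟨fun a b => Subtype.ext (F.A_comm a.2 b.2)⟩⟩, fun a ha => by rw [pow_two]; exact F.A_sq ha⟩
  have hWo : Odd (Nat.card W) := by
    refine J2Type.Loc.wJoin_odd hAe (by rw [F.card_A]; norm_num) fun a ha ha1 b hb hb1 => ?_
    refine hbal b hb hb1 _ inf_le_right ((J2Type.Loc.core_odd a).of_dvd_nat (card_dvd_of_le inf_le_left)) ?_
    exact (le_inf (fun c hc => J2Type.Loc.core_normalizer (F.A_comm hc ha))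
      ((F.A_le_cent hb).trans le_normalizer)).trans inf_normalizer_le_normalizer_inf
  -- a pair not fused to `z`
  obtain ⟨g₀, hg₀, hnc₀⟩ := F.two
  obtain ⟨-, -, -, -, hpt, hpa, hps, hp0, hp4, -, -⟩ := pair_facts g₀ hg₀
  set p := ρ (pairOf g₀) with hp
  have hpA : p ∈ subA ρ := mem_sub_of_mem hpa
  have hp1 : p ≠ 1 := fun e => hp0 ((F.eq_one hps).1 e)
  have hp2 : orderOf p = 2 := F.A_order hpA hp1
  have hzp : z ≠ p := fun e => hnc₀ (e ▸ IsConj.refl z)
  obtain ⟨s₀, hs₀, hs₀e⟩ := pair_four g₀ hg₀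
  have hzpe : z * p = ρ s₀ * p * (ρ s₀)⁻¹ := by
    rw [hz, hp, ← F.mul_eq 4 code_facts.2.2.2.2.1.2.1 _ hps, hs₀e, F.cj_eq hs₀ hps]
  -- `W` holds every subgroup of odd order normalized by `T`
  have hWmax : ∀ X : Subgroup G, Odd (Nat.card X) → subT ρ ≤ normalizer (X : Set G) → X ≤ W := by
    intro X hXo hXT
    have key : ∀ e ∈ subA ρ, e ≠ 1 → BalT ρ e → ∀ x ∈ X, x * e = e * x → x ∈ W := by
      intro e he he1 hb x hx hxe
      refine J2Type.Loc.le_wJoin he he1 (hb (X ⊓ centralizer ({e} : Set G)) inf_le_right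
        (hXo.of_dvd_nat (card_dvd_of_le inf_le_left)) ?_ (mem_inf.2 ⟨hx, mem_centralizer_singleton_iff.2 hxe⟩))
      exact (le_inf hXT ((F.T_le_A.trans (F.A_le_cent he)).trans le_normalizer)).trans
        inf_normalizer_le_normalizer_inf
    refine J2Type.Loc.gen_four F.order_z hp2 hzp (F.A_comm hzA hpA) hXo (hXT F.z_mem_T)
      (hXT (mem_sub_of_mem hpt)) fun x hx hxc => ?_
    rcases hxc with hx' | hx' | hx'
    · exact key z hzA hz1 hzT x hx hx'
    · exact key p hpA hp1 (hpT g₀ hg₀ hnc₀) x hx hx'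
    · refine key (z * p) (mul_mem hzA hpA) (fun e => hzp ?_) ?_ x hx hx'
      · exact (eq_inv_of_mul_eq_one_left e).trans (F.A_inv hpA)
      · rw [hzpe]
        exact (hpT g₀ hg₀ hnc₀).conj (hSNT (F.mem s₀ hs₀))
  -- the normalizer of `W`
  set M := normalizer (W : Set G) with hM
  have hWM : W ≤ M := le_normalizer
  have hNAM : normalizer (subA ρ : Set G) ≤ M := fun g hg => mem_normalizer_of_maps
    (J2Type.Loc.normalizes_wJoin fun a ha => (mem_normalizer_iff.1 hg a).1 ha)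
  have hSM : (S : Subgroup G) ≤ M := F.S_le_NA.trans hNAM
  have hAM : subA ρ ≤ M := F.A_le.trans hSM
  have hCz : centralizer ({z} : Set G) ≤ M := by
    intro g hg
    obtain ⟨o, ho, n, -, hnQ, rfl⟩ := h.norm g (mem_centralizer_singleton_iff.1 hg)
    refine mul_mem (hWM (J2Type.Loc.le_wJoin hzA hz1 ho)) (mem_normalizer_of_maps fun w hw => ?_)
    have hnQ' : n ∈ normalizer (subQ ρ : Set G) := mem_normalizer_of_maps hnQ
    refine hWmax (W.map (MulAut.conj n).toMonoidHom) ?_ ?_ ⟨w, hw, rfl⟩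
    · rwa [card_map_of_injective (MulAut.conj n).injective]
    · intro t ht
      refine mem_normalizer_of_maps ?_
      rintro _ ⟨y, hy, rfl⟩
      have hq : n⁻¹ * t * n ∈ M := hSM (F.Q_le ((mem_normalizer_iff''.1 hnQ' t).1 (F.T_le_Q ht)))
      exact ⟨n⁻¹ * t * n * y * (n⁻¹ * t * n)⁻¹, (mem_normalizer_iff.1 hq y).1 hy, by simp [mul_assoc]⟩
  -- the centralizers of the pairs not fused to `z`
  have hCp : ∀ g ∈ [1, 32, 33], ¬ IsConj z (ρ (pairOf g)) →
      centralizer ({ρ (pairOf g)} : Set G) ≤ M := by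
    intro g hg hnc
    obtain ⟨hgs, -, -, -, -, hqa, hqs, hq0, -⟩ := pair_facts g hg
    set q := ρ (pairOf g) with hq
    have hqA : q ∈ subA ρ := mem_sub_of_mem hqa
    have hq1 : q ≠ 1 := fun e => hq0 ((F.eq_one hqs).1 e)
    obtain ⟨P, hP⟩ := F.pair_sylow hg hnc
    refine le_of_sylow_odd P (fun x hx => ?_) fun x hx hxo => ?_
    · rcases (hP x).1 hx with hxA | hxA
      · exact hAM hxA
      · have := mul_mem (hAM hxA) (M.inv_mem (hSM (F.mem g hgs)))
        rwa [mul_inv_cancel_right] at this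
    have hxq : x * q = q * x := mem_centralizer_singleton_iff.1 hx
    have hcoreW : J2Type.Loc.core q ≤ W := J2Type.Loc.le_wJoin hqA hq1
    rcases F.pair_central hF hg hnc with hnil | ⟨y, D, -, -, -, hD, hqD, hDc, -, hcen, -⟩
    · exact hWM (hcoreW (hnil x hxq hxo))
    obtain ⟨d, hdD, hd1, hdq⟩ : ∃ d ∈ D, d ≠ 1 ∧ d ≠ q := by
      by_contra hcon
      push Not at hcon
      have hle : D ≤ zpowers q := fun d hd => by
        by_cases hd1 : d = 1
        · exact hd1 ▸ one_mem _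
        · exact (hcon d hd hd1) ▸ mem_zpowers q
      have h4 := Subgroup.card_le_of_le hle
      rw [hDc, Nat.card_zpowers, F.A_order hqA hq1] at h4
      omega
    have hdA : d ∈ subA ρ := (hD ▸ inf_le_left : D ≤ subA ρ) hdD
    have hd2 := F.A_order hdA hd1
    set O := J2Type.Loc.core q
    have hco : x * d * x⁻¹ * d ∈ O := by
      have h := O.inv_mem (hcen d hdD x hxq hxo)
      rwa [show (d * x * d⁻¹ * x⁻¹)⁻¹ = x * d * x⁻¹ * d⁻¹ by group, F.A_inv hdA] at h
    obtain ⟨o, ho, hoe⟩ := Involutions.Basic.exists_conj_of_odd (x := x * d * x⁻¹) (y := d)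
      (by rw [Involutions.Basic.orderOf_conj, hd2]) hd2 (J2Type.Loc.odd_orderOf (J2Type.Loc.core_odd q) hco)
    have hoO : o ∈ O := zpowers_le.2 hco ho
    have hyd : o * x * d = d * (o * x) := mul_inv_eq_iff_eq_mul.1 (by
      rw [show o * x * d * (o * x)⁻¹ = o * (x * d * x⁻¹) * o⁻¹ by group, hoe])
    have hyq : o * x * q = q * (o * x) := by
      rw [mul_assoc, hxq, ← mul_assoc, mem_centralizer_singleton_iff.1 (J2Type.Loc.core_le q hoO), mul_assoc]
    have hyqd : o * x * (q * d) = q * d * (o * x) := by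
      rw [← mul_assoc, hyq, mul_assoc, hyd, ← mul_assoc]
    have hyW : W ≤ W.comap (MulAut.conj (o * x)).toMonoidHom := by
      refine J2Type.Loc.gen_four (F.A_order hqA hq1) hd2 (fun e => hdq e.symm) (F.A_comm hqA hdA) hWo
        (hAM hqA) (hAM hdA) fun w hw hc => ?_
      have key : ∀ e ∈ subA ρ, e ≠ 1 → o * x * e = e * (o * x) → w * e = e * w →
          o * x * w * (o * x)⁻¹ ∈ W := by
        intro e he he1 hye hwe
        refine J2Type.Loc.le_wJoin he he1 (J2Type.Loc.core_conj_mem hye ?_)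
        refine hbal e he he1 (W ⊓ centralizer ({e} : Set G)) inf_le_right
          (hWo.of_dvd_nat (card_dvd_of_le inf_le_left)) ?_ (mem_inf.2 ⟨hw, mem_centralizer_singleton_iff.2 hwe⟩)
        exact (le_inf hAM ((F.A_le_cent he).trans le_normalizer)).trans inf_normalizer_le_normalizer_inf
      rcases hc with hc | hc | hc
      · exact key q hqA hq1 hyq hc
      · exact key d hdA hd1 hyd hc
      · refine key (q * d) (mul_mem hqA hdA) (fun e => hdq ?_) hyqd hc
        exact ((eq_inv_of_mul_eq_one_left e).trans (F.A_inv hdA)).symm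
    have hyM : o * x ∈ M := mem_normalizer_of_maps fun w hw => hyW hw
    have := mul_mem (M.inv_mem (hWM (hcoreW hoO))) hyM
    rwa [inv_mul_cancel_left] at this
  -- the centralizers of all involutions of `A`
  have hCA : ∀ a ∈ subA ρ, a ≠ 1 → centralizer ({a} : Set G) ≤ M := by
    intro a ha h1
    by_cases hza : IsConj z a
    · obtain ⟨c, hc⟩ := isConj_iff.1 hza
      obtain ⟨n, hn, hne⟩ := F.fusion_A hzA (g := c) (hc ▸ ha)
      rw [← hc, ← hne]
      exact cent_le_conj (hNAM hn) hCz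
    obtain ⟨n, hn, hnT⟩ := F.cover hF.nI ha h1
    have hn1 : n * a * n⁻¹ ≠ 1 := fun e => h1 (conj_eq_one_iff.1 e)
    have hnz : n * a * n⁻¹ ≠ z := fun e => hza (isConj_iff.2 ⟨n, e⟩).symm
    obtain ⟨g, hg, s, hs, hse⟩ := F.T_conj hnT hn1 hnz
    have hnc : ¬ IsConj z (ρ (pairOf g)) := fun h => hza
      ((h.trans (isConj_iff.2 ⟨s, hse⟩)).trans (isConj_iff.2 ⟨n, rfl⟩).symm)
    have hma : n⁻¹ * s * ρ (pairOf g) * (n⁻¹ * s)⁻¹ = a := by
      rw [show n⁻¹ * s * ρ (pairOf g) * (n⁻¹ * s)⁻¹ = n⁻¹ * (s * ρ (pairOf g) * s⁻¹) * n by group, hse]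
      group
    exact hma ▸ cent_le_conj (mul_mem (M.inv_mem (hNAM hn)) (hSM hs)) (hCp g hg hnc)
  -- the centralizers of all involutions of `M`
  have hCM : ∀ v ∈ M, orderOf v = 2 → centralizer ({v} : Set G) ≤ M := by
    intro v hv hv2
    have hvp : IsPGroup 2 ((zpowers v).subgroupOf M) :=
      (J2Type.Loc.isPGroup_zpowers (i := 1) (by rw [hv2]; norm_num)).comap_subtype
    obtain ⟨k, hk⟩ := J2Type.exists_conj_le (S.subtype hSM) hvp
    have hkS : (k : G) * v * (k : G)⁻¹ ∈ (S : Subgroup G) :=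
      mem_subgroupOf.1 (hk ⟨⟨v, hv⟩, mem_subgroupOf.2 (mem_zpowers v), rfl⟩)
    set u := (k : G) * v * (k : G)⁻¹ with hu
    have hu2 : u * u = 1 := by
      have h2 : orderOf u = 2 := by rw [hu, Involutions.Basic.orderOf_conj, hv2]
      have := pow_orderOf_eq_one u
      rwa [h2, pow_two] at this
    have hu1 : u ≠ 1 := fun e => Involutions.Basic.ne_one hv2 (conj_eq_one_iff.1 e)
    have hCu : centralizer ({u} : Set G) ≤ M := by
      rcases F.invol_cases hkS hu2 with hA | hQ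
      · exact hCA u hA hu1
      · obtain ⟨c, hc, hcT⟩ := F.Q_into_T h hQ hu2
        have hcM : c ∈ M := hCz (mem_centralizer_singleton_iff.2 hc)
        have := cent_le_conj (M.inv_mem hcM)
          (hCA _ (F.T_le_A hcT) fun e => hu1 (conj_eq_one_iff.1 e))
        rwa [show c⁻¹ * (c * u * c⁻¹) * c⁻¹⁻¹ = u by group] at this
    have := cent_le_conj (M.inv_mem k.2) hCu
    rwa [show (k : G)⁻¹ * u * (k : G)⁻¹⁻¹ = v by rw [hu]; group] at this
  -- the classes of `z` and `p` lie in `M`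
  have hmid : ∀ x y : G, orderOf x = 2 → orderOf y = 2 → ¬ IsConj x y → x ∈ M → y ∈ M := by
    intro x y hx hy hxy hxM
    have hev : Even (orderOf (x * y)) := by
      by_contra ho
      obtain ⟨d, -, hd⟩ := Involutions.Basic.exists_conj_of_odd hx hy (Nat.not_even_iff_odd.1 ho)
      exact hxy (isConj_iff.2 ⟨d, hd⟩)
    obtain ⟨hw, hwx, hwy⟩ := Involutions.Basic.middle_involution hx hy hev
    exact hCM _ (hCM x hxM hx (mem_centralizer_singleton_iff.2 hwx.eq)) hw
      (mem_centralizer_singleton_iff.2 hwy.symm.eq)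
  have hcl : ∀ x ∈ ({z, p} : Set G), ∀ c : G, c * x * c⁻¹ ∈ M := by
    intro x hx c
    rcases hx with rfl | rfl
    · refine hmid p _ hp2 (by rw [Involutions.Basic.orderOf_conj]; exact F.order_z) (fun hc => ?_) (hAM hpA)
      exact hnc₀ ((isConj_iff.2 ⟨c, rfl⟩).trans hc.symm)
    · refine hmid z _ F.order_z (by rw [Involutions.Basic.orderOf_conj]; exact hp2) (fun hc => ?_) (hAM hzA)
      exact hnc₀ (hc.trans (isConj_iff.2 ⟨c, rfl⟩).symm)
  set L := normalClosure ({z, p} : Set G) with hL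
  have hLM : L ≤ M := by
    refine (Subgroup.closure_le _).2 fun x hx => ?_
    obtain ⟨a, ha, hax⟩ := Group.mem_conjugatesOfSet_iff.1 hx
    obtain ⟨c, rfl⟩ := isConj_iff.1 hax
    exact hcl a ha c
  have hWL : W ⊓ L = ⊥ := by
    refine le_bot_iff.1 (le_of_le_of_eq (Cores.le_oddCore_of_isSubnormal ?_
      (hWo.of_dvd_nat (card_dvd_of_le inf_le_left))) C.oddc)
    refine Subgroup.IsSubnormal.step _ L inf_le_right (Subgroup.Normal.isSubnormal inferInstance)
      ⟨fun w hw l => mem_subgroupOf.2 ?_⟩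
    obtain ⟨hwW, hwL⟩ := mem_inf.1 (mem_subgroupOf.1 hw)
    exact mem_inf.2 ⟨(mem_normalizer_iff.1 (hLM l.2) _).1 hwW, mul_mem (mul_mem l.2 hwL) (L.inv_mem l.2)⟩
  have hWC : W ≤ centralizer (L : Set G) := fun w hw => mem_centralizer_iff.2 fun l hl => by
    have h1 : l * w * l⁻¹ * w⁻¹ ∈ W ⊓ L := mem_inf.2
      ⟨mul_mem ((mem_normalizer_iff.1 (hLM hl) w).1 hw) (W.inv_mem hw), by
        rw [show l * w * l⁻¹ * w⁻¹ = l * (w * l⁻¹ * w⁻¹) by group]
        exact mul_mem hl (normalClosure_normal.conj_mem _ (L.inv_mem hl) w)⟩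
    rw [hWL, mem_bot] at h1
    exact mul_inv_eq_iff_eq_mul.1 (mul_inv_eq_one.1 h1)
  haveI : L.Normal := normalClosure_normal
  have hbot : centralizer (L : Set G) = ⊥ := by
    refine solvable_normal_bot ?_ C.core2 C.oddc
    have hle : centralizer (L : Set G) ≤ centralizer ({z} : Set G) :=
      centralizer_le (Set.singleton_subset_iff.2 (subset_normalClosure (Or.inl rfl)))
    haveI := C.solz
    exact Group.isSolvable_of_isSolvable_injective (Subgroup.inclusion_injective hle)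
  exact le_bot_iff.1 (((J2Type.Loc.le_wJoin hzA hz1).trans hWC).trans hbot.le)

end Syl

end Cfsg.Agent.A8Type
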