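import Cfsg.Agent.Lib.A8Type.CentPair

/-!
Fusion when `Q` is the largest normal 2-subgroup of `C(z)` modulo the core.
-/

set_option autoImplicit false
set_option linter.style.haveILetI false
set_option linter.unusedSectionVars false
set_option maxHeartbeats 800000

namespace Cfsg.Agent.A8Type

open Subgroup
open Cfsg.Agent.A8Type.Model
open Cfsg.Agent.A8Type.Tab (app comp mk4 sTab vL pairOf fours bad forb word)

universe u

variable {G : Type u} [Group G]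

/-- The column partners: every involution of `Q` outside `A` is a column image of an element of `T`. -/
theorem col_source : ∀ u ∈ qL, u ∉ tL → Model.mul u u = 0 →
    ∃ pq ∈ colPairs, (u = pq.2 ∨ u = Model.mul pq.2 4) ∧ pq.2 ∈ sL ∧
      (pq.1 ∈ tL ∨ ∃ rs ∈ colPairs, (pq.1 = rs.2 ∨ pq.1 = Model.mul rs.2 4) ∧ rs.1 ∈ tL ∧ rs.2 ∈ sL) := by
  decide +kernel

/-- The rows: a pair and its involution. -/
theorem row_facts : ∀ g ∈ [1, 32, 33], g ∈ qL ∧ g ∉ tL ∧ (pairOf g, g) ∈ colPairs ∧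
    Model.mul (pairOf g) g = Model.mul g (pairOf g) ∧
    (∀ s ∈ sL, Model.mul 4 s = Model.mul s 4) ∧ Model.mul (pairOf g) 4 ∈ tL ∧
    ∃ s ∈ sL, Model.cj s g = Model.mul g 4 := by decide +kernel

/-- The map on `A` with the given images of `z` and three points of an orbit of length four. -/
def omegaTab (O : List ℕ) (b c d e : ℕ) : List ℕ :=
  mk4 (Nat.xor c d) b (if O.getD 0 0 = 8 then c else Nat.xor c b) (Nat.xor c e)

theorem omega_basis : ∀ O ∈ fours, ((O.getD 0 0 = 8 ∧ Model.mul 8 10 = 2 ∧ Model.mul 8 24 = 16 ∧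
      O.getD 1 0 = 10 ∧ O.getD 2 0 = 24) ∨
    (O.getD 0 0 = 12 ∧ Model.mul 12 4 = 8 ∧ Model.mul 12 14 = 2 ∧ Model.mul 12 28 = 16 ∧ O.getD 1 0 = 14 ∧
      O.getD 3 0 = 28)) := by decide +kernel

/-- A map moving `z` inside `{z} ∪ O`: some word in it cannot occur, or fixes `z` outside the image of `S`. -/
theorem omega_words : ∀ O ∈ fours, ∀ b ∈ O, ∀ c ∈ 4 :: O, ∀ d ∈ 4 :: O, ∀ e ∈ 4 :: O,
    let t := omegaTab O b c d e
    (∀ a ∈ 4 :: O, app t a ∈ 4 :: O) → 16 = t.toFinset.card →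
      ∃ w ∈ [[2, 2, 2], [2, 0, 2, 1, 2, 1], [2, 1, 2, 2], [2, 2, 0, 2], [2, 2, 0, 1, 2], [2, 1, 2, 0, 1, 2],
          [2, 0, 2, 1, 0, 2]],
        forb (word [t] w) = true ∨ (app (word [t] w) 4 = 4 ∧ word [t] w ∉ vL) := by
  decide +kernel

namespace Syl

variable [Finite G] {S : Sylow 2 G} {ρ : ℕ → G} (F : Syl (S : Subgroup G) ρ)

include F

theorem real_word {gs : List (List ℕ)} (hgs : ∀ t ∈ gs, Real ρ t) (w : List ℕ) : Real ρ (word gs w) := by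
  induction w with
  | nil => exact F.real_one
  | cons i w ih =>
    refine F.real_comp ?_ ih
    show Real ρ ((sTab 1 :: sTab 32 :: gs).getD i Tab.one)
    by_cases hi : i < (sTab 1 :: sTab 32 :: gs).length
    · rw [List.getD_eq_getElem _ _ hi]
      have hm := List.getElem_mem hi
      rcases List.mem_cons.1 hm with e | hm
      · rw [e]; exact F.real_sTab (by decide)
      rcases List.mem_cons.1 hm with e | hm
      · rw [e]; exact F.real_sTab (by decide)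
      · exact hgs _ hm
    · rw [List.getD_eq_default _ _ (not_lt.1 hi)]
      exact F.real_one

/-- Every involution of `Q` is conjugate in `C(z)` to an element of `T`. -/
theorem Q_into_T (h : QShape S ρ) {x : G} (hx : x ∈ subQ ρ) (hx2 : x * x = 1) :
    ∃ g : G, g * ρ 4 = ρ 4 * g ∧ g * x * g⁻¹ ∈ subT ρ := by
  obtain ⟨n, hnz, -, hn⟩ := h.col
  obtain ⟨u, hu, rfl⟩ := F.mem_Q.1 hx
  have hus := F.mem_sL (L := qL) (by simp) hu
  by_cases huT : u ∈ tL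
  · exact ⟨1, by simp, by rw [one_mul, inv_one, mul_one]; exact mem_sub_of_mem huT⟩
  obtain ⟨pq, hpq, hu', hq2, hstep⟩ := col_source u hu huT ((F.sq_one hus).1 hx2)
  have hz4 : n⁻¹ * ρ 4 = ρ 4 * n⁻¹ := (show Commute n (ρ 4) from hnz).inv_left.eq
  have hT4 : ρ 4 ∈ subT ρ := F.z_mem_T
  -- one step back along the column map
  have hback : ∀ {pq : ℕ × ℕ}, pq ∈ colPairs → pq.2 ∈ sL → ∀ {u : ℕ}, (u = pq.2 ∨ u = Model.mul pq.2 4) →
      n⁻¹ * ρ u * n = ρ pq.1 ∨ n⁻¹ * ρ u * n = ρ pq.1 * ρ 4 := by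
    intro pq hpq hq2 u hu'
    have hnz4 : n * ρ 4 * n⁻¹ = ρ 4 := by rw [hnz, mul_inv_cancel_right]
    rcases hn pq hpq with e | e <;> rcases hu' with rfl | rfl
    · left; rw [← e]; group
    · right
      rw [F.mul_eq _ hq2 4 code_facts.2.2.2.2.1.2.1, ← e]
      conv_lhs => rw [show n⁻¹ * (n * ρ pq.1 * n⁻¹ * ρ 4) * n = ρ pq.1 * (n⁻¹ * ρ 4 * n) by group, hz4,
        mul_assoc (ρ 4), inv_mul_cancel, mul_one]
    · right
      have e' : n * (ρ pq.1 * ρ 4) * n⁻¹ = ρ pq.2 := by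
        rw [show n * (ρ pq.1 * ρ 4) * n⁻¹ = n * ρ pq.1 * n⁻¹ * (n * ρ 4 * n⁻¹) by group, e, hnz4, mul_assoc,
          F.A_sq F.z_mem_A, mul_one]
      rw [← e']; group
    · left
      rw [F.mul_eq _ hq2 4 code_facts.2.2.2.2.1.2.1, ← e]
      group
  rcases hstep with hT | ⟨rs, hrs, hu2, hrT, hr2⟩
  · refine ⟨n⁻¹, hz4, ?_⟩
    rw [inv_inv]
    rcases hback hpq hq2 hu' with e | e <;> rw [e]
    exacts [mem_sub_of_mem hT, mul_mem (mem_sub_of_mem hT) hT4]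
  · refine ⟨n⁻¹ * n⁻¹, ((show Commute n⁻¹ (ρ 4) from hz4).mul_left hz4).eq, ?_⟩
    rw [show n⁻¹ * n⁻¹ * ρ u * (n⁻¹ * n⁻¹)⁻¹ = n⁻¹ * (n⁻¹ * ρ u * n) * n by
      simp only [mul_inv_rev, inv_inv, mul_assoc]]
    rcases hback hpq hq2 hu' with e | e <;> rw [e]
    · rcases hback hrs hr2 hu2 with e2 | e2 <;> rw [e2]
      exacts [mem_sub_of_mem hrT, mul_mem (mem_sub_of_mem hrT) hT4]
    · rw [show n⁻¹ * (ρ pq.1 * ρ 4) * n = n⁻¹ * ρ pq.1 * n * (n⁻¹ * ρ 4 * n) by group, hz4,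
        mul_assoc (ρ 4), inv_mul_cancel, mul_one]
      rcases hback hrs hr2 hu2 with e2 | e2 <;> rw [e2]
      exacts [mul_mem (mem_sub_of_mem hrT) hT4, mul_mem (mul_mem (mem_sub_of_mem hrT) hT4) hT4]

/-- The fusion facts. -/
theorem fusQ (h : QShape S ρ) (hcore2 : Cfsg.pCore 2 G = ⊥) (hoddc : Cfsg.oddCore G = ⊥) : Fus S ρ := by
  classical
  haveI : Fact (Nat.Prime 2) := ⟨Nat.prime_two⟩
  refine ⟨?_, ?_⟩
  · have hni : ¬ Cfsg.IsIsolatedInvolution (ρ 4) := fun hiso => by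
      have hc := ZStar.Main.mem_center_of_isolated hoddc hiso
      have hn : (zpowers (ρ 4)).Normal := ⟨fun x hx y => by
        obtain ⟨j, rfl⟩ := hx
        have : Commute y (ρ 4 ^ j) := Commute.zpow_right (Subgroup.mem_center_iff.1 hc y) j
        show y * ρ 4 ^ j * y⁻¹ ∈ zpowers (ρ 4)
        rw [this.eq, mul_inv_cancel_right]
        exact zpow_mem (mem_zpowers _) j⟩
      have hp : IsPGroup 2 (zpowers (ρ 4)) :=
        J2Type.Loc.isPGroup_zpowers (i := 1) (by rw [F.order_z]; norm_num)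
      have hle : zpowers (ρ 4) ≤ Cfsg.pCore 2 G :=
        le_sSup (show zpowers (ρ 4) ∈ {N : Subgroup G | N.Normal ∧ IsPGroup 2 N} from ⟨hn, hp⟩)
      rw [hcore2, le_bot_iff, zpowers_eq_bot] at hle
      exact Involutions.Basic.ne_one F.order_z hle
    rw [Involutions.Isolated.iff_unique_in_sylow S F.order_z (F.A_le F.z_mem_A)] at hni
    push Not at hni
    obtain ⟨g, hgS, hgz⟩ := hni
    have hsq : g * ρ 4 * g⁻¹ * (g * ρ 4 * g⁻¹) = 1 := by
      rw [show g * ρ 4 * g⁻¹ * (g * ρ 4 * g⁻¹) = g * (ρ 4 * ρ 4) * g⁻¹ by group, F.A_sq F.z_mem_A]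
      group
    rcases F.invol_cases hgS hsq with hA | hQ
    · exact ⟨_, hA, hgz, isConj_iff.2 ⟨g, rfl⟩⟩
    obtain ⟨k, hkz, hkT⟩ := F.Q_into_T h hQ hsq
    refine ⟨_, F.T_le_A hkT, fun e => hgz ?_, isConj_iff.2 ⟨k * g, by group⟩⟩
    have h2 : k * (g * ρ 4 * g⁻¹) * k⁻¹ = k * ρ 4 * k⁻¹ := by rw [e, hkz, mul_inv_cancel_right]
    exact mul_left_cancel (mul_right_cancel h2)
  intro g hg hnc c hc hcA
  obtain ⟨hgs, hgA, hgg, hg0, hpt, hpa, hps, hp0, hp4, hgp, -⟩ := pair_facts g hg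
  obtain ⟨hgq, hgt, hcol, hpg, -, hp4t, s, hs, hse⟩ := row_facts g hg
  set p := ρ (pairOf g) with hp
  set σ := ρ g with hσ
  have hpσ : p * σ = σ * p := (F.comm hps hgs).2 hpg
  -- `σ` and `σ z` are conjugate to `p`
  have hσp : IsConj p σ ∧ IsConj p (σ * ρ 4) := by
    obtain ⟨n, hnz, -, hn⟩ := h.col
    have hσz : IsConj σ (σ * ρ 4) := isConj_iff.2 ⟨ρ s, by
      rw [← F.cj_eq hs hgs, hse, F.mul_eq g hgs 4 code_facts.2.2.2.2.1.2.1]⟩
    rcases hn _ hcol with e | e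
    · have h1 : IsConj p σ := isConj_iff.2 ⟨n, e⟩
      exact ⟨h1, h1.trans hσz⟩
    · have h1 : IsConj p (σ * ρ 4) := isConj_iff.2 ⟨n, e⟩
      exact ⟨h1.trans hσz.symm, h1⟩
  -- move `σ` into `A` and `⟨p, σ, z⟩` into the Sylow subgroup of `C(p)`
  set C := centralizer ({p} : Set G)
  obtain ⟨P, hP⟩ : ∃ P : Sylow 2 C, ∀ x : C, x ∈ (P : Subgroup C) ↔ (x : G) ∈ subA ρ ∨ (x : G) * σ ∈ subA ρ :=
    F.pair_sylow hg hnc
  set a := c * σ * c⁻¹
  set L := C ⊓ centralizer ({a} : Set G)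
  set E := zpowers σ ⊔ zpowers (ρ 4)
  have hσz : σ * ρ 4 = ρ 4 * σ := F.z_comm (F.mem g hgs)
  have hE : IsPGroup 2 E := IsPGroup.to_sup_of_normal_left'
    (J2Type.Loc.isPGroup_zpowers (i := 1) (by rw [F.orderOf_two hgs hgg hg0]; norm_num))
    (J2Type.Loc.isPGroup_zpowers (i := 1) (by rw [F.order_z]; norm_num))
    ((zpowers_le.2 (mem_centralizer_iff.2 fun w hw => by
      obtain ⟨j, rfl⟩ := hw
      exact (Commute.zpow_left hσz j).eq)).trans (centralizer_le_normalizer _))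
  set E' := E.map (MulAut.conj c).toMonoidHom
  have hE'L : E' ≤ L := by
    rintro _ ⟨x, hx, rfl⟩
    have hxp : x * p = p * x := mem_centralizer_singleton_iff.1 ((sup_le
      (zpowers_le.2 (mem_centralizer_singleton_iff.2 hpσ.symm))
      (zpowers_le.2 (mem_centralizer_singleton_iff.2 (F.z_comm (F.mem _ hps)).symm)) : E ≤ C) hx)
    have hxσ : x * σ = σ * x := mem_centralizer_singleton_iff.1 ((sup_le
      (zpowers_le.2 (mem_centralizer_singleton_iff.2 rfl))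
      (zpowers_le.2 (mem_centralizer_singleton_iff.2 hσz.symm)) : E ≤ centralizer ({σ} : Set G)) hx)
    refine ⟨?_, ?_⟩
    · exact C.mul_mem (C.mul_mem (mem_centralizer_singleton_iff.2 hc) (mem_centralizer_singleton_iff.2 hxp))
        (C.inv_mem (mem_centralizer_singleton_iff.2 hc))
    · refine mem_centralizer_singleton_iff.2 ?_
      show c * x * c⁻¹ * (c * σ * c⁻¹) = c * σ * c⁻¹ * (c * x * c⁻¹)
      rw [show c * x * c⁻¹ * (c * σ * c⁻¹) = c * (x * σ) * c⁻¹ by group, hxσ]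
      group
  have hAL : subA ρ ≤ L := le_inf (F.A_le_cent (mem_sub_of_mem hpa)) (F.A_le_cent hcA)
  obtain ⟨R, hR⟩ := (F.A_p.comap_subtype : IsPGroup 2 ((subA ρ).subgroupOf L)).exists_le_sylow
  obtain ⟨R', hR'⟩ := ((hE.map _).comap_subtype : IsPGroup 2 (E'.subgroupOf L)).exists_le_sylow
  obtain ⟨l, hl⟩ := MulAction.exists_smul_eq L R' R
  have hAR : subA ρ ≤ (R : Subgroup L).map L.subtype := fun x hx =>
    ⟨⟨x, hAL hx⟩, hR (mem_subgroupOf.2 hx), rfl⟩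
  have hRC : (R : Subgroup L).map L.subtype ≤ C := (map_subtype_le _).trans inf_le_left
  obtain ⟨j, hj⟩ := J2Type.exists_conj_le (G := C) P ((R.isPGroup'.map L.subtype).comap_subtype (K := C))
  set m := (j : G) * l * c
  have hjp : ∀ r ∈ (R : Subgroup L).map L.subtype,
      (j : G) * r * (j : G)⁻¹ ∈ subA ρ ∨ (j : G) * r * (j : G)⁻¹ * σ ∈ subA ρ := fun r hr => by
    have h1 : j * ⟨r, hRC hr⟩ * j⁻¹ ∈ (P : Subgroup C) := hj ⟨⟨r, hRC hr⟩, mem_subgroupOf.2 hr, rfl⟩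
    exact (hP _).1 h1
  have hPS : ∀ x : G, x ∈ subA ρ ∨ x * σ ∈ subA ρ → x ∈ (S : Subgroup G) := by
    rintro x (hx | hx)
    · exact F.A_le hx
    · have := mul_mem (F.A_le hx) ((S : Subgroup G).inv_mem (F.mem g hgs))
      rwa [mul_inv_cancel_right] at this
  have hjN : (j : G) ∈ normalizer (subA ρ : Set G) := F.norm_A fun x hx => hPS _ (hjp x (hAR hx))
  have hEm : ∀ x ∈ E, m * x * m⁻¹ ∈ subA ρ ∨ m * x * m⁻¹ * σ ∈ subA ρ := by
    intro x hx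
    have hm' : c * x * c⁻¹ ∈ E' := ⟨x, hx, rfl⟩
    have h1 : (l * ⟨_, hE'L hm'⟩ * l⁻¹ : L) ∈ (R : Subgroup L) := by
      rw [← hl, Sylow.coe_subgroup_smul]
      exact ⟨_, hR' (mem_subgroupOf.2 hm'), rfl⟩
    have := hjp _ ⟨_, h1, rfl⟩
    rwa [Subgroup.coe_subtype, Subgroup.coe_mul, Subgroup.coe_mul, Subgroup.coe_inv,
      show (j : G) * ((l : G) * (c * x * c⁻¹) * (l : G)⁻¹) * (j : G)⁻¹ = m * x * m⁻¹ by simp only [m]; group] at this
  have hmσ : m * σ * m⁻¹ ∈ subA ρ := by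
    have hla : (l : G) * a * (l : G)⁻¹ = a := by
      rw [mem_centralizer_singleton_iff.1 l.2.2, mul_inv_cancel_right]
    rw [show m * σ * m⁻¹ = (j : G) * ((l : G) * a * (l : G)⁻¹) * (j : G)⁻¹ by simp only [m, a]; group, hla]
    exact (mem_normalizer_iff.1 hjN a).1 hcA
  have hmp : m * p * m⁻¹ = p := mul_inv_eq_iff_eq_mul.2 (mem_centralizer_singleton_iff.1
    (C.mul_mem (C.mul_mem j.2 l.2.1) (mem_centralizer_singleton_iff.2 hc)))
  rcases hEm (ρ 4) (mem_sup_right (mem_zpowers _)) with hw | hw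
  · obtain ⟨n, hn, hne⟩ := F.fusion_A F.z_mem_A hw
    have hz' : n⁻¹ * m * ρ 4 = ρ 4 * (n⁻¹ * m) := mul_inv_eq_iff_eq_mul.1 (by
      rw [show n⁻¹ * m * ρ 4 * (n⁻¹ * m)⁻¹ = n⁻¹ * (m * ρ 4 * m⁻¹) * n by group, ← hne]; group)
    refine h.rows _ hz' (pairOf g) hpt hp0 hp4 g hgq hgt hgg hpg ⟨?_, ?_⟩
    · rw [← hp, show n⁻¹ * m * p * (n⁻¹ * m)⁻¹ = n⁻¹ * (m * p * m⁻¹) * n by group, hmp]
      exact (mem_normalizer_iff''.1 hn p).1 (mem_sub_of_mem hpa)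
    · rw [← hσ, show n⁻¹ * m * σ * (n⁻¹ * m)⁻¹ = n⁻¹ * (m * σ * m⁻¹) * n by group]
      exact (mem_normalizer_iff''.1 hn _).1 hmσ
  -- the image of `z` would be conjugate to `σ`
  obtain ⟨α, hα, hαe⟩ := F.mem_A.1 ((mem_normalizer_iff.1 (F.S_le_NA (F.mem g hgs)) _).1 hw)
  have hσi : σ⁻¹ = σ := inv_eq_of_mul_eq_one_right ((F.sq_one hgs).2 hgg)
  rw [hσi, ← hσ, mul_assoc, mul_assoc, (F.sq_one hgs).2 hgg, mul_one] at hαe
  have hwe : m * ρ 4 * m⁻¹ = ρ (Model.mul g α) := by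
    rw [F.mul_eq g hgs α (aL_facts.1 α hα).1, hαe, ← hσ, ← mul_assoc, (F.sq_one hgs).2 hgg, one_mul]
  have hw2 : Model.mul (Model.mul g α) (Model.mul g α) = 0 := by
    refine (F.sq_one (Model.closed g hgs α (aL_facts.1 α hα).1)).1 ?_
    rw [← hwe, show m * ρ 4 * m⁻¹ * (m * ρ 4 * m⁻¹) = m * (ρ 4 * ρ 4) * m⁻¹ by group, F.A_sq F.z_mem_A]
    group
  obtain ⟨β, hβ, hβe⟩ := coset_conj g hg α hα hw2
  refine hnc ((isConj_iff.2 ⟨m, hwe⟩ : IsConj (ρ 4) (ρ (Model.mul g α))).trans ?_)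
  rw [← hβe, F.cj_eq (aL_facts.1 β hβ).1 hgs, ← hσ]
  exact ((isConj_iff.2 ⟨ρ β, rfl⟩).symm).trans hσp.1.symm

/-- In the smaller case some pair is fused to `z`. -/
theorem nwc (h : QShape S ρ) (hF : Fus S ρ) (hbot : J2Type.Loc.core (ρ 4) = ⊥)
    (hc : Nat.card (centralizer ({ρ 4} : Set G)) = 192) :
    ∃ g : G, g * ρ 4 * g⁻¹ ∈ subQ ρ ∧ g * ρ 4 * g⁻¹ ≠ ρ 4 := by
  classical
  by_contra hcon
  push Not at hcon
  have hno : ∀ g ∈ [1, 32, 33], ¬ IsConj (ρ 4) (ρ (pairOf g)) := by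
    intro g hg hgc
    obtain ⟨-, -, -, -, hpt, -, hps, -, hp4, -⟩ := pair_facts g hg
    obtain ⟨x, hx⟩ := isConj_iff.1 hgc
    exact hp4 (F.inj _ hps 4 code_facts.2.2.2.2.1.2.1
      (hx ▸ hcon x (hx ▸ F.T_le_Q (mem_sub_of_mem hpt))))
  obtain ⟨O, hO, hOc⟩ := F.five hF.nI hno
  obtain ⟨n, hn, hnA, hnz⟩ := F.exists_move_z hF.nI
  set t := tab ρ n
  have hmap : ∀ {a : ℕ}, a ∈ aL → (a = 4 ∨ a ∈ O) → app t a = 4 ∨ app t a ∈ O := fun {a} ha hor => by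
    obtain ⟨h1, h2⟩ := F.app_tab hn ha
    exact (hOc _ h1).1 (((hOc a ha).2 hor).trans (isConj_iff.2 ⟨n, h2.symm⟩))
  have hOA : ∀ a ∈ O, a ∈ aL := fun a ha => ((four_facts O hO).1 a ha).1
  have h4 : app t 4 ∈ O := (hmap four_aL (Or.inl rfl)).resolve_left fun e =>
    hnz ((F.app_eq hn four_aL four_aL).1 e)
  have hOm : ∀ i, i < 4 → O.getD i 0 ∈ O := fun i hi => by
    have hi' : i < O.length := by rw [(four_facts O hO).2.2.1]; exact hi
    rw [List.getD_eq_getElem _ _ hi']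
    exact List.getElem_mem hi'
  have himg : ∀ {a : ℕ}, a ∈ O → app t a ∈ 4 :: O := fun {a} ha =>
    List.mem_cons.2 (hmap (hOA a ha) (Or.inr ha))
  obtain ⟨e, heO, hshape⟩ : ∃ e ∈ 4 :: O, t = omegaTab O (app t 4) (app t (O.getD 0 0)) (app t (O.getD 1 0)) e := by
    rcases omega_basis O hO with ⟨h0, e2, e16, h1, h2⟩ | ⟨h0, e8, e2, e16, h1, h3⟩
    · have m8 : (8 : ℕ) ∈ O := h0 ▸ hOm 0 (by norm_num)
      have m10 : (10 : ℕ) ∈ O := h1 ▸ hOm 1 (by norm_num)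
      have m24 : (24 : ℕ) ∈ O := h2 ▸ hOm 2 (by norm_num)
      refine ⟨app t 24, himg m24, ?_⟩
      rw [omegaTab, if_pos h0, h0, h1, ← F.app_mul hn (hOA _ m8) (hOA _ m10), e2,
        ← F.app_mul hn (hOA _ m8) (hOA _ m24), e16]
      exact F.tab_mk4 hn
    · have m12 : (12 : ℕ) ∈ O := h0 ▸ hOm 0 (by norm_num)
      have m14 : (14 : ℕ) ∈ O := h1 ▸ hOm 1 (by norm_num)
      have m28 : (28 : ℕ) ∈ O := h3 ▸ hOm 3 (by norm_num)
      refine ⟨app t 28, himg m28, ?_⟩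
      rw [omegaTab, h0, if_neg (by norm_num), h1, ← F.app_mul hn (hOA _ m12) (hOA _ m14), e2,
        ← F.app_mul hn (hOA _ m12) four_aL, e8, ← F.app_mul hn (hOA _ m12) (hOA _ m28), e16]
      exact F.tab_mk4 hn
  obtain ⟨w, -, hw⟩ := omega_words O hO _ h4 _ (himg (hOm 0 (by norm_num))) _ (himg (hOm 1 (by norm_num))) e heO
    (by
      rw [← hshape]
      intro a ha
      have ha' := List.mem_cons.1 ha
      refine List.mem_cons.2 (hmap ?_ ha')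
      rcases ha' with h' | h'
      · exact h' ▸ four_aL
      · exact hOA a h')
    (by rw [← hshape]; exact F.tab_card hn)
  rw [← hshape] at hw
  have hgs : ∀ s ∈ [t], Real ρ s := fun s hs => by rw [List.mem_singleton.1 hs]; exact ⟨n, hn, rfl⟩
  have hreal := F.real_word hgs w
  rcases hw with hb | ⟨h44, hnv⟩
  · rw [F.not_forb hreal] at hb
    exact absurd hb (by simp)
  obtain ⟨m, hm, hme⟩ := hreal
  rw [← hme] at h44 hnv
  have hmz : m * ρ 4 = ρ 4 * m := mul_inv_eq_iff_eq_mul.1 ((F.app_eq hm four_aL four_aL).1 h44)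
  obtain ⟨o, ho, s, hs, hmo⟩ := h.small (by rw [hbot, Subgroup.card_bot, mul_one, hc]) m hmz hm
  rw [hbot, mem_bot] at ho
  rw [ho, one_mul] at hmo
  obtain ⟨c, hcs, rfl⟩ := F.surj s hs
  exact hnv (by rw [hmo, F.tab_sL hcs]; exact (aL_facts.2.2.2.1 c hcs).1)

end Syl

end Cfsg.Agent.A8Type
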