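import Cfsg.Agent.Lib.PSpAmalgam.Defs

/-!
Elements satisfying the relations of `SL₂(3)` give a homomorphism from that group.
-/

set_option autoImplicit false
set_option linter.style.haveILetI false

namespace Cfsg.Agent.A8Type.Landing

open PSpAmalgam (SL3 negOne)

/-- The first generator of the quaternion group. -/
def sI : SL3 := ⟨!![0, 2; 1, 0], by decide⟩
/-- The second generator of the quaternion group. -/
def sJ : SL3 := ⟨!![1, 1; 1, 2], by decide⟩
/-- The element of order three. -/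
def sA : SL3 := ⟨!![1, 1; 0, 1], by decide⟩

/-- Exponents in the quaternion group. -/
abbrev QF : Type := Fin 4 × Fin 2

/-- Multiplication of exponents. -/
def qop : QF → QF → QF
  | (p, q), (p', q') =>
    ((if q = 0 then p + p' else if q' = 0 then p + 3 * p' else p + 3 * p' + 2), q + q')

/-- The automorphism of order three. -/
def qtw : QF → QF
  | (p, q) =>
    qop (if p = 0 then (0, 0) else if p = 1 then (0, 1) else if p = 2 then qop (0, 1) (0, 1)
      else qop (qop (0, 1) (0, 1)) (0, 1)) (if q = 0 then (0, 0) else qop (1, 0) (0, 1))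

/-- Its powers. -/
def qtwi : Fin 3 → QF → QF
  | 0, x => x
  | 1, x => qtw x
  | 2, x => qtw (qtw x)

/-- The normal forms. -/
abbrev NF : Type := QF × Fin 3

/-- Multiplication of normal forms. -/
def nop : NF → NF → NF
  | (x, r), (y, s) => (qop x (qtwi r y), r + s)

/-- The element with a normal form. -/
def nev (n : NF) : SL3 := sI ^ (n.1.1 : ℕ) * sJ ^ (n.1.2 : ℕ) * sA ^ (n.2 : ℕ)

/-- All normal forms. -/
def nfL : List NF :=
  ([0, 1, 2, 3] : List (Fin 4)).flatMap fun p => ([0, 1] : List (Fin 2)).flatMap fun q =>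
    ([0, 1, 2] : List (Fin 3)).map fun r => ((p, q), r)

theorem mem_nfL : ∀ n : NF, n ∈ nfL := by decide +kernel

theorem nev_op : (nfL.all fun m => nfL.all fun n => decide (nev (nop m n) = nev m * nev n)) = true := by
  decide +kernel

theorem nev_inj : (nfL.all fun m => nfL.all fun n => !(decide (nev m = nev n)) || decide (m = n)) = true := by
  decide +kernel

theorem nev_negOne : nev (((2, 0), 0) : NF) = negOne := by decide +kernel

theorem card_SL3 : Fintype.card SL3 = 24 := by decide +kernel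

theorem nev_bijective : Function.Bijective nev := by
  refine (Fintype.bijective_iff_injective_and_card nev).2 ⟨fun m n h => ?_, ?_⟩
  · have h1 := List.all_eq_true.1 (List.all_eq_true.1 nev_inj m (mem_nfL m)) n (mem_nfL n)
    simpa [h] using h1
  · rw [card_SL3]; rfl

variable {C : Type*} [Group C]

/-- The quaternion element with given exponents. -/
def qev (i j : C) (x : QF) : C := i ^ (x.1 : ℕ) * j ^ (x.2 : ℕ)

theorem qev_op {i j : C} (hi : i ^ 4 = 1) (hj : j * j = i * i) (hji : j * i = i ^ 3 * j) (x y : QF) :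
    qev i j (qop x y) = qev i j x * qev i j y := by
  have hn : ∀ n : ℕ, j * i ^ n = i ^ (3 * n) * j := fun n => by
    induction n with
    | zero => simp
    | succ n ih => rw [pow_succ, ← mul_assoc, ih, mul_assoc, hji, ← mul_assoc, ← pow_add]; rfl
  have hmod : ∀ n m : ℕ, n % 4 = m % 4 → i ^ n = i ^ m := fun n m h => by
    conv_lhs => rw [← Nat.div_add_mod n 4, pow_add, pow_mul, hi, one_pow, one_mul, h]
    conv_rhs => rw [← Nat.div_add_mod m 4, pow_add, pow_mul, hi, one_pow, one_mul]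
  obtain ⟨p, q⟩ := x
  obtain ⟨p', q'⟩ := y
  show i ^ ((qop (p, q) (p', q')).1 : ℕ) * j ^ ((qop (p, q) (p', q')).2 : ℕ) =
    i ^ (p : ℕ) * j ^ (q : ℕ) * (i ^ (p' : ℕ) * j ^ (q' : ℕ))
  fin_cases q <;> fin_cases q'
  · simp only [qop, Fin.zero_eta, if_true, add_zero, Fin.val_zero, pow_zero, mul_one, ← pow_add]
    exact hmod _ _ (by rw [Fin.val_add, Nat.mod_mod])
  · simp only [qop, Fin.zero_eta, Fin.mk_one, if_true, zero_add, Fin.val_zero, Fin.val_one, pow_zero, mul_one,
      pow_one, ← mul_assoc, ← pow_add]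
    rw [hmod ((p + p' : Fin 4) : ℕ) ((p : ℕ) + p') (by rw [Fin.val_add, Nat.mod_mod])]
  · simp only [qop, Fin.zero_eta, Fin.mk_one, one_ne_zero, if_false, if_true, add_zero, Fin.val_one,
      Fin.val_zero, pow_zero, mul_one, pow_one]
    rw [mul_assoc, hn, ← mul_assoc, ← pow_add,
      hmod ((p + 3 * p' : Fin 4) : ℕ) ((p : ℕ) + 3 * p') (by simp [Fin.val_add, Fin.val_mul])]
  · simp only [qop, Fin.mk_one, one_ne_zero, if_false, Fin.val_one, pow_one,
      show ((1 : Fin 2) + 1) = 0 from rfl, Fin.val_zero, pow_zero, mul_one]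
    rw [← mul_assoc, mul_assoc (i ^ (p : ℕ)) j, hn, ← mul_assoc, ← pow_add, mul_assoc, hj, ← pow_two, ← pow_add]
    exact hmod _ _ (by simp [Fin.val_add, Fin.val_mul])

/-- The homomorphism. -/
theorem exists_sl_hom {i j a : C} (hi : i ^ 4 = 1) (hj : j * j = i * i) (hji : j * i = i ^ 3 * j)
    (ha : a ^ 3 = 1) (hai : a * i * a⁻¹ = j) (haj : a * j * a⁻¹ = i * j) :
    ∃ φ : SL3 →* C, (∀ n : NF, φ (nev n) = qev i j n.1 * a ^ (n.2 : ℕ)) ∧ φ negOne = i * i := by
  have hop := qev_op hi hj hji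
  have h0 : qev i j (0, 0) = 1 := by simp [qev]
  have htw : ∀ x, a * qev i j x * a⁻¹ = qev i j (qtw x) := by
    rintro ⟨p, q⟩
    rw [show qev i j (p, q) = i ^ (p : ℕ) * j ^ (q : ℕ) from rfl,
      show a * (i ^ (p : ℕ) * j ^ (q : ℕ)) * a⁻¹ = a * i ^ (p : ℕ) * a⁻¹ * (a * j ^ (q : ℕ) * a⁻¹) by group,
      ← conj_pow, ← conj_pow, hai, haj, qtw, hop]
    congr 1
    · fin_cases p
      · simp [qev]
      · simp [qev]
      · show j ^ 2 = qev i j (qop (0, 1) (0, 1))
        rw [hop, pow_two]; simp [qev]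
      · show j ^ 3 = qev i j (qop (qop (0, 1) (0, 1)) (0, 1))
        rw [hop, hop, pow_succ, pow_two]; simp [qev]
    · fin_cases q
      · simp [qev]
      · show (i * j) ^ 1 = qev i j (qop (1, 0) (0, 1))
        rw [hop, pow_one]; simp [qev]
  have htwi : ∀ (r : Fin 3) x, a ^ (r : ℕ) * qev i j x = qev i j (qtwi r x) * a ^ (r : ℕ) := by
    intro r x
    fin_cases r
    · simp [qtwi]
    · show a ^ 1 * qev i j x = qev i j (qtw x) * a ^ 1
      rw [pow_one, ← htw, inv_mul_cancel_right]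
    · show a ^ 2 * qev i j x = qev i j (qtw (qtw x)) * a ^ 2
      rw [← htw, ← htw, pow_two]; group
  have hpow : ∀ r s : Fin 3, a ^ ((r + s : Fin 3) : ℕ) = a ^ (r : ℕ) * a ^ (s : ℕ) := fun r s => by
    rw [← pow_add]
    conv_rhs => rw [← Nat.div_add_mod ((r : ℕ) + s) 3, pow_add, pow_mul, ha, one_pow, one_mul]
    rw [Fin.val_add]
  let F : NF → C := fun n => qev i j n.1 * a ^ (n.2 : ℕ)
  have hF : ∀ m n, F (nop m n) = F m * F n := by
    rintro ⟨x, r⟩ ⟨y, s⟩
    show qev i j (qop x (qtwi r y)) * a ^ ((r + s : Fin 3) : ℕ) = _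
    rw [hop, hpow, mul_assoc, ← mul_assoc (qev i j (qtwi r y)), ← htwi]
    show _ = qev i j x * a ^ (r : ℕ) * (qev i j y * a ^ (s : ℕ))
    group
  let E := Equiv.ofBijective nev nev_bijective
  have hE : ∀ n, E.symm (nev n) = n := E.symm_apply_apply
  refine ⟨MonoidHom.mk' (fun g => F (E.symm g)) fun g h => ?_, fun n => ?_, ?_⟩
  · obtain ⟨m, rfl⟩ := nev_bijective.2 g
    obtain ⟨n, rfl⟩ := nev_bijective.2 h
    rw [← of_decide_eq_true (List.all_eq_true.1 (List.all_eq_true.1 nev_op m (mem_nfL m)) n (mem_nfL n)),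
      hE, hE, hE, hF]
  · show F (E.symm (nev n)) = _
    rw [hE]
  · show F (E.symm negOne) = _
    rw [← nev_negOne, hE]
    show i ^ (2 : ℕ) * j ^ (0 : ℕ) * a ^ (0 : ℕ) = i * i
    rw [pow_zero, pow_zero, mul_one, mul_one, pow_two]

end Cfsg.Agent.A8Type.Landing
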