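import Cfsg.Agent.Lib.A8Type.LandingQuat
import Cfsg.Agent.Lib.A8Type.LandingSL
import Cfsg.Agent.Lib.PSpAmalgam.Shape
import Cfsg.Agent.Lib.PSpAmalgam.Model
import Cfsg.Agent.S3221

/-!
A centraliser of order 576 has shape `(SL₂(3) ∘ SL₂(3)).2`, so the group is `PSp₄(3)`.
-/

set_option autoImplicit false
set_option linter.style.haveILetI false
set_option linter.unusedSectionVars false

namespace Cfsg.Agent.A8Type.Landing

open Subgroup
open Cfsg.Agent.A8Type.Model
open PSpAmalgam (SL3 negOne DoubleSL)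

variable {G : Type*} [Group G]

theorem no_index_two [Finite G] (hO : Cfsg.pResidual 2 G = ⊤) (H : Subgroup G) : H.index ≠ 2 := by
  intro hH
  have hle : Cfsg.pResidual 2 G ≤ H := by
    rw [Cfsg.pResidual, closure_le]
    intro g hg
    have hodd : ¬ 2 ∣ orderOf g := fun h => by
      have := Nat.dvd_gcd h (dvd_refl 2)
      rw [show Nat.gcd (orderOf g) 2 = 1 from hg] at this
      omega
    obtain ⟨k, hk⟩ : ∃ k, orderOf g = 2 * k + 1 := ⟨orderOf g / 2, by omega⟩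
    have h1 : (g ^ (k + 1)) ^ 2 = g := by
      rw [← pow_mul, show (k + 1) * 2 = orderOf g + 1 by omega, pow_succ, pow_orderOf_eq_one, one_mul]
    rw [SetLike.mem_coe, ← h1]
    exact sq_mem_of_index_two hH _
  rw [hO, top_le_iff] at hle
  rw [hle, index_top] at hH
  omega

namespace Cen

variable {S : Subgroup G} {ρ : ℕ → G} (D : Cen S ρ)
include D

/-- An element of order three centralising the first quaternion subgroup. -/
theorem exists_fix [Finite G] (h576 : Nat.card (centralizer ({ρ 4} : Set G)) = 576) :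
    ∃ x, x ∈ centralizer ({ρ 4} : Set G) ∧ x ^ 3 = 1 ∧ x ≠ 1 ∧ Fix ρ x := by
  haveI : Fact (Nat.Prime 3) := ⟨Nat.prime_three⟩
  obtain ⟨X⟩ : Nonempty (Sylow 3 ↥(centralizer ({ρ 4} : Set G))) := inferInstance
  have hX : Nat.card (X : Subgroup ↥(centralizer ({ρ 4} : Set G))) = 9 := by
    rw [X.card_eq_multiplicity, h576, show (576 : ℕ) = 3 ^ 2 * 64 by norm_num,
      Nat.factorization_mul (by norm_num) (by norm_num), Finsupp.add_apply,
      Nat.Prime.factorization_pow Nat.prime_three, Finsupp.single_eq_same,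
      Nat.factorization_eq_zero_of_not_dvd (by norm_num : ¬ 3 ∣ 64)]
    norm_num
  have h9 : ∀ y : (X : Subgroup ↥(centralizer ({ρ 4} : Set G))), y ^ 9 = 1 := fun y => by
    rw [← hX]; exact pow_card_eq_one'
  have h9' : ∀ y : (X : Subgroup ↥(centralizer ({ρ 4} : Set G))),
      ((y : ↥(centralizer ({ρ 4} : Set G))) : G) ^ 9 = 1 :=
    fun y => congrArg Subtype.val (congrArg Subtype.val (h9 y))
  have h17 : 17 ∈ q1L := by decide
  have himg : ∀ y : (X : Subgroup ↥(centralizer ({ρ 4} : Set G))), ∃ b : Fin 6,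
      ((y : ↥(centralizer ({ρ 4} : Set G))) : G) * ρ 17 * ((y : ↥(centralizer ({ρ 4} : Set G))) : G)⁻¹ =
        ρ ([17, 21, 35, 39, 50, 54].getD (b : ℕ) 0) := by
    intro y
    obtain ⟨b, hb, e⟩ := D.maps_one (y : ↥(centralizer ({ρ 4} : Set G))).2 (by decide : Odd 9) (h9' y) 17 h17
    rcases (show ∀ b ∈ q1L, b = 0 ∨ b = 4 ∨ ∃ i : Fin 6, b = [17, 21, 35, 39, 50, 54].getD (i : ℕ) 0 by
      decide +kernel) b hb with rfl | rfl | ⟨i, hi⟩
    · exfalso
      rw [D.F.zero] at e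
      have := (D.F.eq_one (D.q1s h17)).1 (_root_.conj_eq_one_iff.1 e)
      omega
    · exfalso
      have h1 : ρ 17 = ρ 4 := (MulAut.conj ((y : ↥(centralizer ({ρ 4} : Set G))) : G)).injective (by
        simp only [MulAut.conj_apply]
        rw [e, (D.z_comm (y : ↥(centralizer ({ρ 4} : Set G))).2).eq, mul_inv_cancel_right])
      have := D.F.inj 17 (D.q1s h17) 4 D.four_s h1
      omega
    · exact ⟨i, by rw [e, hi]⟩
  choose f hf using himg
  obtain ⟨y, y', hne, hyy⟩ : ∃ y y', y ≠ y' ∧ f y = f y' := by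
    by_contra hno
    push Not at hno
    have h := Nat.card_le_card_of_injective f fun a b e => by_contra fun hab => hno a b hab e
    rw [hX, Nat.card_fin] at h
    omega
  set k := y⁻¹ * y' with hk
  have hk1 : k ≠ 1 := fun h => hne (inv_mul_eq_one.1 h)
  have hkfix : ∀ n : ℕ, (((k ^ n : (X : Subgroup ↥(centralizer ({ρ 4} : Set G)))) : ↥(centralizer ({ρ 4} : Set G))) : G) * ρ 17 *
      (((k ^ n : (X : Subgroup ↥(centralizer ({ρ 4} : Set G)))) : ↥(centralizer ({ρ 4} : Set G))) : G)⁻¹ = ρ 17 := by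
    intro n
    have h1 : ((k : ↥(centralizer ({ρ 4} : Set G))) : G) * ρ 17 * ((k : ↥(centralizer ({ρ 4} : Set G))) : G)⁻¹ = ρ 17 := by
      have h2 : ((y' : ↥(centralizer ({ρ 4} : Set G))) : G) * ρ 17 * ((y' : ↥(centralizer ({ρ 4} : Set G))) : G)⁻¹ =
          ((y : ↥(centralizer ({ρ 4} : Set G))) : G) * ρ 17 * ((y : ↥(centralizer ({ρ 4} : Set G))) : G)⁻¹ := by rw [hf, hf, hyy]
      rw [hk]
      simp only [coe_mul, coe_inv]
      calc _ = ((y : ↥(centralizer ({ρ 4} : Set G))) : G)⁻¹ * (((y' : ↥(centralizer ({ρ 4} : Set G))) : G) * ρ 17 *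
            ((y' : ↥(centralizer ({ρ 4} : Set G))) : G)⁻¹) * ((y : ↥(centralizer ({ρ 4} : Set G))) : G) := by group
        _ = ρ 17 := by rw [h2]; group
    simp only [SubmonoidClass.coe_pow]
    exact mul_inv_eq_iff_eq_mul.2 ((show Commute _ (ρ 17) from mul_inv_eq_iff_eq_mul.1 h1).pow_left n).eq
  obtain ⟨n, hn1, hn3⟩ : ∃ n : ℕ, k ^ n ≠ 1 ∧ (k ^ n) ^ 3 = 1 := by
    by_cases h3 : k ^ 3 = 1
    · exact ⟨1, by rwa [pow_one], by rwa [pow_one]⟩
    · exact ⟨3, h3, by rw [← pow_mul]; exact h9 k⟩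
  have hn3' : (((k ^ n : (X : Subgroup ↥(centralizer ({ρ 4} : Set G)))) : ↥(centralizer ({ρ 4} : Set G))) : G) ^ 3 = 1 :=
    congrArg Subtype.val (congrArg Subtype.val hn3)
  exact ⟨_, ((k ^ n : (X : Subgroup ↥(centralizer ({ρ 4} : Set G)))) : ↥(centralizer ({ρ 4} : Set G))).2, hn3',
    fun h => hn1 (Subtype.ext (Subtype.ext h)),
    D.fix_of_point ((k ^ n : (X : Subgroup ↥(centralizer ({ρ 4} : Set G)))) : ↥(centralizer ({ρ 4} : Set G))).2 hn3' h17
      (by norm_num) (by norm_num) (Or.inl (hkfix n))⟩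

/-- The shape of the centraliser. -/
theorem doubleSL [Finite G] (h576 : Nat.card (centralizer ({ρ 4} : Set G)) = 576) :
    ∃ (φ : SL3 →* ↥(centralizer ({ρ 4} : Set G))) (u : ↥(centralizer ({ρ 4} : Set G))),
      DoubleSL ↥(centralizer ({ρ 4} : Set G)) ⟨ρ 4, mem_centralizer_singleton_iff.2 rfl⟩ φ u := by
  haveI : Fact (Nat.Prime 3) := ⟨Nat.prime_three⟩
  obtain ⟨b, hb, hb3, hb1, hfb⟩ := D.exists_fix h576
  set a := ρ 8 * b * (ρ 8)⁻¹ with hadef
  have ha : a ∈ centralizer ({ρ 4} : Set G) := D.conj_u_mem hb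
  have ha3 : a ^ 3 = 1 := D.conj_u_pow hb3
  have ha1 : a ≠ 1 := fun e => hb1 (_root_.conj_eq_one_iff.1 e)
  have hua : ρ 8 * a * (ρ 8)⁻¹ = b := by
    rw [hadef, D.u_inv, show ρ 8 * (ρ 8 * b * ρ 8) * ρ 8 = ρ 8 * ρ 8 * b * (ρ 8 * ρ 8) by group, D.uu,
      one_mul, mul_one]
  have hna : ¬ Fix ρ a := fun h => hb1 (D.eq_one_of_fix hfb h (by decide : Odd 3) hb3)
  have hfa2 : Fix ρ (ρ 8 * a * (ρ 8)⁻¹) := by rwa [hua]
  -- the two elements commute
  have hconjfix : ∀ {g h : G}, g ∈ centralizer ({ρ 4} : Set G) → g ^ 3 = 1 → Fix ρ h →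
      Fix ρ (g * h * g⁻¹) := by
    intro g h hg hg3 hh c hc
    obtain ⟨d, hd, e⟩ := D.maps_one (inv_mem hg) (by decide : Odd 3) (by rw [inv_pow, hg3, inv_one]) c hc
    calc g * h * g⁻¹ * ρ c * (g * h * g⁻¹)⁻¹ = g * (h * (g⁻¹ * ρ c * g⁻¹⁻¹) * h⁻¹) * g⁻¹ := by group
      _ = g * (g⁻¹ * ρ c * g⁻¹⁻¹) * g⁻¹ := by rw [e, hh d hd]
      _ = ρ c := by group
  have hfmul : ∀ {g h : G}, Fix ρ g → Fix ρ h → Fix ρ (g * h⁻¹) := by
    intro g h hg hh c hc
    have h1 : h⁻¹ * ρ c * h = ρ c := by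
      conv_lhs => rw [← hh c hc]
      group
    rw [show g * h⁻¹ * ρ c * (g * h⁻¹)⁻¹ = g * (h⁻¹ * ρ c * h) * g⁻¹ by group, h1, hg c hc]
  have hcomm : Commute a b := by
    have h1 : Fix ρ (a * b * a⁻¹ * b⁻¹) := hfmul (hconjfix ha ha3 hfb) hfb
    have h2 : Fix ρ (ρ 8 * (a * b * a⁻¹ * b⁻¹) * (ρ 8)⁻¹) := by
      have hab : ρ 8 * (a * b * a⁻¹ * b⁻¹) * (ρ 8)⁻¹ = b * (a * b⁻¹ * a⁻¹) := by
        calc ρ 8 * (a * b * a⁻¹ * b⁻¹) * (ρ 8)⁻¹ = ρ 8 * a * (ρ 8)⁻¹ * (ρ 8 * b * (ρ 8)⁻¹) *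
              (ρ 8 * a * (ρ 8)⁻¹)⁻¹ * (ρ 8 * b * (ρ 8)⁻¹)⁻¹ := by group
          _ = b * a * b⁻¹ * a⁻¹ := by rw [hua]
          _ = _ := by group
      rw [hab, show b * (a * b⁻¹ * a⁻¹) = b * (a * b * a⁻¹)⁻¹ by group]
      exact hfmul hfb (hconjfix ha ha3 hfb)
    rcases D.eq_one_or_z h1 h2 with e | e
    · exact mul_inv_eq_iff_eq_mul.1 (mul_inv_eq_one.1 e)
    · exfalso
      have h3 : (a * b * a⁻¹) ^ 3 = 1 := by rw [conj_pow, hb3, mul_one, mul_inv_cancel]
      rw [show a * b * a⁻¹ = ρ 4 * b by rw [← e]; group, (D.z_comm hb).symm.mul_pow, hb3, mul_one,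
        pow_succ, pow_two, D.zz, one_mul] at h3
      exact D.z_ne h3
  -- generators of the quaternion group
  have hzx : ∀ g, a * (g * ρ 4) * a⁻¹ = a * g * a⁻¹ * ρ 4 := fun g => by
    rw [show a * (g * ρ 4) * a⁻¹ = a * g * a⁻¹ * (a * ρ 4 * a⁻¹) by group, (D.z_comm ha).eq, mul_inv_cancel_right]
  have hm := D.maps_one ha (by decide : Odd 3) ha3
  have hne : ∀ c ∈ q1L, c ≠ 0 → c ≠ 4 → ∀ d ∈ q1L, a * ρ c * a⁻¹ = ρ d → mul c d ≠ mul d c := by
    intro c hc c0 c4 d hd e hcd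
    refine hna ?_
    rcases quat_line c hc c0 c4 d hd hcd with h | h | h | h <;> rw [h] at e
    · rw [D.F.zero] at e
      exact absurd ((D.F.eq_one (D.q1s hc)).1 (_root_.conj_eq_one_iff.1 e)) c0
    · refine absurd (D.F.inj c (D.q1s hc) 4 D.four_s ((MulAut.conj a).injective ?_)) c4
      simp only [MulAut.conj_apply]
      rw [e, (D.z_comm ha).eq, mul_inv_cancel_right]
    · exact D.fix_of_point ha ha3 hc c0 c4 (Or.inl e)
    · exact D.fix_of_point ha ha3 hc c0 c4 (Or.inr (by rw [e, D.F.mul_eq c (D.q1s hc) 4 D.four_s]))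
  obtain ⟨c, hc, d, hd, c0, c4, hcd, e1, e2⟩ : ∃ c ∈ q1L, ∃ d ∈ q1L, c ≠ 0 ∧ c ≠ 4 ∧ mul c d ≠ mul d c ∧
      a * ρ c * a⁻¹ = ρ d ∧ a * ρ d * a⁻¹ = ρ (mul c d) := by
    have h17 : 17 ∈ q1L := by decide
    obtain ⟨d, hd, e1⟩ := hm 17 h17
    obtain ⟨g, hg, e2⟩ := hm d hd
    have n1 := hne 17 h17 (by norm_num) (by norm_num) d hd e1
    have d0 : d ≠ 0 ∧ d ≠ 4 := by
      constructor <;> rintro rfl <;> exact n1 (by decide +kernel)
    have n2 := hne d hd d0.1 d0.2 g hg e2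
    have n3 : mul 17 g ≠ mul g 17 := fun h => by
      have h1 := (D.F.comm (D.q1s h17) (D.q1s hg)).2 h
      -- `a` moves `g` to `17`
      have e3 : a * ρ g * a⁻¹ = ρ 17 := by
        rw [← e2, ← e1, show a * (a * (a * ρ 17 * a⁻¹) * a⁻¹) * a⁻¹ = a ^ 3 * ρ 17 * (a ^ 3)⁻¹ by
          simp only [pow_succ, pow_zero, one_mul, mul_inv_rev, mul_assoc], ha3, one_mul, inv_one, mul_one]
      have g0 : g ≠ 0 ∧ g ≠ 4 := by
        constructor <;> rintro rfl <;> exact n2 ((show ∀ d ∈ q1L, mul d 0 = mul 0 d ∧ mul d 4 = mul 4 d by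
          decide +kernel) d hd |> fun h => by first | exact h.1 | exact h.2)
      exact hne g hg g0.1 g0.2 17 h17 e3 ((D.F.comm (D.q1s hg) (D.q1s h17)).1 h1.symm)
    rcases quat_third 17 h17 d hd g hg n1 n3 n2 with rfl | rfl
    · exact ⟨17, h17, d, hd, by norm_num, by norm_num, n1, e1, e2⟩
    · refine ⟨mul 17 4, by decide +kernel, mul d 4, quat_facts.2.2.1 d hd 4 quat_mul4.2.2.1, by decide +kernel,
        by decide +kernel, ?_, ?_, ?_⟩
      · exact (show ∀ d ∈ q1L, mul 17 d ≠ mul d 17 → mul (mul 17 4) (mul d 4) ≠ mul (mul d 4) (mul 17 4) by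
          decide +kernel) d hd n1
      · rw [D.F.mul_eq 17 (D.q1s h17) 4 D.four_s, D.F.mul_eq d (D.q1s hd) 4 D.four_s, hzx, e1]
      · rw [D.F.mul_eq d (D.q1s hd) 4 D.four_s, hzx, e2, ← D.F.mul_eq _ (closed _ (D.q1s hd) _ (D.q1s h17)) 4 D.four_s]
        exact congrArg ρ ((show ∀ d ∈ q1L, mul 17 d ≠ mul d 17 →
          mul (mul d 17) 4 = mul (mul 17 4) (mul d 4) by decide +kernel) d hd n1)
  set C := centralizer ({ρ 4} : Set G) with hC
  let i : ↥C := ⟨ρ c, D.q1_mem hc⟩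
  let j : ↥C := ⟨ρ d, D.q1_mem hd⟩
  let a' : ↥C := ⟨a, ha⟩
  have hcs := D.q1s hc
  have hds := D.q1s hd
  have hsq : ∀ c ∈ q1L, c ≠ 0 → c ≠ 4 → ρ c * ρ c = ρ 4 := fun c hc c0 c4 => by
    rw [← D.F.mul_eq c (D.q1s hc) c (D.q1s hc),
      ((quat_facts.2.2.2.2.2.2.2.2 c hc).resolve_left c0).resolve_left c4]
  have d04 : d ≠ 0 ∧ d ≠ 4 := by
    constructor <;> rintro rfl <;> exact hcd ((show ∀ c ∈ q1L, mul c 0 = mul 0 c ∧ mul c 4 = mul 4 c by
      decide +kernel) c hc |> fun h => by first | exact h.1 | exact h.2)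
  have hi4 : i ^ 4 = 1 := Subtype.ext (by
    show ρ c ^ 4 = 1
    rw [show (4 : ℕ) = 2 * 2 from rfl, pow_mul, pow_two (ρ c), hsq c hc c0 c4, pow_two, D.zz])
  have hjj : j * j = i * i := Subtype.ext (by
    show ρ d * ρ d = ρ c * ρ c
    rw [hsq d hd d04.1 d04.2, hsq c hc c0 c4])
  have hji : j * i = i ^ 3 * j := Subtype.ext (by
    show ρ d * ρ c = ρ c ^ 3 * ρ d
    rw [pow_succ, pow_two, ← D.F.mul_eq c hcs c hcs, ← D.F.mul_eq _ (closed c hcs c hcs) c hcs,
      ← D.F.mul_eq _ (closed _ (closed c hcs c hcs) c hcs) d hds, ← D.F.mul_eq d hds c hcs]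
    exact congrArg ρ ((show ∀ c ∈ q1L, ∀ d ∈ q1L, mul c d ≠ mul d c → mul d c = mul (mul (mul c c) c) d by
      decide +kernel) c hc d hd hcd))
  obtain ⟨φ, hφ, hneg⟩ := exists_sl_hom (i := i) (j := j) (a := a') hi4 hjj hji (Subtype.ext ha3)
    (Subtype.ext e1) (Subtype.ext (by show a * ρ d * a⁻¹ = ρ c * ρ d; rw [e2, D.F.mul_eq c hcs d hds]))
  let uC : ↥C := ⟨ρ 8, D.u_mem⟩
  have huC : uC * uC = 1 := Subtype.ext D.uu
  refine ⟨φ, uC, ?_⟩
  have hzc : (⟨ρ 4, mem_centralizer_singleton_iff.2 rfl⟩ : ↥C) ∈ center ↥C :=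
    mem_center_iff.2 fun g => Subtype.ext (D.z_comm g.2).eq
  -- the range is made of the generators
  set K := closure ({i, j, a'} : Set ↥C) with hKdef
  have hrange : ∀ g : SL3, φ g ∈ K := fun g => by
    obtain ⟨n, rfl⟩ := nev_bijective.2 g
    rw [hφ]
    exact mul_mem (mul_mem (pow_mem (subset_closure (by simp)) _) (pow_mem (subset_closure (by simp)) _))
      (pow_mem (subset_closure (by simp)) _)
  have hcomm' : ∀ g h : SL3, φ g * (uC * φ h * uC) = uC * φ h * uC * φ g := by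
    have hfa : ∀ y ∈ q2L, Commute a (ρ y) := fun y hy =>
      mul_inv_eq_iff_eq_mul.1 (D.fix_two hfa2 hy)
    have hgen : ∀ g ∈ ({i, j, a'} : Set ↥C), ∀ h ∈ ({i, j, a'} : Set ↥C), Commute g (uC * h * uC) := by
      have hq : ∀ y ∈ q1L, ∃ y' ∈ q2L, ρ 8 * ρ y * ρ 8 = ρ y' := fun y hy => by
        obtain ⟨y', hy', e⟩ := D.u_swap1 y hy
        exact ⟨y', hy', by rwa [D.u_inv] at e⟩
      have hub : ρ 8 * a * ρ 8 = b := by rwa [D.u_inv] at hua
      have cQ : ∀ y ∈ q1L, ∀ y' ∈ q2L, Commute (ρ y) (ρ y') := fun y hy y' hy' =>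
        (D.F.comm (D.q1s hy) (D.q2s hy')).2 (quat_facts.2.2.2.2.1 y hy y' hy')
      have hbq : ∀ y ∈ q1L, Commute (ρ y) b := fun y hy =>
        (show Commute b (ρ y) from mul_inv_eq_iff_eq_mul.1 (hfb y hy)).symm
      intro g hg h hh
      refine Subtype.ext ?_
      show (g : G) * (ρ 8 * (h : G) * ρ 8) = ρ 8 * (h : G) * ρ 8 * (g : G)
      simp only [Set.mem_insert_iff, Set.mem_singleton_iff] at hg hh
      rcases hg with rfl | rfl | rfl <;> rcases hh with rfl | rfl | rfl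
      · obtain ⟨y', hy', e⟩ := hq c hc; show ρ c * _ = _; rw [e]; exact (cQ c hc y' hy').eq
      · obtain ⟨y', hy', e⟩ := hq d hd; show ρ c * _ = _; rw [e]; exact (cQ c hc y' hy').eq
      · show ρ c * (ρ 8 * a * ρ 8) = ρ 8 * a * ρ 8 * ρ c; rw [hub]; exact (hbq c hc).eq
      · obtain ⟨y', hy', e⟩ := hq c hc; show ρ d * _ = _; rw [e]; exact (cQ d hd y' hy').eq
      · obtain ⟨y', hy', e⟩ := hq d hd; show ρ d * _ = _; rw [e]; exact (cQ d hd y' hy').eq
      · show ρ d * (ρ 8 * a * ρ 8) = ρ 8 * a * ρ 8 * ρ d; rw [hub]; exact (hbq d hd).eq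
      · obtain ⟨y', hy', e⟩ := hq c hc; show a * _ = _; rw [e]; exact (hfa y' hy').eq
      · obtain ⟨y', hy', e⟩ := hq d hd; show a * _ = _; rw [e]; exact (hfa y' hy').eq
      · show a * (ρ 8 * a * ρ 8) = ρ 8 * a * ρ 8 * a; rw [hub]; exact hcomm.eq
    intro g h
    have h1 : ∀ g ∈ ({i, j, a'} : Set ↥C), ∀ k ∈ K, Commute g (uC * k * uC) := by
      intro g hg k hk
      induction hk using Subgroup.closure_induction with
      | mem y hy => exact hgen g hg y hy
      | one => rw [mul_one, huC]; exact Commute.one_right g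
      | mul y w _ _ hy hw =>
        have := hy.mul_right hw
        rwa [show uC * y * uC * (uC * w * uC) = uC * y * (uC * uC) * w * uC by group, huC, mul_one,
          show uC * y * w * uC = uC * (y * w) * uC by group] at this
      | inv y _ hy =>
        have := hy.inv_right
        rwa [mul_inv_rev, mul_inv_rev, inv_eq_of_mul_eq_one_right huC, ← mul_assoc] at this
    have h2 : ∀ k ∈ K, Commute k (uC * φ h * uC) := by
      intro k hk
      induction hk using Subgroup.closure_induction with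
      | mem y hy => exact h1 y hy _ (hrange h)
      | one => exact Commute.one_left _
      | mul y w _ _ hy hw => exact hy.mul_left hw
      | inv y _ hy => exact hy.inv_left
    exact (h2 _ (hrange g)).eq
  have hneg' : φ negOne = ⟨ρ 4, mem_centralizer_singleton_iff.2 rfl⟩ :=
    hneg.trans (Subtype.ext (hsq c hc c0 c4))
  have hinj : Function.Injective φ := by
    refine (injective_iff_map_eq_one φ).2 fun g hg => ?_
    obtain ⟨⟨⟨p, q⟩, r⟩, rfl⟩ := nev_bijective.2 g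
    rw [hφ] at hg
    have hg' : ρ c ^ (p : ℕ) * ρ d ^ (q : ℕ) * a ^ (r : ℕ) = 1 := congrArg Subtype.val hg
    have hpow : ∀ y ∈ q1L, ∀ n : ℕ, ∃ w ∈ q1L, ρ y ^ n = ρ w := fun y hy n => by
      induction n with
      | zero => exact ⟨0, by decide, by rw [pow_zero, D.F.zero]⟩
      | succ n ih =>
        obtain ⟨w, hw, e⟩ := ih
        exact ⟨mul w y, quat_facts.2.2.1 w hw y hy, by rw [pow_succ, e, D.F.mul_eq w (D.q1s hw) y (D.q1s hy)]⟩
    obtain ⟨w1, hw1, f1⟩ := hpow c hc p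
    obtain ⟨w2, hw2, f2⟩ := hpow d hd q
    have hr : a ^ (r : ℕ) = 1 := by
      have hQ : a ^ (r : ℕ) = (ρ (mul w1 w2))⁻¹ := by
        rw [D.F.mul_eq w1 (D.q1s hw1) w2 (D.q1s hw2), ← f1, ← f2]
        exact eq_inv_of_mul_eq_one_right hg'
      have hwQ := quat_facts.1 _ (quat_facts.2.2.1 w1 hw1 w2 hw2)
      have h4 : (ρ (mul w1 w2))⁻¹ ^ 4 = 1 := by
        rw [inv_pow, inv_eq_one, show (4 : ℕ) = 2 * 2 from rfl, pow_mul, pow_two (ρ _),
          ← D.F.mul_eq _ (D.qs hwQ) _ (D.qs hwQ), pow_two,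
          ← D.F.mul_eq _ (closed _ (D.qs hwQ) _ (D.qs hwQ)) _ (closed _ (D.qs hwQ) _ (D.qs hwQ)),
          D.F.eq_one (closed _ (closed _ (D.qs hwQ) _ (D.qs hwQ)) _ (closed _ (D.qs hwQ) _ (D.qs hwQ)))]
        exact (show ∀ w ∈ qL, mul (mul w w) (mul w w) = 0 by decide +kernel) _ hwQ
      rw [← hQ, ← pow_mul, mul_comm (r : ℕ), pow_mul, show a ^ 4 = a by rw [pow_succ, ha3, one_mul]] at h4
      exact h4
    have hr0 : (r : ℕ) = 0 := by
      by_contra h
      refine hna ?_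
      have ho : orderOf a ∣ (r : ℕ) := orderOf_dvd_of_pow_eq_one hr
      rw [orderOf_eq_prime ha3 ha1] at ho
      have := Nat.le_of_dvd (Nat.pos_of_ne_zero h) ho
      omega
    have hr' : r = 0 := Fin.ext hr0
    rw [hr, mul_one] at hg'
    -- only the trivial exponents
    have hpq : p = 0 ∧ q = 0 := by
      have e4 : ρ c ^ 4 = 1 := congrArg Subtype.val hi4
      have ec2 : ρ c ^ 2 = ρ 4 := by rw [pow_two, hsq c hc c0 c4]
      fin_cases q
      · refine ⟨?_, rfl⟩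
        rw [pow_zero, mul_one] at hg'
        fin_cases p
        · rfl
        · exact absurd ((D.F.eq_one hcs).1 (by simpa using hg')) c0
        · exact absurd (ec2.symm.trans hg') D.z_ne
        · exfalso
          have h3 : ρ c ^ 3 = 1 := hg'
          rw [pow_succ, h3, one_mul] at e4
          exact c0 ((D.F.eq_one hcs).1 e4)
      · exfalso
        have h1 : ρ d = (ρ c ^ (p : ℕ))⁻¹ := eq_inv_of_mul_eq_one_right (by simpa using hg')
        exact hcd ((D.F.comm hcs hds).1 (by rw [h1]; exact ((Commute.refl _).pow_right _).inv_right.eq))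
    obtain ⟨rfl, rfl⟩ := hpq
    subst hr'
    simp [nev]
  have hgen : closure (Set.range φ ∪ {uC}) = ⊤ := by
    set T := closure (Set.range φ ∪ {uC}) with hT
    have hu : uC ∈ T := subset_closure (Or.inr rfl)
    have hφT : ∀ g, φ g ∈ T := fun g => subset_closure (Or.inl ⟨g, rfl⟩)
    have hq1 : ∀ y, ∀ hy : y ∈ q1L, (⟨ρ y, D.q1_mem hy⟩ : ↥C) ∈ T := by
      intro y hy
      have hiT : i ∈ T := by
        have := hφT (nev ((1, 0), 0))
        rw [hφ] at this
        simpa [qev] using this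
      have hjT : j ∈ T := by
        have := hφT (nev ((0, 1), 0))
        rw [hφ] at this
        simpa [qev] using this
      obtain ⟨p, hp, q, hq, hy'⟩ := (show ∀ c ∈ q1L, ∀ d ∈ q1L, mul c d ≠ mul d c → ∀ y ∈ q1L,
          ∃ p ∈ ([0, c, mul c c, mul (mul c c) c] : List ℕ), ∃ q ∈ ([0, d] : List ℕ), y = mul p q by
        decide +kernel) c hc d hd hcd y hy
      have hmem : ∀ w, w ∈ ([0, c, mul c c, mul (mul c c) c] : List ℕ) ∨ w ∈ ([0, d] : List ℕ) →
          w ∈ sL ∧ ∀ hw : ρ w ∈ C, (⟨ρ w, hw⟩ : ↥C) ∈ T := by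
        intro w hw
        simp only [List.mem_cons, List.not_mem_nil, or_false] at hw
        rcases hw with (rfl | rfl | rfl | rfl) | (rfl | rfl)
        · exact ⟨zero_sL, fun _ => by convert one_mem T using 1; exact Subtype.ext D.F.zero⟩
        · exact ⟨hcs, fun _ => hiT⟩
        · exact ⟨closed _ hcs _ hcs, fun _ => by
            convert mul_mem hiT hiT using 1; exact Subtype.ext (D.F.mul_eq _ hcs _ hcs)⟩
        · exact ⟨closed _ (closed _ hcs _ hcs) _ hcs, fun _ => by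
            convert mul_mem (mul_mem hiT hiT) hiT using 1
            refine Subtype.ext ?_
            show ρ (mul (mul c c) c) = ρ c * ρ c * ρ c
            rw [D.F.mul_eq _ (closed _ hcs _ hcs) _ hcs, D.F.mul_eq _ hcs _ hcs]⟩
        · exact ⟨zero_sL, fun _ => by convert one_mem T using 1; exact Subtype.ext D.F.zero⟩
        · exact ⟨hds, fun _ => hjT⟩
      obtain ⟨hps, hpT⟩ := hmem p (Or.inl hp)
      obtain ⟨hqs, hqT⟩ := hmem q (Or.inr hq)
      convert mul_mem (hpT (D.s_mem hps)) (hqT (D.s_mem hqs)) using 1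
      refine Subtype.ext ?_
      show ρ y = ρ p * ρ q
      rw [hy', D.F.mul_eq p hps q hqs]
    have hS : ∀ y, ∀ hy : y ∈ sL, (⟨ρ y, D.s_mem hy⟩ : ↥C) ∈ T := by
      have hQ : ∀ y, ∀ hy : y ∈ qL, (⟨ρ y, D.s_mem (D.qs hy)⟩ : ↥C) ∈ T := by
        intro y hy
        obtain ⟨p, hp, q, hq, rfl⟩ := quat_products.1 y hy
        obtain ⟨q', hq', e⟩ := D.u_swap2 q hq
        convert mul_mem (hq1 p hp) (mul_mem (mul_mem hu (hq1 q' hq')) hu) using 1
        refine Subtype.ext ?_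
        show ρ (mul p q) = ρ p * (ρ 8 * ρ q' * ρ 8)
        rw [← e, D.F.mul_eq p (D.q1s hp) q (D.q2s hq), D.u_inv,
          show ρ 8 * (ρ 8 * ρ q * ρ 8) * ρ 8 = ρ 8 * ρ 8 * ρ q * (ρ 8 * ρ 8) by group, D.uu, one_mul, mul_one]
      intro y hy
      rcases quat_products.2.2 y hy with h | h
      · exact hQ y h
      · convert mul_mem (hQ _ h) hu using 1
        refine Subtype.ext ?_
        show ρ y = ρ (mul y 8) * ρ 8
        rw [D.F.mul_eq y hy 8 D.eight_s, mul_assoc, D.uu, mul_one]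
    have ha'T : a' ∈ T := by
      have := hφT (nev ((0, 0), 1))
      rw [hφ] at this
      simpa [qev] using this
    let b' : ↥C := ⟨b, hb⟩
    have hb'T : b' ∈ T := by
      convert mul_mem (mul_mem hu ha'T) hu using 1
      exact Subtype.ext (by show b = ρ 8 * a * ρ 8; rwa [D.u_inv, eq_comm] at hua)
    have hle : Nat.card ↥C ≤ Nat.card ↥T := by
      refine Nat.le_of_dvd Nat.card_pos ?_
      rw [h576, show (576 : ℕ) = 64 * 9 by norm_num]
      refine (show Nat.Coprime 64 9 by norm_num).mul_dvd_of_dvd_of_dvd ?_ ?_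
      · have hSC : S ≤ C := fun s hs => by
          obtain ⟨y, hy, rfl⟩ := D.F.surj s hs
          exact D.s_mem hy
        rw [← D.F.card_eq, ← Nat.card_congr (subgroupOfEquivOfLe hSC).toEquiv]
        refine card_dvd_of_le ?_
        rintro ⟨s, hsC⟩ hs
        obtain ⟨y, hy, e⟩ := D.F.surj s (mem_subgroupOf.1 hs)
        convert hS y hy using 1
        exact Subtype.ext e.symm
      · let ν : ↥(zpowers a') × ↥(zpowers b') →* ↥C :=
          MonoidHom.noncommCoprod (zpowers a').subtype (zpowers b').subtype fun p q => by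
            obtain ⟨m, hm⟩ := mem_zpowers_iff.1 p.2
            obtain ⟨n, hn⟩ := mem_zpowers_iff.1 q.2
            show Commute (p : ↥C) (q : ↥C)
            rw [← hm, ← hn]
            exact ((show Commute a' b' from Subtype.ext hcomm.eq).zpow_left m).zpow_right n
        have ho : ∀ w : ↥C, (w : G) ^ 3 = 1 → (w : G) ≠ 1 → Nat.card ↥(zpowers w) = 3 := fun w h h' => by
          rw [Nat.card_zpowers]
          exact orderOf_eq_prime (Subtype.ext h) fun e => h' (congrArg Subtype.val e)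
        have hν : Function.Injective ν := by
          refine (injective_iff_map_eq_one ν).2 fun ⟨p, q⟩ h => ?_
          have h' : (p : ↥C) * (q : ↥C) = 1 := h
          have hpb : ((p : ↥C) : G) ∈ zpowers b := by
            rw [eq_inv_of_mul_eq_one_left h']
            obtain ⟨n, hn⟩ := mem_zpowers_iff.1 q.2
            rw [← hn]
            simp only [coe_inv, SubgroupClass.coe_zpow]
            exact inv_mem ⟨n, rfl⟩
          have hp1 : (p : ↥C) = 1 := by
            by_contra hp0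
            refine hna ?_
            have hp0' : ((p : ↥C) : G) ≠ 1 := fun e => hp0 (Subtype.ext e)
            obtain ⟨m, hm⟩ := mem_zpowers_iff.1 p.2
            have hpa : ((p : ↥C) : G) ∈ zpowers a := ⟨m, by rw [← hm]; rfl⟩
            have hab : zpowers a ≤ zpowers b := by
              haveI : Fact (Nat.card ↥(zpowers a)).Prime := ⟨by
                rw [Nat.card_zpowers, orderOf_eq_prime ha3 ha1]
                exact Nat.prime_three⟩
              have := Subgroup.eq_bot_or_eq_top_of_prime_card ((zpowers b).subgroupOf (zpowers a))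
              rcases this with e | e
              · exact absurd (congrArg Subtype.val ((Subgroup.eq_bot_iff_forall _).1 e ⟨_, hpa⟩ (mem_subgroupOf.2 hpb))) hp0'
              · exact subgroupOf_eq_top.1 e
            obtain ⟨n, hn⟩ := mem_zpowers_iff.1 (hab (mem_zpowers a))
            intro y hy
            rw [← hn]
            exact mul_inv_eq_iff_eq_mul.2 ((show Commute b (ρ y) from mul_inv_eq_iff_eq_mul.1 (hfb y hy)).zpow_left n).eq
          rw [hp1, one_mul] at h'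
          exact Prod.ext (Subtype.ext hp1) (Subtype.ext h')
        have h9 : Nat.card ↥ν.range = 9 := by
          rw [← Nat.card_congr (MonoidHom.ofInjective hν).toEquiv, Nat.card_prod,
            ho a' ha3 ha1, ho b' hb3 hb1]
        rw [← h9]
        refine card_dvd_of_le ?_
        rintro _ ⟨⟨p, q⟩, rfl⟩
        exact mul_mem (zpowers_le.2 ha'T p.2) (zpowers_le.2 hb'T q.2)
    exact eq_top_of_le_card _ hle
  exact ⟨hinj, hneg', hzc, huC, hcomm', hgen, h576⟩

end Cen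

/-- A centraliser of order 576 forces `PSp₄(3)`. -/
theorem psp_of_576 [Finite G] {S : Subgroup G} {ρ : ℕ → G} (D : Cen S ρ)
    (hO2 : Cfsg.pResidual 2 G = ⊤) (h576 : Nat.card (centralizer ({ρ 4} : Set G)) = 576) :
    ∃ (K : Type) (_ : Field K) (_ : Fintype K), Fintype.card K = 3 ∧ Nonempty (G ≃* Cfsg.PSp 2 K) := by
  haveI : Fact (Nat.Prime 3) := ⟨Nat.prime_three⟩
  refine ⟨ZMod 3, inferInstance, inferInstance, ZMod.card 3, ?_⟩
  obtain ⟨U, t₀, h0, hU, hc, hiso⟩ := PSpAmalgam.exists_model (ZMod 3) (ZMod.card 3)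
  obtain ⟨φ, u, hD⟩ := D.doubleSL h576
  obtain ⟨e⟩ := hiso _ _ φ u hD
  have hz : orderOf (ρ 4) = 2 := D.F.orderOf_two D.four_s quat_mul4.2.1 (by norm_num)
  refine S3221.result ?_ (no_index_two hO2) (ZMod.card 3) U t₀ h0 hU hc (ρ 4) hz e
  exact even_iff_two_dvd.2 (hz ▸ orderOf_dvd_natCard (ρ 4))

end Cfsg.Agent.A8Type.Landing
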