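import Cfsg.Agent.Lib.A8Type.LandingAlt
import Cfsg.Agent.Lib.A8Type.LandingPSp

/-!
The group from the centraliser of the central involution.
-/

set_option autoImplicit false

namespace Cfsg.Agent.A8Type

open Subgroup

/-- The endgame: the centraliser of `ρ 4` has order 192 or 576. -/
theorem landing {G : Type*} [Group G] [Finite G] {S : Sylow 2 G} {ρ : ℕ → G} (F : Syl (S : Subgroup G) ρ)
    (hO2 : Cfsg.pResidual 2 G = ⊤) (hcore2 : Cfsg.pCore 2 G = ⊥)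
    (hQn : ∀ c ∈ Subgroup.centralizer ({ρ 4} : Set G), ∀ q ∈ subQ ρ, c * q * c⁻¹ ∈ subQ ρ)
    (hself : Subgroup.centralizer (subQ ρ : Set G) ≤ subQ ρ)
    (hcard : Nat.card (Subgroup.centralizer ({ρ 4} : Set G)) = 192 ∨
      Nat.card (Subgroup.centralizer ({ρ 4} : Set G)) = 576)
    (hnS : Nat.card (Subgroup.centralizer ({ρ 4} : Set G)) = 192 →
      ∃ c ∈ Subgroup.centralizer ({ρ 4} : Set G), ∃ s ∈ (S : Subgroup G), c * s * c⁻¹ ∉ (S : Subgroup G))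
    (hnwc : Nat.card (Subgroup.centralizer ({ρ 4} : Set G)) = 192 →
      ∃ g : G, g * ρ 4 * g⁻¹ ∈ subQ ρ ∧ g * ρ 4 * g⁻¹ ≠ ρ 4) :
    Nonempty (G ≃* ↥(alternatingGroup (Fin 8))) ∨ Nonempty (G ≃* ↥(alternatingGroup (Fin 9))) ∨
      (∃ (K : Type) (_ : Field K) (_ : Fintype K), Fintype.card K = 3 ∧ Nonempty (G ≃* Cfsg.PSp 2 K)) := by
  rcases hcard with h | h
  · exact (Landing.alt_of_192 ⟨F, hQn, hself⟩ hcore2 h (hnS h) (hnwc h)).imp_right Or.inl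
  · exact Or.inr (Or.inr (Landing.psp_of_576 ⟨F, hQn, hself⟩ hO2 h))

end Cfsg.Agent.A8Type
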