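import Cfsg.Agent.Lib.A8Type.LandingQuat
import Cfsg.Agent.Lib.JComp.Pair
import Cfsg.Agent.Lib.LargeExtra.Affine
import Cfsg.Agent.Lib.PLocal.Cores
import Cfsg.Agent.S3344

/-!
A centraliser of order 192 with the Sylow subgroup not normal in it forces degree eight or nine.
-/

set_option autoImplicit false
set_option linter.style.haveILetI false
set_option linter.unusedSectionVars false

namespace Cfsg.Agent.A8Type.Landing

open Subgroup
open Cfsg.Agent.A8Type.Model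

/-- Codes of involutions of the second model. -/
def invB0 : List ℕ := (List.range 192).filter (ExtraThirtyTwo.isInv .B0)

/-- No four independent commuting involutions. -/
theorem no_rank_four : (invB0.all fun a =>
    let cA := invB0.filter (fun b => b != a && ExtraThirtyTwo.comm .B0 a b)
    cA.all fun b =>
      let ab := ExtraThirtyTwo.mul .B0 a b
      let cB := cA.filter (fun c => c != b && c != ab && ExtraThirtyTwo.comm .B0 b c)
      cB.all fun c =>
        let ac := ExtraThirtyTwo.mul .B0 a c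
        let bc := ExtraThirtyTwo.mul .B0 b c
        let abc := ExtraThirtyTwo.mul .B0 ab c
        cB.all fun d =>
          d == c || d == ac || d == bc || d == abc || !(ExtraThirtyTwo.comm .B0 c d)) = true := by
  decide +kernel

variable {G : Type*} [Group G]

namespace Cen

variable {S : Subgroup G} {ρ : ℕ → G} (D : Cen S ρ)
include D

/-- Conjugation by the core is trivial modulo `⟨z⟩`. -/
theorem fix_mul_core {g h q : G} (hg : g ∈ centralizer ({ρ 4} : Set G)) (hg3 : g ^ 3 = 1) (hh : Fix ρ h)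
    (hq : q ∈ subQ ρ) (he : g = h * q) (hhz : Commute h (ρ 4)) : Fix ρ g := by
  obtain ⟨c, hc, rfl⟩ := D.F.mem_Q.1 hq
  have h17 : 17 ∈ q1L := by decide
  refine D.fix_of_point hg hg3 h17 (by norm_num) (by norm_num) ?_
  have e : g * ρ 17 * g⁻¹ = h * ρ (cj c 17) * h⁻¹ := by
    rw [D.F.cj_eq (D.qs hc) (D.q1s h17), he]; group
  rcases (show ∀ c ∈ qL, cj c 17 = 17 ∨ cj c 17 = mul 17 4 by decide +kernel) c hc with e' | e' <;>
    rw [e'] at e
  · exact Or.inl (e.trans (hh 17 h17))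
  · right
    rw [e, D.F.mul_eq 17 (D.q1s h17) 4 D.four_s,
      show h * (ρ 17 * ρ 4) * h⁻¹ = h * ρ 17 * h⁻¹ * (h * ρ 4 * h⁻¹) by group, hh 17 h17, hhz.eq,
      mul_inv_cancel_right]

end Cen

theorem perm_three_cubes : ∀ σ τ : Equiv.Perm (Fin 3), σ ^ 3 = 1 → τ ^ 3 = 1 → σ ≠ 1 → τ ≠ 1 →
    τ = σ ∨ τ = σ⁻¹ := by
  decide +kernel

theorem fix_inv {ρ : ℕ → G} {h : G} (hh : Fix ρ h) : Fix ρ h⁻¹ := fun a ha => by
  conv_lhs => rw [← hh a ha]
  group

/-- A centraliser of order 192 forces the alternating group of degree eight or nine. -/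
theorem alt_of_192 [Finite G] {S : Subgroup G} {ρ : ℕ → G} (D : Cen S ρ) (hcore2 : Cfsg.pCore 2 G = ⊥)
    (h192 : Nat.card (centralizer ({ρ 4} : Set G)) = 192)
    (hnS : ∃ c ∈ centralizer ({ρ 4} : Set G), ∃ s ∈ S, c * s * c⁻¹ ∉ S)
    (hnwc : ∃ g : G, g * ρ 4 * g⁻¹ ∈ subQ ρ ∧ g * ρ 4 * g⁻¹ ≠ ρ 4) :
    Nonempty (G ≃* ↥(alternatingGroup (Fin 8))) ∨ Nonempty (G ≃* ↥(alternatingGroup (Fin 9))) := by
  classical
  haveI : Fact (Nat.Prime 2) := ⟨Nat.prime_two⟩
  haveI : Fact (Nat.Prime 3) := ⟨Nat.prime_three⟩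
  set L := centralizer ({ρ 4} : Set G) with hL
  have hz : orderOf (ρ 4) = 2 := D.F.orderOf_two D.four_s quat_mul4.2.1 (by norm_num)
  have hSL : S ≤ L := fun s hs => by
    obtain ⟨y, hy, rfl⟩ := D.F.surj s hs
    exact D.s_mem hy
  have hQL : subQ ρ ≤ L := fun x hx => by
    obtain ⟨c, hc, rfl⟩ := D.F.mem_Q.1 hx
    exact D.s_mem (D.qs hc)
  have hQ2 : IsPGroup 2 ↥(subQ ρ) := IsPGroup.of_card (n := 5) (by rw [D.F.card_Q]; norm_num)
  haveI hQn : ((subQ ρ).subgroupOf L).Normal := ⟨fun x hx c => mem_subgroupOf.2 (by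
    rw [coe_mul, coe_mul, coe_inv]
    exact D.hQn c c.2 x (mem_subgroupOf.1 hx))⟩
  have hcardQ : Nat.card ↥((subQ ρ).subgroupOf L) = 32 := by
    rw [Nat.card_congr (subgroupOfEquivOfLe hQL).toEquiv, D.F.card_Q]
  have hQle : (subQ ρ).subgroupOf L ≤ Cfsg.pCore 2 L :=
    PLocal.Cores.le_pCore (hQ2.of_equiv (subgroupOfEquivOfLe hQL).symm)
  have hcardS : Nat.card ↥(S.subgroupOf L) = 64 := by
    rw [Nat.card_congr (subgroupOfEquivOfLe hSL).toEquiv, D.F.card_eq]
  have hfac : (192 : ℕ).factorization 2 = 6 := by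
    rw [show (192 : ℕ) = 2 ^ 6 * 3 by norm_num, Nat.factorization_mul (by norm_num) (by norm_num),
      Finsupp.add_apply, Nat.Prime.factorization_pow Nat.prime_two, Finsupp.single_eq_same,
      Nat.factorization_eq_zero_of_not_dvd (by norm_num : ¬ 2 ∣ 3)]
  let P : Sylow 2 L := Sylow.ofCard (S.subgroupOf L) (by rw [hcardS, h192, hfac]; norm_num)
  have hcoreS : Cfsg.pCore 2 L ≤ S.subgroupOf L := PLocal.Cores.pCore_le_sylow P
  obtain ⟨c₀, hc₀, s₀, hs₀, hns⟩ := hnS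
  have hcore : Cfsg.pCore 2 L = (subQ ρ).subgroupOf L := by
    refine (eq_of_le_of_card_ge hQle ?_).symm
    rw [hcardQ]
    by_contra hlt
    push Not at hlt
    have h1 : Nat.card ↥(Cfsg.pCore 2 L) ∣ 2 ^ 6 := by
      rw [show (2 : ℕ) ^ 6 = 64 by norm_num, ← hcardS]; exact card_dvd_of_le hcoreS
    obtain ⟨k, hk, hke⟩ := (Nat.dvd_prime_pow Nat.prime_two).1 h1
    rw [hke] at hlt
    have h2 : S.subgroupOf L = Cfsg.pCore 2 L := by
      refine (eq_of_le_of_card_ge hcoreS ?_).symm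
      rw [hcardS, hke]
      interval_cases k <;> omega
    haveI : (Cfsg.pCore 2 L).Normal := inferInstance
    have h3 := (inferInstance : (Cfsg.pCore 2 L).Normal).conj_mem _ (h2 ▸ mem_subgroupOf.2 hs₀ :
      (⟨s₀, hSL hs₀⟩ : L) ∈ Cfsg.pCore 2 L) ⟨c₀, hc₀⟩
    rw [← h2, mem_subgroupOf, coe_mul, coe_mul, coe_inv] at h3
    exact hns h3
  have hQmap : subQ ρ = (Cfsg.pCore 2 L).map L.subtype := by
    rw [hcore, subgroupOf_map_subtype, inf_eq_left.2 hQL]
  have hqcard : Nat.card (L ⧸ Cfsg.pCore 2 L) = 6 := by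
    have h := (Cfsg.pCore 2 L).card_eq_card_quotient_mul_card_subgroup
    rw [h192, hcore, hcardQ] at h
    rw [hcore]
    omega
  obtain ⟨e3⟩ := JComp.mul_equiv_perm_three hqcard ⟨((⟨c₀, hc₀⟩ : L) : L ⧸ Cfsg.pCore 2 L),
    ((⟨s₀, hSL hs₀⟩ : L) : L ⧸ Cfsg.pCore 2 L), fun h => by
    have h1 : (((⟨c₀, hc₀⟩ * ⟨s₀, hSL hs₀⟩ : L)) : L ⧸ Cfsg.pCore 2 L) =
        (((⟨s₀, hSL hs₀⟩ * ⟨c₀, hc₀⟩ : L)) : L ⧸ Cfsg.pCore 2 L) := h
    rw [QuotientGroup.eq] at h1
    have h2 := mul_mem (mem_subgroupOf.2 hs₀ : (⟨s₀, hSL hs₀⟩ : L) ∈ S.subgroupOf L) (hcoreS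
      ((inferInstance : (Cfsg.pCore 2 L).Normal).conj_mem _ (inv_mem h1) ⟨c₀, hc₀⟩))
    refine hns ?_
    have h3 := mem_subgroupOf.1 h2
    simp only [coe_mul, coe_inv] at h3
    convert h3 using 1
    group⟩
  have hQex : Cfsg.IsExtraspecial 2 ↥(subQ ρ) := by
    refine LargeExtra.Affine.isExtraspecial_mk hQ2 (D.F.mem_Q.2 ⟨4, by decide, rfl⟩) D.z_ne ?_ ?_ ?_ ?_
    · intro x hx
      exact (D.z_comm (hQL hx)).eq
    · intro x hx
      obtain ⟨c, hc, rfl⟩ := D.F.mem_Q.1 hx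
      rcases (show ∀ c ∈ qL, mul c c = 0 ∨ mul c c = 4 by decide +kernel) c hc with h | h
      · exact Or.inl ((D.F.sq_one (D.qs hc)).2 h)
      · exact Or.inr (by rw [← D.F.mul_eq c (D.qs hc) c (D.qs hc), h])
    · intro x hx hcomm
      obtain ⟨c, hc, rfl⟩ := D.F.mem_Q.1 hx
      rcases (show ∀ c ∈ qL, (∀ d ∈ qL, mul d c = mul c d) → c = 0 ∨ c = 4 by decide +kernel) c hc
          (fun d hd => (D.F.comm (D.qs hd) (D.qs hc)).1 (hcomm _ (D.F.mem_Q.2 ⟨d, hd, rfl⟩))) with e | e <;>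
        rw [e]
      · exact Or.inl D.F.zero
      · exact Or.inr rfl
    · have h17 : (17 : ℕ) ∈ qL := by decide
      have h35 : (35 : ℕ) ∈ qL := by decide
      exact ⟨_, D.F.mem_Q.2 ⟨17, h17, rfl⟩, _, D.F.mem_Q.2 ⟨35, h35, rfl⟩,
        fun h => quat_mul4.2.2.2.2.2.2.1 ((D.F.comm (D.qs h17) (D.qs h35)).1 h.symm)⟩
  obtain ⟨X⟩ : Nonempty (Sylow 3 ↥L) := inferInstance
  have hCQX : subQ ρ ⊓ centralizer (((X : Subgroup L).map L.subtype : Subgroup G) : Set G) = zpowers (ρ 4) := by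
    refine le_antisymm ?_ (zpowers_le.2 (mem_inf.2 ⟨D.F.mem_Q.2 ⟨4, by decide, rfl⟩, ?_⟩))
    · intro q hq
      obtain ⟨hqQ, hqX⟩ := mem_inf.1 hq
      by_cases h1 : q = 1
      · rw [h1]; exact one_mem _
      by_cases hqz : q = ρ 4
      · rw [hqz]; exact mem_zpowers _
      exfalso
      obtain ⟨x, hxX, hx3⟩ : ∃ x ∈ (X : Subgroup L), orderOf x = 3 := by
        have hd : 3 ∣ Nat.card (X : Subgroup L) := X.dvd_card_of_dvd_card (by rw [h192]; norm_num)
        obtain ⟨⟨x, hx⟩, e⟩ := exists_prime_orderOf_dvd_card' 3 hd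
        exact ⟨x, hx, by simpa using e⟩
      have hxc : Commute (x : G) q := mem_centralizer_iff.1 hqX _ ⟨x, hxX, rfl⟩
      have hxp : (x : G) ^ 3 = 1 := by
        rw [← SubmonoidClass.coe_pow, ← hx3, pow_orderOf_eq_one]; rfl
      have hx1 : (x : G) ≠ 1 := fun h => by
        rw [show x = 1 from Subtype.ext h, orderOf_one] at hx3
        norm_num at hx3
      have hy := D.conj_u_mem x.2
      have hy3 := D.conj_u_pow hxp
      set y : L := ⟨ρ 8 * (x : G) * (ρ 8)⁻¹, hy⟩ with hydef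
      let θ : L →* Equiv.Perm (Fin 3) := e3.toMonoidHom.comp (QuotientGroup.mk' _)
      have hker : ∀ g : L, θ g = 1 → (g : G) ∈ subQ ρ := fun g hg => by
        have : (g : L ⧸ Cfsg.pCore 2 L) = 1 := e3.injective (hg.trans (map_one e3).symm)
        rw [QuotientGroup.eq_one_iff, hcore] at this
        exact mem_subgroupOf.1 this
      have hne : ∀ g : L, (g : G) ^ 3 = 1 → (g : G) ≠ 1 → θ g ≠ 1 := fun g hg3 hg1 h => hg1 (by
        have hd : orderOf (g : G) ∣ 2 ^ 5 := by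
          have hm := hker g h
          have := orderOf_dvd_natCard (subQ ρ) hm
          rwa [D.F.card_Q, show (32 : ℕ) = 2 ^ 5 by norm_num] at this
        exact orderOf_eq_one_iff.1 (Nat.eq_one_of_dvd_coprimes (by norm_num : Nat.Coprime (2 ^ 5) 3) hd
          (orderOf_dvd_of_pow_eq_one hg3)))
      have hy1 : (y : G) ≠ 1 := fun h => hx1 (_root_.conj_eq_one_iff.1 h)
      have hcub : ∀ g : L, (g : G) ^ 3 = 1 → θ g ^ 3 = 1 := fun g hg => by
        rw [← map_pow, show g ^ 3 = 1 from Subtype.ext hg, map_one]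
      have hrel := perm_three_cubes (θ x) (θ y) (hcub x hxp) (hcub y hy3) (hne x hxp hx1) (hne y hy3 hy1)
      obtain ⟨hxy, hyx⟩ : (Fix ρ (x : G) → Fix ρ (y : G)) ∧ (Fix ρ (y : G) → Fix ρ (x : G)) := by
        rcases hrel with h | h
        · refine ⟨fun hf => D.fix_mul_core hy hy3 hf (hker (x⁻¹ * y) (by
            rw [map_mul, map_inv, h, inv_mul_cancel])) ?_ (D.z_comm x.2),
            fun hf => D.fix_mul_core x.2 hxp hf (hker (y⁻¹ * x) (by
            rw [map_mul, map_inv, h, inv_mul_cancel])) ?_ (D.z_comm hy)⟩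
          · simp
          · simp
        · refine ⟨fun hf => D.fix_mul_core hy hy3 (fix_inv hf) (hker (x * y) (by
            rw [map_mul, h, mul_inv_cancel])) ?_ (D.z_comm x.2).inv_left,
            fun hf => D.fix_mul_core x.2 hxp (fix_inv hf) (hker (y * x) (by
            rw [map_mul, h, inv_mul_cancel])) ?_ (D.z_comm hy).inv_left⟩
          · simp
          · simp
      rcases D.fix_cases x.2 hxp hqQ hxc h1 hqz with h | h
      · exact hx1 (D.eq_one_of_fix h (hxy h) (by decide : Odd 3) hxp)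
      · exact hx1 (D.eq_one_of_fix (hyx h) h (by decide : Odd 3) hxp)
    · rw [mem_centralizer_iff]
      rintro _ ⟨t, -, rfl⟩
      exact mem_centralizer_singleton_iff.1 t.2
  -- the recognition
  obtain ⟨x, t, e', C⟩ := ExtraThirtyTwo.exists_core (ρ 4) hz L rfl (subQ ρ) hQmap hQex D.F.card_Q e3 X hCQX
  obtain ⟨g, hgQ, hgs⟩ := hnwc
  have ha : orderOf (g * ρ 4 * g⁻¹) = 2 := by rw [Involutions.Basic.orderOf_conj, hz]
  obtain ⟨k, E, hcode⟩ := ExtraThirtyTwo.exists_local C hgQ (Involutions.Basic.inv_sq_one ha)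
    (Involutions.Basic.ne_one ha) hgs
  obtain ⟨u, hu, hue⟩ := hcode _ hgQ
  have hu192 : u < 192 := by omega
  have hconj : IsConj (ρ 4) (E.el u) := isConj_iff.2 ⟨g, hue.symm⟩
  have hu1 : u ≠ 1 := fun h => hgs (by rw [← hue, h, E.s_eq])
  have hinv : ExtraThirtyTwo.isInv k u = true := (E.orderOf_two hu192).1 (hue ▸ ha)
  have hnormal : ¬ ∃ (N : Subgroup G) (_ : N.Normal), IsMulCommutative N ∧ (∀ n ∈ N, n ^ 2 = 1) ∧
      Nat.card N = 8 ∧ Nonempty (G ⧸ N ≃* Matrix.ProjectiveSpecialLinearGroup (Fin 3) (ZMod 2)) := by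
    rintro ⟨N, hN, -, -, h8, -⟩
    have h : N ≤ Cfsg.pCore 2 G := PLocal.Cores.le_pCore (IsPGroup.of_card (n := 3) (by rw [h8]; norm_num))
    rw [hcore2, le_bot_iff] at h
    rw [h, card_bot] at h8
    norm_num at h8
  cases k
  case A1 => exact absurd (E.no_odd (Or.inl rfl) (C.Qcent hgQ)) hgs
  case B1 => exact absurd (E.no_odd (Or.inr rfl) (C.Qcent hgQ)) hgs
  case B0 =>
    exfalso
    have hlist : ∀ a ∈ ([2, 4, 8, 16, 6, 10, 12, 14] : List ℕ), a ∈ sL := by decide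
    have hcode' : ∀ a ∈ sL, mul a a = 0 → a ≠ 0 →
        ∃ w, w < 192 ∧ E.el w = ρ a ∧ w ∈ invB0 := by
      intro a ha haa ha0
      obtain ⟨w, hw, e⟩ := (E.mem' (ρ a)).1 (D.s_mem ha)
      exact ⟨w, hw, e, List.mem_filter.2 ⟨List.mem_range.2 hw,
        (E.orderOf_two hw).1 (by rw [e]; exact D.F.orderOf_two ha haa ha0)⟩⟩
    obtain ⟨a, hal, ea, ha'⟩ := hcode' 2 (hlist _ (by simp)) (by decide +kernel) (by norm_num)
    obtain ⟨b, hbl, eb, hb'⟩ := hcode' 4 (hlist _ (by simp)) (by decide +kernel) (by norm_num)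
    obtain ⟨c, hcl, ec, hc'⟩ := hcode' 8 (hlist _ (by simp)) (by decide +kernel) (by norm_num)
    obtain ⟨d, hdl, ed, hd'⟩ := hcode' 16 (hlist _ (by simp)) (by decide +kernel) (by norm_num)
    have hcm : ∀ {w w' p p' : ℕ}, w < 192 → w' < 192 → p ∈ sL → p' ∈ sL → E.el w = ρ p → E.el w' = ρ p' →
        mul p p' = mul p' p → ExtraThirtyTwo.comm .B0 w w' = true := fun hw hw' hp hp' e e' h =>
      (E.commute_iff hw hw').1 (show Commute _ _ by rw [e, e']; exact (D.F.comm hp hp').2 h)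
    have hne : ∀ {w w' p p' : ℕ}, p ∈ sL → p' ∈ sL → E.el w = ρ p → E.el w' = ρ p' → p ≠ p' → w ≠ w' :=
      fun hp hp' e e' h he => h (D.F.inj _ hp _ hp' (by rw [← e, ← e', he]))
    have hmul : ∀ {w w' p p' : ℕ}, w < 192 → w' < 192 → p ∈ sL → p' ∈ sL → E.el w = ρ p → E.el w' = ρ p' →
        E.el (ExtraThirtyTwo.mul .B0 w w') = ρ (mul p p') := fun hw hw' hp hp' e e' => by
      rw [E.el_mul hw hw', e, e', D.F.mul_eq _ hp _ hp']
    have s2 : (2 : ℕ) ∈ sL := by decide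
    have s4 : (4 : ℕ) ∈ sL := by decide
    have s8 : (8 : ℕ) ∈ sL := by decide
    have s16 : (16 : ℕ) ∈ sL := by decide
    have eab := hmul hal hbl s2 s4 ea eb
    have eac := hmul hal hcl s2 s8 ea ec
    have ebc := hmul hbl hcl s4 s8 eb ec
    have eabc := hmul (ExtraThirtyTwo.mul_lt _ _ _) hcl (closed 2 s2 4 s4) s8 eab ec
    have h := List.all_eq_true.1 no_rank_four a ha'
    simp only [List.all_eq_true, List.mem_filter, Bool.and_eq_true, bne_iff_ne, ne_eq, Bool.or_eq_true,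
      beq_iff_eq, Bool.not_eq_true'] at h
    have h' := h b ⟨hb', hne s4 s2 eb ea (by norm_num), hcm hal hbl s2 s4 ea eb (by decide +kernel)⟩
      c ⟨⟨hc', hne s8 s2 ec ea (by norm_num), hcm hal hcl s2 s8 ea ec (by decide +kernel)⟩,
        ⟨hne s8 s4 ec eb (by norm_num), hne s8 (closed 2 s2 4 s4) ec eab (by decide +kernel)⟩,
        hcm hbl hcl s4 s8 eb ec (by decide +kernel)⟩
      d ⟨⟨hd', hne s16 s2 ed ea (by norm_num), hcm hal hdl s2 s16 ea ed (by decide +kernel)⟩,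
        ⟨hne s16 s4 ed eb (by norm_num), hne s16 (closed 2 s2 4 s4) ed eab (by decide +kernel)⟩,
        hcm hbl hdl s4 s16 eb ed (by decide +kernel)⟩
    rcases h' with (((h' | h') | h') | h') | h'
    · exact hne s16 s8 ed ec (by norm_num) h'
    · exact hne s16 (closed 2 s2 8 s8) ed eac (by decide +kernel) h'
    · exact hne s16 (closed 4 s4 8 s8) ed ebc (by decide +kernel) h'
    · exact hne s16 (closed _ (closed 2 s2 4 s4) 8 s8) ed eabc (by decide +kernel) h'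
    · rw [hcm hcl hdl s8 s16 ec ed (by decide +kernel)] at h'
      exact Bool.noConfusion h'
  case A0 =>
    obtain ⟨r, hr, hrc⟩ : ∃ r ∈ [2, 8, 10], u ∈ ExtraThirtyTwo.classL .A0 r :=
      S3344.a0_small u hu hu1 hinv
    have hr192 : r < 192 := by
      simp only [List.mem_cons, List.not_mem_nil, or_false] at hr
      omega
    obtain ⟨E', h2, ⟨h8, h10, h96, h97⟩ | ⟨h8, h10, h96, h97⟩ | ⟨h8, h10, h96, h97⟩⟩ :=
      ExtraThirtyTwo.fusion_patterns E hr (hconj.trans (E.isConj_of_mem_classL hr192 hrc).symm)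
    · exact absurd (E'.case_one h2 h8 h10 h96 h97) hnormal
    · obtain ⟨hclass, hN⟩ := E'.two_classes h2 h8 h10 h96 h97
      obtain ⟨H, hCs, hNH, ⟨eH⟩, hclH⟩ := E'.exists_alt_eight h2 h8 h10 h96 h97
      have hsH : ρ 4 ∈ H := hCs (mem_centralizer_singleton_iff.2 rfl)
      rcases E'.centB_cases h2 h8 h10 h96 h97 hclass hN with ⟨-, hle⟩ | ⟨hK, ψ, hinj, hrange, hb, hst⟩
      · have : IsSimpleGroup (alternatingGroup (Fin 8)) := alternatingGroup.isSimpleGroup (by simp)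
        have : Nontrivial ↥H := ⟨⟨ρ 4, hsH⟩, 1, fun he => D.z_ne (congrArg Subtype.val he)⟩
        have hb2 : orderOf (E'.el 10) = 2 := (E'.orderOf_two (by norm_num)).2 S3344.b_inv
        have htop : H = ⊤ := ExtraThirtyTwo.eq_top_of_two_classes H (ρ 4) (E'.el 10) hz hb2 hsH
          (hNH (hle (mem_centralizer_singleton_iff.2 rfl))) h10 eH.isSimpleGroup hclH hCs
          (hle.trans hNH)
        exact Or.inl ⟨(Subgroup.topEquiv.symm.trans (MulEquiv.subgroupCongr htop.symm)).trans eH⟩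
      · have hcard := E'.card_nine h2 h8 h10 h96 h97 hclass hK ψ hinj hrange hb hst
        refine Or.inr (ExtraThirtyTwo.equiv_alternating_nine H (ρ 4) hz hsH eH hCs ?_ hcard)
        intro j hj hsj
        obtain ⟨c, hc⟩ := isConj_iff.1 hsj
        have hj2 : orderOf j = 2 := by rw [← hc, Involutions.Basic.orderOf_conj, hz]
        obtain ⟨h, hh, e1 | e1⟩ := hclH j hj hj2
        · exact ⟨h, hh, e1⟩
        · exact absurd (hsj.trans (isConj_iff.2 ⟨h, e1⟩)) h10
    · exact (E'.not_all_fused h2 h8 h10 h96 h97).elim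

end Cfsg.Agent.A8Type.Landing
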