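import Cfsg.Agent.Lib.A8Type.Syl
import Mathlib.Algebra.Group.Even

/-!
The two quaternion subgroups of the extraspecial group and the elements of odd order of the centraliser.
-/

set_option autoImplicit false
set_option linter.style.haveILetI false
set_option linter.unusedSectionVars false

namespace Cfsg.Agent.A8Type.Landing

open Subgroup
open Cfsg.Agent.A8Type.Model

/-- The first quaternion subgroup. -/
def q1L : List ℕ := [0, 4, 17, 21, 35, 39, 50, 54]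

/-- The second quaternion subgroup. -/
def q2L : List ℕ := [0, 4, 19, 23, 34, 38, 49, 53]

/-- The list of each. -/
def qf : Bool → List ℕ
  | false => q1L
  | true => q2L

/-- A word in the two generators. -/
def word (p q : ℕ) : ℕ :=
  (List.range p).foldl (fun r _ => mul r 17) 0 |> fun r => (List.range q).foldl (fun r _ => mul r 35) r

theorem quat_facts : ((∀ a ∈ q1L, a ∈ qL) ∧ (∀ a ∈ q2L, a ∈ qL) ∧
    (∀ a ∈ q1L, ∀ b ∈ q1L, mul a b ∈ q1L) ∧ (∀ a ∈ q2L, ∀ b ∈ q2L, mul a b ∈ q2L) ∧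
    (∀ a ∈ q1L, ∀ b ∈ q2L, mul a b = mul b a) ∧
    (∀ a ∈ q1L, a ∈ q2L → a = 0 ∨ a = 4) ∧
    (∀ a ∈ q1L, cj 8 a ∈ q2L) ∧ (∀ a ∈ q2L, cj 8 a ∈ q1L) ∧
    (∀ a ∈ q1L, a = 0 ∨ a = 4 ∨ mul a a = 4)) := by
  decide +kernel

theorem quat_products : (∀ c ∈ qL, ∃ a ∈ q1L, ∃ b ∈ q2L, c = mul a b) ∧
    (∀ c ∈ q1L, c = word 0 0 ∨ c = word 0 1 ∨ c = word 1 0 ∨ c = word 1 1 ∨ c = word 2 0 ∨ c = word 2 1 ∨
      c = word 3 0 ∨ c = word 3 1) ∧ (∀ c ∈ sL, c ∈ qL ∨ mul c 8 ∈ qL) := by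
  decide +kernel

theorem quat_pair : ∀ a ∈ qL, ∀ b ∈ qL, mul a a = 4 → mul b b = 4 → mul a b ≠ mul b a →
    (a ∈ q1L ∧ b ∈ q1L) ∨ (a ∈ q2L ∧ b ∈ q2L) := by
  decide +kernel

theorem quat_inner : ∀ a ∈ q1L, a ≠ 0 → a ≠ 4 → ∀ r ∈ q1L, mul a r ≠ mul r a → ∀ b ∈ q1L,
    mul a b ≠ mul b a → b = r ∨ b = mul r 4 ∨ b = mul a r ∨ b = mul (mul a r) 4 := by
  decide +kernel

theorem quat_line : ∀ a ∈ q1L, a ≠ 0 → a ≠ 4 → ∀ b ∈ q1L, mul a b = mul b a →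
    b = 0 ∨ b = 4 ∨ b = a ∨ b = mul a 4 := by
  decide +kernel

theorem quat_third : ∀ a ∈ q1L, ∀ b ∈ q1L, ∀ c ∈ q1L, mul a b ≠ mul b a → mul a c ≠ mul c a →
    mul b c ≠ mul c b → c = mul a b ∨ c = mul b a := by
  decide +kernel

theorem quat_mul4 : (∀ a ∈ q1L, mul a 4 = mul 4 a ∧ mul (mul a 4) 4 = a) ∧ mul 4 4 = 0 ∧
    (4 ∈ q1L) ∧ (4 ∈ q2L) ∧ (17 ∈ q1L) ∧ (35 ∈ q1L) ∧ mul 17 35 ≠ mul 35 17 ∧ (8 ∈ sL) ∧ mul 8 8 = 0 ∧
    (∀ a ∈ qL, a ∈ sL) ∧ (4 ∈ qL) := by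
  decide +kernel

variable {G : Type*} [Group G]

/-- The centraliser of the central involution acts on the extraspecial group faithfully modulo it. -/
structure Cen (S : Subgroup G) (ρ : ℕ → G) : Prop where
  F : Syl S ρ
  hQn : ∀ c ∈ centralizer ({ρ 4} : Set G), ∀ q ∈ subQ ρ, c * q * c⁻¹ ∈ subQ ρ
  hself : centralizer (subQ ρ : Set G) ≤ subQ ρ

/-- Conjugation by `x` maps a list into another. -/
def Maps (ρ : ℕ → G) (x : G) (L L' : List ℕ) : Prop :=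
  ∀ a ∈ L, ∃ b ∈ L', x * ρ a * x⁻¹ = ρ b

/-- `x` commutes with the first quaternion subgroup. -/
def Fix (ρ : ℕ → G) (x : G) : Prop := ∀ a ∈ q1L, x * ρ a * x⁻¹ = ρ a

namespace Cen

variable {S : Subgroup G} {ρ : ℕ → G} (D : Cen S ρ)
include D

theorem qs {a : ℕ} (h : a ∈ qL) : a ∈ sL := quat_mul4.2.2.2.2.2.2.2.2.2.1 a h

theorem q1s {a : ℕ} (h : a ∈ q1L) : a ∈ sL := D.qs (quat_facts.1 a h)

theorem q2s {a : ℕ} (h : a ∈ q2L) : a ∈ sL := D.qs (quat_facts.2.1 a h)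

theorem four_s : (4 : ℕ) ∈ sL := D.q1s quat_mul4.2.2.1

theorem eight_s : (8 : ℕ) ∈ sL := quat_mul4.2.2.2.2.2.2.2.1

theorem uu : ρ 8 * ρ 8 = 1 := (D.F.sq_one D.eight_s).2 quat_mul4.2.2.2.2.2.2.2.2.1

theorem u_inv : (ρ 8)⁻¹ = ρ 8 := inv_eq_of_mul_eq_one_right D.uu

theorem zz : ρ 4 * ρ 4 = 1 := (D.F.sq_one D.four_s).2 quat_mul4.2.1

theorem z_ne : ρ 4 ≠ 1 := fun h => by have := (D.F.eq_one D.four_s).1 h; omega

theorem z_comm {x : G} (hx : x ∈ centralizer ({ρ 4} : Set G)) : Commute x (ρ 4) :=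
  mem_centralizer_singleton_iff.1 hx

theorem u_mem : ρ 8 ∈ centralizer ({ρ 4} : Set G) :=
  mem_centralizer_singleton_iff.2 ((D.F.comm D.eight_s D.four_s).2 (by decide +kernel))

theorem s_mem {a : ℕ} (ha : a ∈ sL) : ρ a ∈ centralizer ({ρ 4} : Set G) :=
  mem_centralizer_singleton_iff.2 ((D.F.comm ha D.four_s).2
    ((show ∀ a ∈ sL, mul a 4 = mul 4 a by decide +kernel) a ha))

theorem q1_mem {a : ℕ} (ha : a ∈ q1L) : ρ a ∈ centralizer ({ρ 4} : Set G) := D.s_mem (D.q1s ha)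

theorem conj_q {x : G} (hx : x ∈ centralizer ({ρ 4} : Set G)) {a : ℕ} (ha : a ∈ qL) :
    ∃ b ∈ qL, x * ρ a * x⁻¹ = ρ b := by
  obtain ⟨b, hb, e⟩ := D.F.mem_Q.1 (D.hQn x hx _ (D.F.mem_Q.2 ⟨a, ha, rfl⟩))
  exact ⟨b, hb, e.symm⟩

/-- The quaternion subgroups are mapped to quaternion subgroups. -/
theorem maps_some {x : G} (hx : x ∈ centralizer ({ρ 4} : Set G)) : Maps ρ x q1L q1L ∨ Maps ρ x q1L q2L := by
  obtain ⟨-, -, c1, c2, -, -, -, -, hsq⟩ := quat_facts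
  obtain ⟨-, -, h4, -, h17, h35, hne, -, -, -, -⟩ := quat_mul4
  obtain ⟨a, ha, ea⟩ := D.conj_q hx (quat_facts.1 17 h17)
  obtain ⟨b, hb, eb⟩ := D.conj_q hx (quat_facts.1 35 h35)
  have hxz : x * ρ 4 * x⁻¹ = ρ 4 := by rw [(D.z_comm hx).eq, mul_inv_cancel_right]
  have hsqa : ∀ {k c : ℕ}, k ∈ q1L → c ∈ qL → x * ρ k * x⁻¹ = ρ c → mul k k = 4 → mul c c = 4 := by
    intro k c hk hc e hk4
    refine D.F.inj _ (closed _ (D.qs hc) _ (D.qs hc)) 4 D.four_s ?_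
    rw [D.F.mul_eq _ (D.qs hc) _ (D.qs hc), ← e, ← hxz, ← hk4, D.F.mul_eq _ (D.q1s hk) _ (D.q1s hk)]
    group
  have ha4 := hsqa h17 ha ea (by decide +kernel)
  have hb4 := hsqa h35 hb eb (by decide +kernel)
  have hab : mul a b ≠ mul b a := fun h => hne (((D.F.comm (D.q1s h17) (D.q1s h35))).1 (by
    have h1 := (D.F.comm (D.qs ha) (D.qs hb)).2 h
    rw [← ea, ← eb] at h1
    refine (MulAut.conj x).injective ?_
    simp only [MulAut.conj_apply]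
    calc x * (ρ 17 * ρ 35) * x⁻¹ = x * ρ 17 * x⁻¹ * (x * ρ 35 * x⁻¹) := by group
      _ = x * ρ 35 * x⁻¹ * (x * ρ 17 * x⁻¹) := h1
      _ = _ := by group))
  have key : ∀ L : List ℕ, (∀ c ∈ L, c ∈ qL) → (∀ c ∈ L, ∀ d ∈ L, mul c d ∈ L) → 0 ∈ L → a ∈ L → b ∈ L →
      Maps ρ x q1L L := by
    intro L hLq hLm h0 haL hbL
    let P : ℕ → Prop := fun c => c ∈ sL ∧ ∃ d ∈ L, x * ρ c * x⁻¹ = ρ d
    have hP0 : P 0 := ⟨zero_sL, 0, h0, by rw [D.F.zero, mul_one, mul_inv_cancel]⟩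
    have hstep : ∀ {c k l : ℕ}, P c → k ∈ sL → l ∈ L → x * ρ k * x⁻¹ = ρ l → P (mul c k) := by
      rintro c k l ⟨hc, d, hd, e⟩ hk hl ek
      refine ⟨closed c hc k hk, _, hLm d hd l hl, ?_⟩
      rw [D.F.mul_eq c hc k hk, D.F.mul_eq d (D.qs (hLq d hd)) l (D.qs (hLq l hl)), ← e, ← ek]
      group
    have hword : ∀ p q, P (word p q) := by
      intro p q
      have h1 : ∀ n, P ((List.range n).foldl (fun r _ => mul r 17) 0) := fun n => by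
        induction n with
        | zero => exact hP0
        | succ n ih => rw [List.range_succ, List.foldl_concat]; exact hstep ih (D.q1s h17) haL ea
      induction q with
      | zero => exact h1 p
      | succ q ih =>
        unfold word at ih ⊢
        beta_reduce at ih ⊢
        rw [List.range_succ, List.foldl_concat]
        exact hstep ih (D.q1s h35) hbL eb
    intro c hc
    rcases quat_products.2.1 c hc with h | h | h | h | h | h | h | h <;> exact h ▸ (hword _ _).2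
  rcases quat_pair a ha b hb ha4 hb4 hab with ⟨h1, h2⟩ | ⟨h1, h2⟩
  · exact Or.inl (key q1L quat_facts.1 c1 (by decide) h1 h2)
  · exact Or.inr (key q2L quat_facts.2.1 c2 (by decide) h1 h2)

theorem u_swap1 : Maps ρ (ρ 8) q1L q2L := fun a ha =>
  ⟨_, quat_facts.2.2.2.2.2.2.1 a ha, (D.F.cj_eq D.eight_s (D.q1s ha)).symm⟩

theorem u_swap2 : Maps ρ (ρ 8) q2L q1L := fun a ha =>
  ⟨_, quat_facts.2.2.2.2.2.2.2.1 a ha, (D.F.cj_eq D.eight_s (D.q2s ha)).symm⟩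

omit D in
theorem maps_mul {x y : G} {L L' L'' : List ℕ} (hy : Maps ρ y L L') (hx : Maps ρ x L' L'') :
    Maps ρ (x * y) L L'' := fun a ha => by
  obtain ⟨b, hb, e⟩ := hy a ha
  obtain ⟨c, hc, e'⟩ := hx b hb
  exact ⟨c, hc, by rw [← e', ← e]; group⟩

/-- An element of odd order fixes the first quaternion subgroup. -/
theorem maps_one {x : G} (hx : x ∈ centralizer ({ρ 4} : Set G)) {n : ℕ} (hn : Odd n) (hxn : x ^ n = 1) :
    Maps ρ x q1L q1L := by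
  rcases D.maps_some hx with h | h
  · exact h
  exfalso
  obtain ⟨k, rfl⟩ := hn
  obtain ⟨b, hb⟩ : ∃ b, Maps ρ x q2L (qf b) := by
    rcases D.maps_some (mul_mem hx D.u_mem) with h' | h' <;>
      [refine ⟨false, ?_⟩; refine ⟨true, ?_⟩] <;>
      · have := maps_mul D.u_swap2 h'
        rwa [mul_assoc, D.uu, mul_one] at this
  have hodd : ∀ m : ℕ, Maps ρ (x ^ (2 * m + 1)) q1L q2L := by
    cases b
    · intro m
      induction m with
      | zero => rwa [mul_zero, zero_add, pow_one]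
      | succ m ih =>
        rw [show 2 * (m + 1) + 1 = 1 + (1 + (2 * m + 1)) by ring, pow_add, pow_add, pow_one]
        exact maps_mul (maps_mul ih hb) h
    · have all : ∀ m : ℕ, Maps ρ (x ^ (m + 1)) q1L q2L := fun m => by
        induction m with
        | zero => rwa [zero_add, pow_one]
        | succ m ih => rw [pow_succ']; exact maps_mul ih hb
      exact fun m => all (2 * m)
  obtain ⟨c, hc, e⟩ := hodd k 17 quat_mul4.2.2.2.2.1
  rw [hxn, one_mul, inv_one, mul_one] at e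
  have h17 := quat_mul4.2.2.2.2.1
  rcases quat_facts.2.2.2.2.2.1 17 h17 (D.F.inj _ (D.q1s h17) c (D.q2s hc) e ▸ hc) with e' | e' <;> omega

/-- An element of order three fixing a point modulo `⟨z⟩` centralises the first quaternion subgroup. -/
theorem fix_of_point {x : G} (hx : x ∈ centralizer ({ρ 4} : Set G)) (hx3 : x ^ 3 = 1) {a : ℕ} (ha : a ∈ q1L)
    (ha0 : a ≠ 0) (ha4 : a ≠ 4) (hfix : x * ρ a * x⁻¹ = ρ a ∨ x * ρ a * x⁻¹ = ρ a * ρ 4) : Fix ρ x := by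
  have hm := D.maps_one hx (by decide : Odd 3) hx3
  obtain ⟨-, -, c1, -, -, -, -, -, -⟩ := quat_facts
  have hzx : ∀ g, x * (g * ρ 4) * x⁻¹ = x * g * x⁻¹ * ρ 4 := fun g => by
    rw [show x * (g * ρ 4) * x⁻¹ = x * g * x⁻¹ * (x * ρ 4 * x⁻¹) by group, (D.z_comm hx).eq, mul_inv_cancel_right]
  have hcube : ∀ g, x * (x * (x * g * x⁻¹) * x⁻¹) * x⁻¹ = g := fun g => by
    rw [show x * (x * (x * g * x⁻¹) * x⁻¹) * x⁻¹ = x ^ 3 * g * (x ^ 3)⁻¹ by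
      simp only [pow_succ, pow_zero, one_mul, mul_inv_rev, mul_assoc], hx3, one_mul, inv_one, mul_one]
  have flip : ∀ g, x * g * x⁻¹ ≠ g * ρ 4 := fun g h => by
    have h1 := hcube g
    rw [h, hzx, h, mul_assoc g, D.zz, mul_one, h] at h1
    exact D.z_ne (mul_eq_left.1 h1)
  have hxa : x * ρ a * x⁻¹ = ρ a := hfix.resolve_right (flip _)
  obtain ⟨r, hr, har⟩ : ∃ r ∈ q1L, mul a r ≠ mul r a :=
    (show ∀ a ∈ q1L, a ≠ 0 → a ≠ 4 → ∃ r ∈ q1L, mul a r ≠ mul r a by decide +kernel) a ha ha0 ha4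
  obtain ⟨b, hb, e⟩ := hm r hr
  have hab : mul a b ≠ mul b a := fun h => har ((D.F.comm (D.q1s ha) (D.q1s hr)).1 (by
    have h1 := (D.F.comm (D.q1s ha) (D.q1s hb)).2 h
    rw [← e, ← hxa] at h1
    refine (MulAut.conj x).injective ?_
    simp only [MulAut.conj_apply]
    calc x * (ρ a * ρ r) * x⁻¹ = x * ρ a * x⁻¹ * (x * ρ r * x⁻¹) := by group
      _ = x * ρ r * x⁻¹ * (x * ρ a * x⁻¹) := h1
      _ = _ := by group))
  have hr4 : ρ (mul r 4) = ρ r * ρ 4 := D.F.mul_eq r (D.q1s hr) 4 D.four_s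
  have har' : ρ (mul a r) = ρ a * ρ r := D.F.mul_eq a (D.q1s ha) r (D.q1s hr)
  have hcubek : ∀ k ∈ sL, ∀ l : ℕ, x * ρ k * x⁻¹ = ρ k → x * ρ l * x⁻¹ = ρ k * ρ l → mul (mul k k) k = 0 := by
    intro k hk l hxk hxl
    have hs : ∀ g, x * (ρ k * g) * x⁻¹ = ρ k * (x * g * x⁻¹) := fun g => by
      rw [show x * (ρ k * g) * x⁻¹ = x * ρ k * x⁻¹ * (x * g * x⁻¹) by group, hxk]
    have h1 := hcube (ρ l)
    rw [hxl, hs, hxl, hs, hs, hxl, ← mul_assoc, ← mul_assoc, mul_eq_right, ← D.F.mul_eq k hk k hk,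
      ← D.F.mul_eq _ (closed k hk k hk) k hk, D.F.eq_one (closed _ (closed k hk k hk) k hk)] at h1
    exact h1
  have hxr : x * ρ r * x⁻¹ = ρ r := by
    rcases quat_inner a ha ha0 ha4 r hr har b hb hab with h | h | h | h <;> rw [h] at e
    · exact e
    · exact absurd (hr4 ▸ e) (flip _)
    all_goals exfalso
    · rw [har'] at e
      exact (show ∀ a ∈ q1L, a ≠ 0 → a ≠ 4 → mul (mul a a) a ≠ 0 by decide +kernel) a ha ha0 ha4
        (hcubek a (D.q1s ha) r hxa e)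
    · have ha4s := closed a (D.q1s ha) 4 D.four_s
      have e' : x * ρ r * x⁻¹ = ρ (mul a 4) * ρ r := by
        rw [e, ← D.F.mul_eq _ ha4s r (D.q1s hr)]
        exact congrArg ρ ((show ∀ a ∈ q1L, ∀ r ∈ q1L, mul (mul a r) 4 = mul (mul a 4) r by decide +kernel) a ha r hr)
      exact (show ∀ a ∈ q1L, a ≠ 0 → a ≠ 4 → mul (mul (mul a 4) (mul a 4)) (mul a 4) ≠ 0 by decide +kernel)
        a ha ha0 ha4 (hcubek _ ha4s r (by rw [D.F.mul_eq a (D.q1s ha) 4 D.four_s, hzx, hxa]) e')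
  intro c hc
  rcases (show ∀ a ∈ q1L, a ≠ 0 → a ≠ 4 → ∀ r ∈ q1L, mul a r ≠ mul r a → ∀ c ∈ q1L,
      c = 0 ∨ c = 4 ∨ c = a ∨ c = mul a 4 ∨ c = r ∨ c = mul r 4 ∨ c = mul a r ∨ c = mul (mul a r) 4 by
      decide +kernel) a ha ha0 ha4 r hr har c hc with h | h | h | h | h | h | h | h <;> rw [h]
  · rw [D.F.zero, mul_one, mul_inv_cancel]
  · rw [(D.z_comm hx).eq, mul_inv_cancel_right]
  · exact hxa
  · rw [D.F.mul_eq a (D.q1s ha) 4 D.four_s, hzx, hxa]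
  · exact hxr
  · rw [hr4, hzx, hxr]
  · rw [har', show x * (ρ a * ρ r) * x⁻¹ = x * ρ a * x⁻¹ * (x * ρ r * x⁻¹) by group, hxa, hxr]
  · rw [D.F.mul_eq _ (closed a (D.q1s ha) r (D.q1s hr)) 4 D.four_s, hzx, har',
      show x * (ρ a * ρ r) * x⁻¹ = x * ρ a * x⁻¹ * (x * ρ r * x⁻¹) by group, hxa, hxr]

theorem conj_u_mem {x : G} (hx : x ∈ centralizer ({ρ 4} : Set G)) :
    ρ 8 * x * (ρ 8)⁻¹ ∈ centralizer ({ρ 4} : Set G) :=
  mul_mem (mul_mem D.u_mem hx) (inv_mem D.u_mem)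

theorem conj_u_pow {x : G} {n : ℕ} (h : x ^ n = 1) : (ρ 8 * x * (ρ 8)⁻¹) ^ n = 1 := by
  rw [conj_pow, h, mul_one, mul_inv_cancel]

/-- The second quaternion subgroup is the image of the first under `ρ 8`. -/
theorem fix_two {x : G} (h : Fix ρ (ρ 8 * x * (ρ 8)⁻¹)) {b : ℕ} (hb : b ∈ q2L) : x * ρ b * x⁻¹ = ρ b := by
  obtain ⟨a, ha, e⟩ := D.u_swap2 b hb
  have h1 := h a ha
  rw [← e] at h1
  refine (MulAut.conj (ρ 8)).injective ?_
  simp only [MulAut.conj_apply]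
  calc ρ 8 * (x * ρ b * x⁻¹) * (ρ 8)⁻¹
      = ρ 8 * x * (ρ 8)⁻¹ * (ρ 8 * ρ b * (ρ 8)⁻¹) * (ρ 8 * x * (ρ 8)⁻¹)⁻¹ := by group
    _ = _ := h1

theorem commute_Q {x : G} (h : Fix ρ x) (h' : Fix ρ (ρ 8 * x * (ρ 8)⁻¹)) {q : G} (hq : q ∈ subQ ρ) :
    Commute x q := by
  obtain ⟨c, hc, rfl⟩ := D.F.mem_Q.1 hq
  obtain ⟨a, ha, b, hb, rfl⟩ := quat_products.1 c hc
  rw [D.F.mul_eq a (D.q1s ha) b (D.q2s hb)]
  exact (show Commute x (ρ a) from mul_inv_eq_iff_eq_mul.1 (h a ha)).mul_right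
    (mul_inv_eq_iff_eq_mul.1 (D.fix_two h' hb))

/-- An element centralising both quaternion subgroups is `1` or `z`. -/
theorem eq_one_or_z {x : G} (h : Fix ρ x) (h' : Fix ρ (ρ 8 * x * (ρ 8)⁻¹)) : x = 1 ∨ x = ρ 4 := by
  have hxQ : x ∈ subQ ρ := D.hself (mem_centralizer_iff.2 fun q hq => (D.commute_Q h h' hq).eq.symm)
  obtain ⟨c, hc, rfl⟩ := D.F.mem_Q.1 hxQ
  rcases (show ∀ c ∈ qL, (∀ d ∈ qL, mul c d = mul d c) → c = 0 ∨ c = 4 by decide +kernel) c hc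
      (fun d hd => (D.F.comm (D.qs hc) (D.qs hd)).1 (D.commute_Q h h' (D.F.mem_Q.2 ⟨d, hd, rfl⟩)).eq) with
    e | e <;> rw [e]
  · exact Or.inl D.F.zero
  · exact Or.inr rfl

theorem eq_one_of_fix {x : G} (h : Fix ρ x) (h' : Fix ρ (ρ 8 * x * (ρ 8)⁻¹)) {n : ℕ} (hn : Odd n)
    (hxn : x ^ n = 1) : x = 1 := by
  rcases D.eq_one_or_z h h' with e | e
  · exact e
  · obtain ⟨k, rfl⟩ := hn
    rw [e, pow_succ, pow_mul, pow_two, D.zz, one_pow, one_mul] at hxn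
    exact absurd hxn D.z_ne

/-- An element of order three centralising a nontrivial point of the core centralises one of the factors. -/
theorem fix_cases {x : G} (hx : x ∈ centralizer ({ρ 4} : Set G)) (hx3 : x ^ 3 = 1) {q : G} (hq : q ∈ subQ ρ)
    (hcq : Commute x q) (h1 : q ≠ 1) (hz : q ≠ ρ 4) : Fix ρ x ∨ Fix ρ (ρ 8 * x * (ρ 8)⁻¹) := by
  obtain ⟨c, hc, rfl⟩ := D.F.mem_Q.1 hq
  obtain ⟨a, ha, b, hb, rfl⟩ := quat_products.1 c hc
  have hy := D.conj_u_mem hx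
  have hy3 := D.conj_u_pow hx3
  obtain ⟨a', ha', ea⟩ := D.maps_one hx (by decide : Odd 3) hx3 a ha
  obtain ⟨b1, hb1, eb1⟩ := D.u_swap2 b hb
  obtain ⟨b2, hb2, eb2⟩ := D.maps_one hy (by decide : Odd 3) hy3 b1 hb1
  obtain ⟨b3, hb3, eb3⟩ := D.u_swap1 b2 hb2
  have eb : x * ρ b * x⁻¹ = ρ b3 := by
    rw [← eb3, ← eb2, ← eb1, D.u_inv]
    simp only [mul_inv_rev, D.u_inv, mul_assoc]
    rw [D.uu, mul_one, ← mul_assoc (ρ 8) (ρ 8), D.uu, one_mul]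
    simp only [← mul_assoc]
    group
    simp [D.uu, mul_assoc]
  have hmul : ρ (mul a' b3) = ρ (mul a b) := by
    rw [D.F.mul_eq a' (D.q1s ha') b3 (D.q2s hb3), ← ea, ← eb]
    calc x * ρ a * x⁻¹ * (x * ρ b * x⁻¹) = x * (ρ a * ρ b) * x⁻¹ := by group
      _ = _ := by rw [← D.F.mul_eq a (D.q1s ha) b (D.q2s hb), hcq.eq, mul_inv_cancel_right]
  have hcode := D.F.inj _ (closed _ (D.q1s ha') _ (D.q2s hb3)) _ (closed _ (D.q1s ha) _ (D.q2s hb)) hmul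
  rcases (show ∀ a ∈ q1L, ∀ b ∈ q2L, ∀ a' ∈ q1L, ∀ b' ∈ q2L, mul a' b' = mul a b →
      (a' = a ∨ a' = mul a 4) ∧ (b' = b ∨ b' = mul b 4) by decide +kernel) a ha b hb a' ha' b3 hb3 hcode with
    ⟨hA, hB⟩
  by_cases ha04 : a = 0 ∨ a = 4
  · refine Or.inr (D.fix_of_point hy hy3 hb1 ?_ ?_ ?_)
    · intro e
      have hb0 : b = 0 := by
        rw [e, D.F.zero] at eb1
        exact (D.F.eq_one (D.q2s hb)).1 (_root_.conj_eq_one_iff.1 eb1)
      rcases ha04 with rfl | rfl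
      · exact h1 (by rw [hb0, (unit_laws 0 zero_sL).1, D.F.zero])
      · exact hz (by rw [hb0, (unit_laws 4 D.four_s).1])
    · intro e
      have hb4 : b = 4 := by
        refine D.F.inj _ (D.q2s hb) 4 D.four_s ((MulAut.conj (ρ 8)).injective ?_)
        simp only [MulAut.conj_apply]
        rw [eb1, e, (D.z_comm D.u_mem).eq, mul_inv_cancel_right]
      rcases ha04 with rfl | rfl
      · exact hz (by rw [hb4, (unit_laws 4 D.four_s).2.1])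
      · exact h1 (by rw [hb4, quat_mul4.2.1, D.F.zero])
    · have hxb : x * ρ b * x⁻¹ = ρ b ∨ x * ρ b * x⁻¹ = ρ b * ρ 4 := by
        rcases hB with e | e
        · exact Or.inl (e ▸ eb)
        · exact Or.inr (by rw [eb, e, D.F.mul_eq b (D.q2s hb) 4 D.four_s])
      have hconj : ρ 8 * x * (ρ 8)⁻¹ * ρ b1 * (ρ 8 * x * (ρ 8)⁻¹)⁻¹ = ρ 8 * (x * ρ b * x⁻¹) * (ρ 8)⁻¹ := by
        rw [← eb1]; group
      rcases hxb with e | e <;> rw [hconj, e]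
      · exact Or.inl eb1
      · right
        rw [show ρ 8 * (ρ b * ρ 4) * (ρ 8)⁻¹ = ρ 8 * ρ b * (ρ 8)⁻¹ * (ρ 8 * ρ 4 * (ρ 8)⁻¹) by group, eb1,
          (D.z_comm D.u_mem).eq, mul_inv_cancel_right]
  · push Not at ha04
    refine Or.inl (D.fix_of_point hx hx3 ha ha04.1 ha04.2 ?_)
    rcases hA with e | e
    · exact Or.inl (e ▸ ea)
    · exact Or.inr (by rw [ea, e, D.F.mul_eq a (D.q1s ha) 4 D.four_s])

end Cen

end Cfsg.Agent.A8Type.Landing
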