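import Mathlib

/-!
The unitriangular group of degree four over the field with two elements on codes below 64: the bits
1, 2, 4, 8, 16, 32 are the entries (1,2), (1,3), (1,4), (2,3), (2,4), (3,4); and a faithful image of it in the
alternating group of degree eight.
-/

set_option autoImplicit false

namespace Cfsg.Agent.A8Type.Model

/-- A binary digit. -/
def bit (k a : ℕ) : ℕ := a / 2 ^ k % 2

/-- The product. -/
def mul (a b : ℕ) : ℕ :=
  Nat.xor (Nat.xor (Nat.xor a b) (2 * (bit 0 a * bit 3 b)))
    (Nat.xor (16 * (bit 3 a * bit 5 b)) (4 * ((bit 0 a * bit 4 b + bit 1 a * bit 5 b) % 2))) % 64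

/-- The inverse: all elements have order dividing four. -/
def inv (a : ℕ) : ℕ := mul a (mul a a)

/-- Conjugation. -/
def cj (g a : ℕ) : ℕ := mul (mul g a) (inv g)

/-- All codes. -/
def sL : List ℕ := List.range 64

/-- The elementary abelian subgroup of order 16. -/
def aL : List ℕ := sL.filter fun a => bit 0 a == 0 && bit 5 a == 0

/-- The extraspecial subgroup of order 32. -/
def qL : List ℕ := sL.filter fun a => bit 3 a == 0

/-- The intersection of the two. -/
def tL : List ℕ := [0, 2, 4, 6, 16, 18, 20, 22]

/-- The permutation of a code, eight digits in base eight. -/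
def permTab : List ℕ :=
  [16434824, 7917224, 6999944, 15255464, 6852524, 15370124, 16287404, 8031884, 14599368, 6081768, 5164488,
    13420008, 5017068, 13534668, 14451948, 6196428, 14570689, 6053089, 5135809, 13391329, 4988389, 13505989,
    14423269, 6167749, 16406145, 7888545, 6971265, 15226785, 6823845, 15341445, 16258725, 8003205, 11788826,
    3271226, 2353946, 10609466, 2206526, 10724126, 11641406, 3385886, 9953370, 1435770, 518490, 8774010, 371070,
    8888670, 9805950, 1550430, 9924691, 1407091, 489811, 8745331, 342391, 8859991, 9777271, 1521751, 11760147,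
    3242547, 2325267, 10580787, 2177847, 10695447, 11612727, 3357207]

/-- The image of a point. -/
def img (a i : ℕ) : ℕ := permTab.getD a 0 / 8 ^ i % 8

theorem closed : ∀ a ∈ sL, ∀ b ∈ sL, mul a b ∈ sL := by decide +kernel

theorem inv_mem : ∀ a ∈ sL, inv a ∈ sL := by decide +kernel

theorem unit_laws : ∀ a ∈ sL, mul a 0 = a ∧ mul 0 a = a ∧ mul a (inv a) = 0 ∧ mul (inv a) a = 0 := by
  decide +kernel

theorem img_inj : ∀ a ∈ sL, ∀ b ∈ sL, (∀ i ∈ List.range 8, img a i = img b i) → a = b := by decide +kernel

theorem img_mul : ∀ a ∈ sL, ∀ b ∈ sL, ∀ i ∈ List.range 8, img (mul a b) i = img a (img b i) := by decide +kernel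

theorem img_one : ∀ i ∈ List.range 8, img 0 i = i := by decide +kernel

theorem img_sign : ∀ a ∈ sL, ((List.range 8).flatMap fun i => ((List.range 8).filter fun j =>
    decide (i < j) && decide (img a j < img a i))).length % 2 = 0 := by decide +kernel

end Cfsg.Agent.A8Type.Model
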