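import Cfsg.Agent.Lib.A8Type.PairDefs
import Cfsg.Agent.Lib.J2Type.TwoClass.Signal
import Cfsg.Agent.Lib.Components.KBalance
import Cfsg.Agent.Lib.SolvableSignalizer.Main
import Cfsg.Agent.S0205

/-!
The subgroup generated by the intersections of the cores over the hyperplanes of `A`.
-/

set_option autoImplicit false
set_option linter.style.haveILetI false
set_option linter.unusedSectionVars false
set_option maxHeartbeats 1000000

namespace Cfsg.Agent.A8Type

open Subgroup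
open scoped commutatorElement
open Cfsg.Agent.J2Type (dlt dlt_le mem_dlt dlt_anti dlt_le_cent dlt_conj)
open Cfsg.Agent

universe u

variable {G : Type u} [Group G]

/-- The odd part of the centralizer of `A`. -/
def oddCentA (ρ : ℕ → G) : Subgroup G := J2Type.Loc.core (ρ 4) ⊓ centralizer (subA ρ : Set G)

/-- The join over the hyperplanes of `A`. -/
def wHyp (ρ : ℕ → G) : Subgroup G :=
  ⨆ H : {H : Subgroup G // H ≤ subA ρ ∧ H.relIndex (subA ρ) = 2}, dlt (H : Subgroup G)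

/-- Every involution of `A` is balanced or has a central four-group, and `z` is balanced. -/
structure Bals (ρ : ℕ → G) : Prop where
  z : BalA ρ (ρ 4)
  all : ∀ a ∈ subA ρ, a ≠ 1 → BalA ρ a ∨ ∃ D, Central ρ a D

namespace Syl

variable [Finite G] {S : Sylow 2 G} {ρ : ℕ → G} (F : Syl (S : Subgroup G) ρ)

include F

theorem A_elem : Cfsg.IsElementaryAbelian 2 (subA ρ) :=
  ⟨⟨⟨fun a b => Subtype.ext (F.A_comm a.2 b.2)⟩⟩, fun a ha => by rw [pow_two]; exact F.A_sq ha⟩

theorem dlt_odd {E : Subgroup G} (hE : 2 ≤ Nat.card E) : Odd (Nat.card (dlt E)) := by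
  haveI : Nontrivial E := Finite.one_lt_card_iff_nontrivial.1 hE
  obtain ⟨⟨e, he⟩, he1⟩ := exists_ne (1 : E)
  exact (J2Type.Loc.core_odd e).of_dvd_nat (card_dvd_of_le (dlt_le he fun h => he1 (Subtype.ext h)))

theorem A_normalizes_dlt {E : Subgroup G} (hE : E ≤ subA ρ) : subA ρ ≤ normalizer (dlt E : Set G) :=
  fun a ha => mem_normalizer_of_maps fun _ hx => dlt_conj (fun e he => by
    rwa [mul_assoc, F.A_comm (hE he) ha, inv_mul_cancel_left]) hx

theorem oddCentA_normalizes {E : Subgroup G} (hE : E ≤ subA ρ) :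
    oddCentA ρ ≤ normalizer (dlt E : Set G) := fun f hf => mem_normalizer_of_maps fun _ hx =>
  dlt_conj (fun e he => by
    have h : e * f = f * e := mem_centralizer_iff.1 hf.2 e (hE he)
    rwa [mul_assoc, h, inv_mul_cancel_left]) hx

theorem oddCentA_odd : Odd (Nat.card (oddCentA ρ)) :=
  (J2Type.Loc.core_odd _).of_dvd_nat (card_dvd_of_le inf_le_left)

variable (hBal : Bals ρ)

include hBal

theorem mem_oddCentA {g : G} (hg : ∀ a ∈ subA ρ, g * a = a * g) (hgo : Odd (orderOf g)) : g ∈ oddCentA ρ :=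
  ⟨hBal.z (zpowers g) (zpowers_le.2 (mem_centralizer_singleton_iff.2 (hg _ F.z_mem_A)))
    (by rwa [Nat.card_zpowers]) (le_centralizer_iff.1 (zpowers_le.2 (mem_centralizer_iff.2
      fun a ha => (hg a ha).symm)) |>.trans (centralizer_le_normalizer _)) (mem_zpowers g),
    mem_centralizer_iff.2 fun a ha => (hg a ha).symm⟩

omit hBal in
/-- Two subgroups of `A` meeting trivially. -/
theorem card_mul_of_disjoint {B D : Subgroup G} (hBA : B ≤ subA ρ) (hD : D ≤ subA ρ)
    (hdis : ∀ d ∈ D, d ∈ B → d = 1) :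
    Nat.card B * Nat.card D ≤ 16 ∧ (16 ≤ Nat.card B * Nat.card D → ∀ a ∈ subA ρ, ∃ b ∈ B, ∃ d ∈ D, b * d = a) := by
  classical
  let φ : B × D → subA ρ := fun p => ⟨(p.1 : G) * (p.2 : G), mul_mem (hBA p.1.2) (hD p.2.2)⟩
  have hφ : Function.Injective φ := by
    rintro ⟨⟨b, hb⟩, ⟨d, hd⟩⟩ ⟨⟨b', hb'⟩, ⟨d', hd'⟩⟩ h
    have h' : b * d = b' * d' := congrArg Subtype.val h
    have h1 : b'⁻¹ * b = d' * d⁻¹ := by
      rw [show d' * d⁻¹ = b'⁻¹ * (b' * d') * d⁻¹ by group, ← h']; group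
    have h2 : d' * d⁻¹ = 1 := hdis _ (mul_mem hd' (D.inv_mem hd)) (h1 ▸ mul_mem (B.inv_mem hb') hb)
    have hdd : d' = d := mul_inv_eq_one.1 h2
    subst hdd
    have hbb : b = b' := mul_right_cancel h'
    subst hbb
    rfl
  have hle := Nat.card_le_card_of_injective φ hφ
  rw [Nat.card_prod, F.card_A] at hle
  refine ⟨hle, fun hge a ha => ?_⟩
  have hbij : Function.Bijective φ := (Nat.bijective_iff_injective_and_card φ).2
    ⟨hφ, by rw [Nat.card_prod, F.card_A]; omega⟩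
  obtain ⟨⟨b, d⟩, e⟩ := hbij.2 ⟨a, ha⟩
  exact ⟨b, b.2, d, d.2, congrArg Subtype.val e⟩

/-- The cores are balanced for subgroups of order 8. -/
theorem balance_three {H : Subgroup G} (hH : H ≤ subA ρ) (h8 : 8 ≤ Nat.card H) {a : G} (ha : a ∈ subA ρ)
    (ha1 : a ≠ 1) : dlt H ⊓ centralizer ({a} : Set G) ≤ J2Type.Loc.core a := by
  rcases hBal.all a ha ha1 with hbal | ⟨D, hD⟩
  · exact hbal _ inf_le_right ((F.dlt_odd (E := H) (by omega)).of_dvd_nat (card_dvd_of_le inf_le_left))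
      ((le_inf (F.A_normalizes_dlt hH) ((F.A_le_cent ha).trans le_normalizer)).trans
        inf_normalizer_le_normalizer_inf)
  obtain ⟨d, hdD, hdH, hd1⟩ : ∃ d ∈ D, d ∈ H ∧ d ≠ 1 := by
    by_contra hcon
    push Not at hcon
    have := (F.card_mul_of_disjoint hH hD.le hcon).1
    rw [hD.card] at this
    omega
  exact fun x hx => hD.bal d hdD hd1 ⟨dlt_le hdH hd1 hx.1, hx.2⟩

/-- Weak balance for four-groups. -/
theorem weak_balance {B X : Subgroup G} (hBA : B ≤ subA ρ) (h4 : 4 ≤ Nat.card B) {a : G} (ha : a ∈ subA ρ)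
    (ha1 : a ≠ 1) (hX : X ≤ dlt B ⊓ centralizer ({a} : Set G)) (hAX : subA ρ ≤ normalizer (X : Set G)) :
    ⁅X, subA ρ⁆ ≤ J2Type.Loc.core a := by
  have hXodd : Odd (Nat.card X) := (F.dlt_odd (E := B) (by omega)).of_dvd_nat
    (card_dvd_of_le (hX.trans inf_le_left))
  rcases hBal.all a ha ha1 with hbal | ⟨D, hD⟩
  · exact (Coprime.commutator_le_of_le_normalizer hAX).trans (hbal X (hX.trans inf_le_right) hXodd hAX)
  by_cases hex : ∃ d ∈ D, d ∈ B ∧ d ≠ 1
  · obtain ⟨d, hdD, hdB, hd1⟩ := hex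
    exact (Coprime.commutator_le_of_le_normalizer hAX).trans fun x hx =>
      hD.bal d hdD hd1 ⟨dlt_le hdB hd1 (hX hx).1, (hX hx).2⟩
  push Not at hex
  have hge : 16 ≤ Nat.card B * Nat.card D := by rw [hD.card]; omega
  refine commutator_le.2 fun x hx e he => ?_
  obtain ⟨b, hb, d, hd, rfl⟩ := (F.card_mul_of_disjoint hBA hD.le hex).2 hge e he
  have hxb : b * x = x * b := mem_centralizer_iff.1 (dlt_le_cent B (hX hx).1) b hb
  have hba : b * a = a * b := F.A_comm (hBA hb) ha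
  have h1 := hD.odd d hd x (mem_centralizer_singleton_iff.1 (hX hx).2) (J2Type.Loc.odd_orderOf hXodd hx)
  have h2 := J2Type.Loc.core_conj_mem hba ((J2Type.Loc.core a).inv_mem h1)
  rwa [show b * (d * x * d⁻¹ * x⁻¹)⁻¹ * b⁻¹ = b * x * d * x⁻¹ * d⁻¹ * b⁻¹ by group, hxb,
    show x * b * d * x⁻¹ * d⁻¹ * b⁻¹ = ⁅x, b * d⁆ by rw [commutatorElement_def]; group] at h2

/-- The family of the intersections of cores times the odd part of `C(A)`. -/
theorem isFamily : Components.KBalance.IsFamily 2 2 (subA ρ) fun E => dlt E ⊔ oddCentA ρ ⊓ centralizer (E : Set G) where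
  le_centralizer E _ _ := sup_le (dlt_le_cent E) inf_le_right
  le_norm E hE a ha := mem_normalizer_of_maps fun x hx => by
    have hle : (dlt E ⊔ oddCentA ρ ⊓ centralizer (E : Set G)) ≤
        (dlt E ⊔ oddCentA ρ ⊓ centralizer (E : Set G)).comap (MulAut.conj a).toMonoidHom := sup_le
      (fun y hy => mem_sup_left ((mem_normalizer_iff.1 (F.A_normalizes_dlt hE ha) y).1 hy))
      (fun y hy => mem_sup_right (by
        have h : a * y = y * a := mem_centralizer_iff.1 hy.1.2 a ha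
        show (MulAut.conj a) y ∈ _
        rw [MulAut.conj_apply, h, mul_inv_cancel_right]
        exact hy))
    exact hle hx
  anti D E hDE := sup_le_sup (dlt_anti hDE) (inf_le_inf le_rfl (Subgroup.centralizer_le hDE))
  compat D E hDE hE hD4 x hx := by
    haveI : Fact (Nat.Prime 2) := ⟨Nat.prime_two⟩
    obtain ⟨hxN, hxE⟩ := hx
    obtain ⟨f, hf, δ, hδ, rfl⟩ := J2Type.Loc.mem_sup_iff
      (T := oddCentA ρ ⊓ centralizer (D : Set G)) (inf_le_left.trans (F.oddCentA_normalizes (hDE.trans hE)))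
      (by rwa [sup_comm] at hxN)
    have hfE : f ∈ centralizer (E : Set G) := mem_centralizer_iff.2 fun e he => mem_centralizer_iff.1 hf.1.2 e (hE he)
    refine mul_mem (mem_sup_right ⟨hf.1, hfE⟩) ?_
    have hδE : δ ∈ centralizer (E : Set G) := by
      have := (centralizer (E : Set G)).mul_mem ((centralizer (E : Set G)).inv_mem hfE) hxE
      rwa [inv_mul_cancel_left] at this
    obtain ⟨D', hD'D, -, hD'4⟩ := Components.QuotientDelta.exists_card_eq
      (Components.Hyperplane.isElementaryAbelian_of_le F.A_elem (hDE.trans hE)) hD4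
    set Y := dlt D ⊓ centralizer (E : Set G)
    have hAC : subA ρ ≤ centralizer (E : Set G) := fun a ha => mem_centralizer_iff.2 fun e he =>
      F.A_comm (hE he) ha
    have hAY : subA ρ ≤ normalizer (Y : Set G) :=
      (le_inf (F.A_normalizes_dlt (hDE.trans hE)) (hAC.trans le_normalizer)).trans
      inf_normalizer_le_normalizer_inf
    have hYodd : Odd (Nat.card Y) := (F.dlt_odd (E := D) (le_trans (by norm_num) hD4)).of_dvd_nat
      (card_dvd_of_le inf_le_left)
    obtain ⟨c, hc, h, hh, rfl⟩ := Coprime.exists_eq_centralizer_mul_commutator hAY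
      (by rw [F.card_A, show (16 : ℕ) = 2 ^ 4 by norm_num]; exact (Nat.coprime_two_left.2 hYodd).pow_left 4)
      (Or.inr (Cfsg.Agent.S0205.result hYodd)) (show δ ∈ Y from ⟨hδ, hδE⟩)
    refine mul_mem (mem_sup_right ⟨F.mem_oddCentA hBal (fun a ha => (mem_centralizer_iff.1 hc.2 a ha).symm)
      (J2Type.Loc.odd_orderOf hYodd hc.1), hc.1.2⟩) (mem_sup_left (mem_dlt.2 fun e he he1 => ?_))
    exact F.weak_balance hBal (hD'D.trans (hDE.trans hE)) hD'4.ge (hE he) he1
      (le_inf (inf_le_left.trans (dlt_anti hD'D)) (fun y hy => mem_centralizer_singleton_iff.2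
        (mem_centralizer_iff.1 hy.2 e he).symm)) hAY hh

theorem odd_sup_oddCentA {a : G} (ha : a ∈ subA ρ) : Odd (Nat.card (oddCentA ρ ⊔ J2Type.Loc.core a : Subgroup G)) :=
  J2Type.Loc.odd_sup F.oddCentA_odd (J2Type.Loc.core_odd a) fun _ hf =>
    J2Type.Loc.core_normalizer (mem_centralizer_iff.1 hf.2 a ha).symm

/-- The join over the hyperplanes has odd order. -/
theorem wHyp_odd : Odd (Nat.card (wHyp ρ)) := by
  classical
  haveI : Fact (Nat.Prime 2) := ⟨Nat.prime_two⟩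
  have hA := F.A_elem
  have hfam := F.isFamily hBal
  set N : Subgroup G → Subgroup G := fun E => dlt E ⊔ oddCentA ρ ⊓ centralizer (E : Set G) with hN
  set θ : G → Subgroup G := fun a => ⨆ D : {D : Subgroup G // D ≤ subA ρ ∧ Nat.card ↥D = 2 ^ 2},
    N (D : Subgroup G) ⊓ centralizer {a} with hθ
  have hk : 2 ^ (2 + 2) ≤ Nat.card (subA ρ) := by rw [F.card_A]; norm_num
  have hK : ∀ a ∈ subA ρ, a ≠ 1 → θ a ≤ oddCentA ρ ⊔ J2Type.Loc.core a := fun a ha ha1 => iSup_le fun D x hx => by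
    have hE : (D : Subgroup G) ⊔ zpowers a ≤ subA ρ := sup_le D.2.1 (zpowers_le.2 ha)
    have hxE : x ∈ centralizer (((D : Subgroup G) ⊔ zpowers a : Subgroup G) : Set G) :=
      Components.KBalance.mem_centralizer_sup (hfam.le_centralizer D D.2.1 D.2.2.ge hx.1) (by
        rw [zpowers_eq_closure, centralizer_closure]; exact hx.2)
    refine (sup_le ?_ ?_ : N ((D : Subgroup G) ⊔ zpowers a) ≤ _) (hfam.compat D _ le_sup_left hE D.2.2.ge ⟨hx.1, hxE⟩)
    · exact (dlt_le (mem_sup_right (mem_zpowers a)) ha1).trans le_sup_right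
    · exact inf_le_left.trans le_sup_left
  have hodd : ∀ a ∈ subA ρ, a ≠ 1 → Odd (Nat.card (θ a)) := fun a ha ha1 =>
    (F.odd_sup_oddCentA hBal ha).of_dvd_nat (card_dvd_of_le (hK a ha ha1))
  have hp' : ∀ a ∈ subA ρ, a ≠ 1 → ¬ 2 ∣ Nat.card ↥(θ a) := fun a ha ha1 h =>
    Nat.not_even_iff_odd.2 (hodd a ha ha1) (even_iff_two_dvd.2 h)
  have hsolv : ∀ a ∈ subA ρ, a ≠ 1 → Group.IsSolvable ↥(θ a) := fun a ha ha1 =>
    Cfsg.Agent.S0205.result (hodd a ha ha1)
  have hcent : ∀ a ∈ subA ρ, subA ρ ≤ normalizer (centralizer ({a} : Set G) : Set G) := fun a ha =>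
    (F.A_le_cent ha).trans le_normalizer
  have hXn : ∀ a ∈ subA ρ, ∀ D : Subgroup G, D ≤ subA ρ →
      subA ρ ≤ normalizer ((N D ⊓ centralizer {a} : Subgroup G) : Set G) := fun a ha D hD =>
    (le_inf (hfam.le_norm D hD) (hcent a ha)).trans inf_normalizer_le_normalizer_inf
  have hAn : ∀ a ∈ subA ρ, subA ρ ≤ normalizer (θ a : Set G) := by
    intro a ha b hb
    rw [mem_normalizer_iff_map_conj_eq, hθ, Subgroup.map_iSup]
    exact iSup_congr fun D => mem_normalizer_iff_map_conj_eq.mp (hXn a ha D D.2.1 hb)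
  have hA2 : 2 ^ 2 ≤ Nat.card (subA ρ) := by rw [F.card_A]; norm_num
  have hsig : Cfsg.IsSolvableSignalizerFunctor 2 (subA ρ) θ := by
    refine ⟨⟨fun a _ _ => iSup_le fun D => inf_le_right, hp',
      fun a ha _ b hb x hx => (mem_normalizer_iff.mp (hAn a ha hb) x).mp hx, fun a ha ha1 b hb hb1 => ?_⟩, hsolv⟩
    have hgen : θ a ≤ ⨆ H : {H : Subgroup G // H ≤ subA ρ ∧ H.relIndex (subA ρ) = 2}, θ a ⊓ N H :=
      iSup_le fun D => (hfam.le_iSup hA hk D.2.1 D.2.2.ge inf_le_left (hXn a ha D D.2.1)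
        (fun h => hp' a ha ha1 (h.trans (card_dvd_of_le (le_iSup_of_le D le_rfl))))).trans
        (iSup_mono fun H => inf_le_inf_right _ (le_iSup_of_le D le_rfl))
    have hW : subA ρ ≤ normalizer ((θ a ⊓ centralizer {b} : Subgroup G) : Set G) :=
      (le_inf (hAn a ha) (hcent b hb)).trans inf_normalizer_le_normalizer_inf
    rw [Components.Hyperplane.eq_iSup_hyperplane (K := θ a ⊓ centralizer {b}) hA hA2
      (fun h => hp' a ha ha1 (h.trans (card_dvd_of_le inf_le_left))) hW]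
    refine iSup_le fun H x hx => ?_
    obtain ⟨D, hDH, -, hDc⟩ := Components.QuotientDelta.exists_card_eq
      (Components.Hyperplane.isElementaryAbelian_of_le hA H.2.1)
      (Components.KBalance.card_hyperplane hk H.2.1 H.2.2)
    have hxH : x ∈ N H := hfam.inf_centralizer_le hA hk (θ a) (hAn a ha) (hp' a ha ha1) (hsolv a ha ha1) hgen
      H.2.1 (Components.KBalance.card_hyperplane hk H.2.1 H.2.2) ⟨hx.1.1, hx.2⟩
    exact Subgroup.mem_iSup_of_mem (S := fun D : {D : Subgroup G // D ≤ subA ρ ∧ Nat.card ↥D = 2 ^ 2} =>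
      N (D : Subgroup G) ⊓ centralizer {b}) ⟨D, hDH.trans H.2.1, hDc⟩ ⟨hfam.anti D H hDH hxH, hx.1.2⟩
  have hmem := (SolvableSignalizer.iSup_mem Nat.prime_two hA (by rw [F.card_A]; norm_num) hsig).2.1
  have hle : wHyp ρ ≤ ⨆ a : {a : G // a ∈ subA ρ ∧ a ≠ 1}, θ (a : G) := by
    refine iSup_le fun H => ?_
    have h8 := Components.KBalance.card_hyperplane hk H.2.1 H.2.2
    obtain ⟨D, hDH, -, hDc⟩ := Components.QuotientDelta.exists_card_eq
      (Components.Hyperplane.isElementaryAbelian_of_le hA H.2.1) h8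
    haveI : Nontrivial ↥(H : Subgroup G) := Finite.one_lt_card_iff_nontrivial.1 (lt_of_lt_of_le (by norm_num) h8)
    obtain ⟨⟨e, he⟩, he1⟩ := exists_ne (1 : ↥(H : Subgroup G))
    refine le_iSup_of_le ⟨e, H.2.1 he, fun h => he1 (Subtype.ext h)⟩
      (le_iSup_of_le ⟨D, hDH.trans H.2.1, hDc⟩ (le_inf ((dlt_anti hDH).trans le_sup_left) fun x hx => ?_))
    exact mem_centralizer_singleton_iff.2 (mem_centralizer_iff.1 (dlt_le_cent _ hx) e he).symm
  exact ((Nat.not_even_iff_odd.1 fun he => hmem (even_iff_two_dvd.1 he))).of_dvd_nat (card_dvd_of_le hle)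

omit hBal in
theorem A_normalizes_wHyp : subA ρ ≤ normalizer (wHyp ρ : Set G) := fun a ha => by
  rw [mem_normalizer_iff_map_conj_eq, wHyp, Subgroup.map_iSup]
  exact iSup_congr fun H => mem_normalizer_iff_map_conj_eq.mp (F.A_normalizes_dlt H.2.1 ha)

omit hBal in
theorem oddCentA_normalizes_wHyp : oddCentA ρ ≤ normalizer (wHyp ρ : Set G) := fun a ha => by
  rw [mem_normalizer_iff_map_conj_eq, wHyp, Subgroup.map_iSup]
  exact iSup_congr fun H => mem_normalizer_iff_map_conj_eq.mp (F.oddCentA_normalizes H.2.1 ha)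

/-- The members over four-groups lie in the join times the odd part of `C(A)`. -/
theorem dlt_le_sup {B : Subgroup G} (hB : B ≤ subA ρ) (h4 : 4 ≤ Nat.card B) :
    dlt B ≤ wHyp ρ ⊔ oddCentA ρ := by
  haveI : Fact (Nat.Prime 2) := ⟨Nat.prime_two⟩
  have hfam := F.isFamily hBal
  refine (hfam.le_iSup F.A_elem (by rw [F.card_A]; norm_num) hB h4 (X := dlt B) le_sup_left
    (F.A_normalizes_dlt hB) fun h => ?_).trans
    (iSup_le fun H => inf_le_right.trans (sup_le
      ((le_iSup (fun H : {H : Subgroup G // H ≤ subA ρ ∧ H.relIndex (subA ρ) = 2} => dlt (H : Subgroup G)) H).trans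
        le_sup_left) (inf_le_left.trans le_sup_right)))
  exact Nat.not_even_iff_odd.2 (F.dlt_odd (E := B) (by omega)) (even_iff_two_dvd.2 h)

theorem commutator_dlt_le {B E : Subgroup G} (hB : B ≤ subA ρ) (h4 : 4 ≤ Nat.card B) (hE : E ≤ subA ρ) :
    ⁅dlt B, E⁆ ≤ wHyp ρ := commutator_le.2 fun x hx e he => by
  obtain ⟨f, hf, w, hw, rfl⟩ := J2Type.Loc.mem_sup_iff (T := oddCentA ρ) (F.oddCentA_normalizes_wHyp)
    (by rw [sup_comm]; exact F.dlt_le_sup hBal hB h4 hx)
  have hfe : e * f = f * e := mem_centralizer_iff.1 hf.2 e (hE he)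
  have he' := F.A_normalizes_wHyp (hE he)
  have h1 : w * e * w⁻¹ * e⁻¹ ∈ wHyp ρ := by
    rw [show w * e * w⁻¹ * e⁻¹ = w * (e * w⁻¹ * e⁻¹) by group]
    exact (wHyp ρ).mul_mem hw ((mem_normalizer_iff.1 he' _).1 ((wHyp ρ).inv_mem hw))
  have h2 := (mem_normalizer_iff.1 (F.oddCentA_normalizes_wHyp hf) _).1 h1
  rwa [show f * (w * e * w⁻¹ * e⁻¹) * f⁻¹ = f * w * e * w⁻¹ * (e⁻¹ * f⁻¹) by group,
    show e⁻¹ * f⁻¹ = f⁻¹ * e⁻¹ by rw [← mul_inv_rev, ← mul_inv_rev, hfe],
    show f * w * e * w⁻¹ * (f⁻¹ * e⁻¹) = ⁅f * w, e⁆ by rw [commutatorElement_def]; group] at h2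

/-- The centralizers of hyperplanes normalize the join. -/
theorem cent_hyperplane_le {E : Subgroup G} (hE : E ≤ subA ρ) (hE2 : E.relIndex (subA ρ) = 2) :
    centralizer (E : Set G) ≤ normalizer (wHyp ρ : Set G) := by
  classical
  haveI : Fact (Nat.Prime 2) := ⟨Nat.prime_two⟩
  have hk : 2 ^ (2 + 2) ≤ Nat.card (subA ρ) := by rw [F.card_A]; norm_num
  set W := dlt E ⊔ ⨆ B : {B : Subgroup G // B ≤ E ∧ 4 ≤ Nat.card B}, ⁅dlt (B : Subgroup G), E⁆ with hW
  have h1 : W ≤ wHyp ρ := sup_le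
    (le_iSup (fun H : {H : Subgroup G // H ≤ subA ρ ∧ H.relIndex (subA ρ) = 2} => dlt (H : Subgroup G))
      ⟨E, hE, hE2⟩)
    (iSup_le fun B => F.commutator_dlt_le hBal (B.2.1.trans hE) B.2.2 hE)
  have h2 : wHyp ρ ≤ W := iSup_le fun H x hx => by
    have hB4 := Components.KBalance.card_le_of_hyperplane hk H.2.1 H.2.2 hE2
    have hEX : E ≤ normalizer ((dlt (H : Subgroup G)) : Set G) := hE.trans (F.A_normalizes_dlt H.2.1)
    have hH8 := Components.KBalance.card_hyperplane hk H.2.1 H.2.2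
    have hodd := F.dlt_odd (E := H) (le_trans (by norm_num) hH8)
    have hcop : (Nat.card E).Coprime (Nat.card (dlt (H : Subgroup G))) := by
      obtain ⟨c, hc⟩ := (F.A_p.to_le hE).exists_card_eq
      rw [hc]
      exact (Nat.coprime_two_left.2 hodd).pow_left c
    obtain ⟨c, hc, h, hh, rfl⟩ := Coprime.exists_eq_centralizer_mul_commutator hEX hcop
      (Or.inr (Cfsg.Agent.S0205.result hodd)) hx
    refine mul_mem (mem_sup_left (mem_dlt.2 fun e he he1 => ?_)) (mem_sup_right (mem_iSup_of_mem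
      (⟨(H : Subgroup G) ⊓ E, inf_le_right, hB4⟩ : {B : Subgroup G // B ≤ E ∧ 4 ≤ Nat.card B})
      (commutator_mono (dlt_anti inf_le_left) le_rfl hh)))
    have hH8' : 8 ≤ Nat.card ↥(H : Subgroup G) := by
      have h := relIndex_mul_relIndex (⊥ : Subgroup G) H (subA ρ) bot_le H.2.1
      rw [relIndex_bot_left, relIndex_bot_left, H.2.2, F.card_A] at h
      omega
    exact F.balance_three hBal H.2.1 hH8' (hE he) he1
      ⟨hc.1, mem_centralizer_singleton_iff.2 (mem_centralizer_iff.1 hc.2 e he).symm⟩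
  intro g hg
  refine mem_normalizer_of_maps fun x hx => h1 ?_
  have hfix : ∀ e ∈ E, g⁻¹ * e * g = e := fun e he => by
    rw [mul_assoc, mem_centralizer_iff.1 hg e he, inv_mul_cancel_left]
  have hle : W ≤ W.comap (MulAut.conj g).toMonoidHom := sup_le
    (fun y hy => mem_sup_left (dlt_conj (fun e he => (hfix e he).symm ▸ he) hy))
    (iSup_le fun B => by
      rw [← map_le_iff_le_comap, map_commutator]
      refine le_trans (commutator_mono ?_ ?_) ((le_iSup (fun B : {B : Subgroup G // B ≤ E ∧ 4 ≤ Nat.card B} =>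
        ⁅dlt (B : Subgroup G), E⁆) B).trans le_sup_right)
      · rintro _ ⟨y, hy, rfl⟩
        exact dlt_conj (fun e he => (hfix e (B.2.1 he)).symm ▸ he) hy
      · rintro _ ⟨e, he, rfl⟩
        show (MulAut.conj g) e ∈ E
        rwa [MulAut.conj_apply, ← mem_centralizer_iff.1 hg e he, mul_inv_cancel_right])
  exact hle (h2 hx)

/-- An odd subgroup normalized by `A` normalizes the join. -/
theorem inv_le_normalizer {X : Subgroup G} (hodd : Odd (Nat.card X)) (hAX : subA ρ ≤ normalizer (X : Set G)) :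
    X ≤ normalizer (wHyp ρ : Set G) := by
  haveI : Fact (Nat.Prime 2) := ⟨Nat.prime_two⟩
  rw [Components.Hyperplane.eq_iSup_hyperplane F.A_elem (K := X) (by rw [F.card_A]; norm_num)
    (fun h => Nat.not_even_iff_odd.2 hodd (even_iff_two_dvd.2 h)) hAX]
  exact iSup_le fun H => inf_le_right.trans (F.cent_hyperplane_le hBal H.2.1 H.2.2)

omit hBal in
theorem normalizer_le_wHyp : normalizer (subA ρ : Set G) ≤ normalizer (wHyp ρ : Set G) := fun g hg => by
  refine mem_normalizer_of_maps fun x hx => ?_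
  have hle : wHyp ρ ≤ (wHyp ρ).comap (MulAut.conj g).toMonoidHom := iSup_le fun H y hy => by
    have hle' : (H : Subgroup G).map (MulAut.conj g).toMonoidHom ≤ subA ρ := by
      rintro _ ⟨a, ha, rfl⟩
      exact (mem_normalizer_iff.1 hg a).1 (H.2.1 ha)
    have hidx : ((H : Subgroup G).map (MulAut.conj g).toMonoidHom).relIndex (subA ρ) = 2 := by
      have e := Subgroup.relIndex_map_map_of_injective (f := (MulAut.conj g).toMonoidHom) (H : Subgroup G) (subA ρ)
        (MulAut.conj g).injective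
      have hfix : (subA ρ).map (MulAut.conj g).toMonoidHom = subA ρ := mem_normalizer_iff_map_conj_eq.1 hg
      rw [hfix] at e
      exact e.trans H.2.2
    refine mem_iSup_of_mem ⟨_, hle', hidx⟩ (mem_dlt.2 ?_)
    rintro _ ⟨a, ha, rfl⟩ ha1
    exact J2Type.Loc.core_map (dlt_le ha (fun h => ha1 (by rw [h, map_one])) hy)
  exact hle hx

/-- The odd elements of `C(z) ∩ C(r)`, for `r` and `r z` conjugate to `z`, commute with `A` modulo the join. -/
theorem comm_core {r : G} (hr : r ∈ subA ρ) (hr1 : r ≠ 1) (hrz : r ≠ ρ 4) (hc : IsConj (ρ 4) r)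
    (hcz : IsConj (ρ 4) (r * ρ 4)) {x a : G} (hx : x ∈ J2Type.Loc.core (ρ 4)) (hxr : x * r = r * x)
    (ha : a ∈ subA ρ) : x * a * x⁻¹ * a⁻¹ ∈ wHyp ρ := by
  classical
  haveI : Fact (Nat.Prime 2) := ⟨Nat.prime_two⟩
  set X := J2Type.Loc.core (ρ 4) ⊓ centralizer ({r} : Set G) with hX
  have hXo : Odd (Nat.card X) := (J2Type.Loc.core_odd _).of_dvd_nat (card_dvd_of_le inf_le_left)
  have hAX : subA ρ ≤ normalizer (X : Set G) := (le_inf (fun b hb => J2Type.Loc.core_normalizer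
    (F.A_comm hb F.z_mem_A)) ((F.A_le_cent hr).trans le_normalizer)).trans inf_normalizer_le_normalizer_inf
  have hXW : X ≤ normalizer (wHyp ρ : Set G) := F.inv_le_normalizer hBal hXo hAX
  let Y : Subgroup G :=
    { carrier := {y | y ∈ normalizer (wHyp ρ : Set G) ∧ ∀ b ∈ subA ρ, y * b * y⁻¹ * b⁻¹ ∈ wHyp ρ}
      one_mem' := ⟨one_mem _, fun b _ => by
        rw [one_mul, inv_one, mul_one, mul_inv_cancel]; exact one_mem _⟩
      mul_mem' := fun {y w} hy hw => ⟨mul_mem hy.1 hw.1, fun b hb => by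
        rw [show y * w * b * (y * w)⁻¹ * b⁻¹ = y * (w * b * w⁻¹ * b⁻¹) * y⁻¹ * (y * b * y⁻¹ * b⁻¹) by group]
        exact mul_mem ((mem_normalizer_iff.1 hy.1 _).1 (hw.2 b hb)) (hy.2 b hb)⟩
      inv_mem' := fun {y} hy => ⟨(normalizer (wHyp ρ : Set G)).inv_mem hy.1, fun b hb => by
        have h := (mem_normalizer_iff''.1 hy.1 _).1 ((wHyp ρ).inv_mem (hy.2 b hb))
        rwa [show y⁻¹ * (y * b * y⁻¹ * b⁻¹)⁻¹ * y = y⁻¹ * b * y⁻¹⁻¹ * b⁻¹ by group] at h⟩ }
  suffices hXY : X ≤ Y by exact (hXY ⟨hx, mem_centralizer_singleton_iff.2 hxr⟩).2 a ha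
  rw [Components.Hyperplane.eq_iSup_hyperplane F.A_elem (K := X) (by rw [F.card_A]; norm_num)
    (fun h => Nat.not_even_iff_odd.2 hXo (even_iff_two_dvd.2 h)) hAX]
  refine iSup_le fun H y hy => ⟨hXW hy.1, fun b hb => ?_⟩
  have hyH : ∀ h ∈ (H : Subgroup G), h * y = y * h := fun h hh => mem_centralizer_iff.1 hy.2 h hh
  have hyz : ρ 4 * y = y * ρ 4 := (mem_centralizer_singleton_iff.1 (J2Type.Loc.core_le _ hy.1.1)).symm
  have hyr : r * y = y * r := (mem_centralizer_singleton_iff.1 hy.1.2).symm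
  have hyo : Odd (orderOf y) := J2Type.Loc.odd_orderOf hXo hy.1
  have hH8 : 8 ≤ Nat.card ↥(H : Subgroup G) := by
      have h := relIndex_mul_relIndex (⊥ : Subgroup G) H (subA ρ) bot_le H.2.1
      rw [relIndex_bot_left, relIndex_bot_left, H.2.2, F.card_A] at h
      omega
  by_cases hzr : ρ 4 ∈ (H : Subgroup G) ∧ r ∈ (H : Subgroup G)
  swap
  · -- then `y` centralizes `A`
    have hall : ∀ e ∈ subA ρ, e * y = y * e := by
      obtain ⟨s, hs, hsH, hys⟩ : ∃ s, s ∈ subA ρ ∧ s ∉ (H : Subgroup G) ∧ s * y = y * s := by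
        rcases not_and_or.1 hzr with h | h
        exacts [⟨_, F.z_mem_A, h, hyz⟩, ⟨_, hr, h, hyr⟩]
      intro e he
      by_cases heH : e ∈ (H : Subgroup G)
      · exact hyH e heH
      have hse : s * e ∈ (H : Subgroup G) :=
        ((mul_mem_iff_of_index_two (H := (H : Subgroup G).subgroupOf (subA ρ)) H.2.2
          (a := ⟨s, hs⟩) (b := ⟨e, he⟩)).2 (iff_of_false hsH heH))
      have : Commute (s * (s * e)) y := (show Commute s y from hys).mul_left (hyH _ hse)
      rwa [← mul_assoc, F.A_sq hs, one_mul] at this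
    rw [← hall b hb, mul_inv_cancel_right, mul_inv_cancel]
    exact one_mem _
  obtain ⟨hzH, hrH⟩ := hzr
  refine mem_iSup_of_mem H (mem_dlt.2 fun e he he1 => ?_)
  have hAe : ∀ {w}, w ∈ J2Type.Loc.core e → ∀ {c}, c ∈ subA ρ → c * w * c⁻¹ ∈ J2Type.Loc.core e :=
    fun hw _ hc => J2Type.Loc.core_conj_mem (F.A_comm hc (H.2.1 he)) hw
  rcases hBal.all e (H.2.1 he) he1 with hbal | ⟨D, hD⟩
  · set K := X ⊓ centralizer ((H : Subgroup G) : Set G)
    have hAK : subA ρ ≤ normalizer (K : Set G) := (le_inf hAX (fun c hc => le_normalizer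
      (mem_centralizer_iff.2 fun h hh => F.A_comm (H.2.1 hh) hc))).trans inf_normalizer_le_normalizer_inf
    have hy' := hbal K (fun k hk => mem_centralizer_singleton_iff.2 (mem_centralizer_iff.1 hk.2 e he).symm)
      (hXo.of_dvd_nat (card_dvd_of_le inf_le_left)) hAK hy
    have := (J2Type.Loc.core e).mul_mem hy' (hAe ((J2Type.Loc.core e).inv_mem hy') hb)
    rwa [show y * (b * y⁻¹ * b⁻¹) = y * b * y⁻¹ * b⁻¹ by group] at this
  obtain ⟨d, hdD, hdH⟩ : ∃ d ∈ D, d ∉ (H : Subgroup G) := by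
    by_contra hcon
    push Not at hcon
    -- two four-groups of `H`, one of them with conjugates of `z` only
    set V := zpowers (ρ 4) ⊔ zpowers r
    have hVH : V ≤ (H : Subgroup G) := sup_le (zpowers_le.2 hzH) (zpowers_le.2 hrH)
    have hVm : ∀ v ∈ V, v = 1 ∨ v = ρ 4 ∨ v = r ∨ v = r * ρ 4 := by
      intro v hv
      obtain ⟨s, ⟨i, rfl⟩, t, ⟨j, rfl⟩, rfl⟩ := J2Type.Loc.mem_sup_iff
        (T := zpowers (ρ 4)) (D := zpowers r)
        ((zpowers_le.2 (mem_centralizer_iff.2 fun w hw => by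
          obtain ⟨k, rfl⟩ := hw
          exact (Commute.zpow_left (F.A_comm hr F.z_mem_A) k).eq) : zpowers (ρ 4) ≤ centralizer (zpowers r : Set G)).trans
          (centralizer_le_normalizer _)) hv
      have hinv : ∀ {w : G}, w * w = 1 → ∀ k : ℤ, w ^ k = 1 ∨ w ^ k = w := fun {w} hw k => by
        rcases Int.even_or_odd k with ⟨m, rfl⟩ | ⟨m, rfl⟩
        · left; rw [← two_mul, zpow_mul, zpow_two, hw, one_zpow]
        · right; rw [zpow_add, zpow_mul, zpow_two, hw, one_zpow, one_mul, zpow_one]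
      rcases hinv (F.A_sq F.z_mem_A) i with h1 | h1 <;> rcases hinv (F.A_sq hr) j with h2 | h2
      · left; show ρ 4 ^ i * r ^ j = 1; rw [h1, h2, one_mul]
      · right; right; left; show ρ 4 ^ i * r ^ j = r; rw [h1, h2, one_mul]
      · right; left; show ρ 4 ^ i * r ^ j = ρ 4; rw [h1, h2, mul_one]
      · right; right; right; show ρ 4 ^ i * r ^ j = r * ρ 4; rw [h1, h2, F.A_comm F.z_mem_A hr]
    have hV4 : 4 ≤ Nat.card V := by
      have h2 : Nat.card (zpowers (ρ 4)) = 2 := by rw [Nat.card_zpowers, F.order_z]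
      obtain ⟨k, hk⟩ := (F.A_p.to_le (hVH.trans H.2.1)).exists_card_eq
      have hlt : 2 < Nat.card V := by
        rw [← h2]
        refine lt_of_le_of_ne (Subgroup.card_le_of_le le_sup_left) fun e' => ?_
        have h := (eq_of_le_of_card_ge (le_sup_left : zpowers (ρ 4) ≤ V) e'.ge).ge
          (mem_sup_right (mem_zpowers r))
        obtain ⟨i, hi⟩ := h
        rcases Int.even_or_odd i with ⟨m, rfl⟩ | ⟨m, rfl⟩
        · exact hr1 (hi.symm.trans (by show ρ 4 ^ (m + m) = 1; rw [← two_mul, zpow_mul, zpow_two, F.A_sq F.z_mem_A, one_zpow]))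
        · exact hrz (hi.symm.trans (by
            show ρ 4 ^ (2 * m + 1) = ρ 4
            rw [zpow_add, zpow_mul, zpow_two, F.A_sq F.z_mem_A, one_zpow, one_mul, zpow_one]))
      rw [hk] at hlt ⊢
      have h3 : 1 < k := (Nat.pow_lt_pow_iff_right (show 1 < 2 by norm_num)).1 (by simpa using hlt)
      exact le_trans (by norm_num) (Nat.pow_le_pow_right (by norm_num) (show 2 ≤ k by omega))
    have hdis : ∀ d ∈ D, d ∈ V → d = 1 := fun d hd hdV => by
      by_contra hd1
      rcases hVm d hdV with h | h | h | h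
      · exact hd1 h
      · exact hD.pure d hd hd1 (h ▸ IsConj.refl _)
      · exact hD.pure d hd hd1 (h ▸ hc)
      · exact hD.pure d hd hd1 (h ▸ hcz)
    have hcard := (F.card_mul_of_disjoint (hVH.trans H.2.1) hD.le hdis).2
      (by rw [hD.card]; omega)
    have hAH : subA ρ ≤ (H : Subgroup G) := fun w hw => by
      obtain ⟨v, hv, d, hd, rfl⟩ := hcard w hw
      exact mul_mem (hVH hv) (hcon d hd)
    have := H.2.2
    rw [relIndex_eq_one.2 hAH] at this
    omega
  have hy_e : y * e = e * y := (hyH e he).symm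
  have hcom := hD.odd d hdD y hy_e hyo
  by_cases hbH : b ∈ (H : Subgroup G)
  · rw [← hyH b hbH, mul_inv_cancel_right, mul_inv_cancel]
    exact one_mem _
  have hdb : b * d ∈ (H : Subgroup G) :=
    ((mul_mem_iff_of_index_two (H := (H : Subgroup G).subgroupOf (subA ρ)) H.2.2
      (a := ⟨b, hb⟩) (b := ⟨d, hD.le hdD⟩)).2 (iff_of_false hbH hdH))
  set h := b * d
  have hbd : b = h * d := by simp only [h]; rw [mul_assoc, F.A_sq (hD.le hdD), mul_one]
  have h1 := hAe ((J2Type.Loc.core e).inv_mem hcom) (H.2.1 hdb)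
  rw [hbd]
  rwa [show h * (d * y * d⁻¹ * y⁻¹)⁻¹ * h⁻¹ = h * y * d * y⁻¹ * d⁻¹ * h⁻¹ by group, hyH h hdb,
    show y * h * d * y⁻¹ * d⁻¹ * h⁻¹ = y * (h * d) * y⁻¹ * (h * d)⁻¹ by group] at h1

end Syl

end Cfsg.Agent.A8Type
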