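import Cfsg.Agent.Lib.A8Type.Model

/-!
A Sylow 2-subgroup isomorphic to that of the alternating group of degree eight, by codes.
-/

set_option autoImplicit false
set_option linter.style.haveILetI false
set_option linter.unusedSectionVars false

namespace Cfsg.Agent.A8Type

open Subgroup
open Cfsg.Agent.A8Type.Model

universe u v

variable {G : Type u} [Group G]

/-- `S` is the image of the 64 codes. -/
structure Syl (S : Subgroup G) (ρ : ℕ → G) : Prop where
  mem : ∀ a ∈ sL, ρ a ∈ S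
  mul_eq : ∀ a ∈ sL, ∀ b ∈ sL, ρ (Model.mul a b) = ρ a * ρ b
  inj : ∀ a ∈ sL, ∀ b ∈ sL, ρ a = ρ b → a = b
  surj : ∀ s ∈ S, ∃ a ∈ sL, ρ a = s

/-- The subgroup of a list of codes. -/
def sub (ρ : ℕ → G) (L : List ℕ) : Subgroup G := Subgroup.closure (ρ '' {a | a ∈ L})

/-- The elementary abelian subgroup of order 16. -/
def subA (ρ : ℕ → G) : Subgroup G := sub ρ aL

/-- The extraspecial subgroup of order 32. -/
def subQ (ρ : ℕ → G) : Subgroup G := sub ρ qL

/-- Their intersection. -/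
def subT (ρ : ℕ → G) : Subgroup G := sub ρ tL

theorem mem_sub_of_mem {ρ : ℕ → G} {L : List ℕ} {a : ℕ} (ha : a ∈ L) : ρ a ∈ sub ρ L :=
  subset_closure ⟨a, ha, rfl⟩

theorem zero_sL : (0 : ℕ) ∈ sL := List.mem_range.2 (by norm_num)

theorem lists : (∀ L ∈ [aL, qL, tL], 0 ∈ L ∧ L.Nodup ∧ (∀ a ∈ L, a ∈ sL) ∧ (∀ a ∈ L, Model.inv a ∈ L) ∧
    ∀ a ∈ L, ∀ b ∈ L, Model.mul a b ∈ L) ∧ aL.length = 16 ∧ qL.length = 32 := by decide +kernel

theorem center_codes : ∀ a ∈ sL, (∀ b ∈ sL, Model.mul a b = Model.mul b a) → a = 0 ∨ a = 4 := by decide +kernel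

namespace Syl

variable {S : Subgroup G} {ρ : ℕ → G} (F : Syl S ρ)

include F

theorem zero : ρ 0 = 1 := by
  have h := F.mul_eq 0 zero_sL 0 zero_sL
  rw [(unit_laws 0 zero_sL).1] at h
  exact mul_eq_left.1 h.symm

theorem inv_eq {a : ℕ} (ha : a ∈ sL) : ρ (Model.inv a) = (ρ a)⁻¹ := by
  refine eq_inv_of_mul_eq_one_right ?_
  rw [← F.mul_eq a ha _ (inv_mem a ha), (unit_laws a ha).2.2.1, F.zero]

theorem cj_eq {g a : ℕ} (hg : g ∈ sL) (ha : a ∈ sL) : ρ (Model.cj g a) = ρ g * ρ a * (ρ g)⁻¹ := by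
  rw [Model.cj, F.mul_eq _ (closed g hg a ha) _ (inv_mem g hg), F.mul_eq g hg a ha, F.inv_eq hg]

theorem comm {a b : ℕ} (ha : a ∈ sL) (hb : b ∈ sL) :
    ρ a * ρ b = ρ b * ρ a ↔ Model.mul a b = Model.mul b a := by
  rw [← F.mul_eq a ha b hb, ← F.mul_eq b hb a ha]
  exact ⟨F.inj _ (closed a ha b hb) _ (closed b hb a ha), fun h => by rw [h]⟩

theorem eq_one {a : ℕ} (ha : a ∈ sL) : ρ a = 1 ↔ a = 0 :=
  ⟨fun h => F.inj a ha 0 zero_sL (h.trans F.zero.symm), fun h => h ▸ F.zero⟩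

theorem sq_one {a : ℕ} (ha : a ∈ sL) : ρ a * ρ a = 1 ↔ Model.mul a a = 0 := by
  rw [← F.mul_eq a ha a ha, F.eq_one (closed a ha a ha)]

theorem orderOf_two {a : ℕ} (ha : a ∈ sL) (h : Model.mul a a = 0) (h0 : a ≠ 0) : orderOf (ρ a) = 2 :=
  orderOf_eq_prime (by rw [pow_two, F.sq_one ha, h]) fun e => h0 ((F.eq_one ha).1 e)

theorem mem_sub {L : List ℕ} (hL : L ∈ [aL, qL, tL]) {x : G} : x ∈ sub ρ L ↔ ∃ a ∈ L, ρ a = x := by
  obtain ⟨h0, -, hs, hi, hm⟩ := lists.1 L hL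
  refine ⟨fun hx => ?_, fun ⟨a, ha, e⟩ => e ▸ mem_sub_of_mem ha⟩
  induction hx using Subgroup.closure_induction with
  | mem y hy => exact hy
  | one => exact ⟨0, h0, F.zero⟩
  | mul y w _ _ ihy ihw =>
    obtain ⟨a, ha, rfl⟩ := ihy
    obtain ⟨b, hb, rfl⟩ := ihw
    exact ⟨_, hm a ha b hb, F.mul_eq a (hs a ha) b (hs b hb)⟩
  | inv y _ ihy =>
    obtain ⟨a, ha, rfl⟩ := ihy
    exact ⟨_, hi a ha, F.inv_eq (hs a ha)⟩

theorem card_sub {L : List ℕ} (hL : L ∈ [aL, qL, tL]) : Nat.card (sub ρ L) = L.length := by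
  classical
  obtain ⟨-, hn, hs, -, -⟩ := lists.1 L hL
  rw [← List.toFinset_card_of_nodup hn, ← Nat.card_eq_finsetCard]
  refine (Nat.card_eq_of_bijective
    (fun a : L.toFinset => (⟨ρ a.1, mem_sub_of_mem (List.mem_toFinset.1 a.2)⟩ : sub ρ L))
    ⟨fun a b e => Subtype.ext ?_, fun x => ?_⟩).symm
  · exact F.inj _ (hs _ (List.mem_toFinset.1 a.2)) _ (hs _ (List.mem_toFinset.1 b.2)) (congrArg Subtype.val e)
  · obtain ⟨a, ha, e⟩ := (F.mem_sub hL).1 x.2
    exact ⟨⟨a, List.mem_toFinset.2 ha⟩, Subtype.ext e⟩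

theorem mem_A {x : G} : x ∈ subA ρ ↔ ∃ a ∈ aL, ρ a = x := F.mem_sub (by simp)

theorem mem_Q {x : G} : x ∈ subQ ρ ↔ ∃ a ∈ qL, ρ a = x := F.mem_sub (by simp)

theorem mem_T {x : G} : x ∈ subT ρ ↔ ∃ a ∈ tL, ρ a = x := F.mem_sub (by simp)

theorem card_A : Nat.card (subA ρ) = 16 := (F.card_sub (by simp)).trans lists.2.1

theorem card_Q : Nat.card (subQ ρ) = 32 := (F.card_sub (by simp)).trans lists.2.2

theorem card_T : Nat.card (subT ρ) = 8 := (F.card_sub (by simp)).trans rfl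

theorem card_eq : Nat.card S = 64 := by
  classical
  rw [← Nat.card_fin 64]
  refine (Nat.card_eq_of_bijective (fun a : Fin 64 => (⟨ρ a, F.mem a (List.mem_range.2 a.2)⟩ : S))
    ⟨fun a b e => Fin.ext ?_, fun x => ?_⟩).symm
  · exact F.inj _ (List.mem_range.2 a.2) _ (List.mem_range.2 b.2) (congrArg Subtype.val e)
  · obtain ⟨a, ha, e⟩ := F.surj x.1 x.2
    exact ⟨⟨a, List.mem_range.1 ha⟩, Subtype.ext e⟩

/-- The central involution is the code 4. -/
theorem eq_z {z : G} (hz : orderOf z = 2) (hzS : z ∈ S) (hzc : ∀ s ∈ S, s * z = z * s) : z = ρ 4 := by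
  obtain ⟨a, ha, rfl⟩ := F.surj z hzS
  rcases center_codes a ha fun b hb => (F.comm ha hb).1 (hzc _ (F.mem b hb)).symm with rfl | rfl
  · rw [F.zero, orderOf_one] at hz
    omega
  · rfl

omit F in
/-- Transport along an isomorphism. -/
theorem map {H : Type v} [Group H] {T : Subgroup H} {σ : ℕ → H} (F' : Syl T σ) (e : T ≃* S) :
    ∃ ρ' : ℕ → G, Syl S ρ' := by
  classical
  refine ⟨fun a => if h : a ∈ sL then (e ⟨σ a, F'.mem a h⟩ : G) else 1, ⟨fun a ha => ?_, fun a ha b hb => ?_,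
    fun a ha b hb h => ?_, fun s hs => ?_⟩⟩
  · simp only [dif_pos ha]
    exact SetLike.coe_mem _
  · simp only [dif_pos ha, dif_pos hb, dif_pos (closed a ha b hb)]
    rw [← Subgroup.coe_mul, ← map_mul]
    exact congrArg (fun t : T => (e t : G)) (Subtype.ext (F'.mul_eq a ha b hb))
  · simp only [dif_pos ha, dif_pos hb] at h
    exact F'.inj a ha b hb (congrArg Subtype.val (e.injective (Subtype.ext h)))
  · obtain ⟨a, ha, h⟩ := F'.surj _ (e.symm ⟨s, hs⟩).2
    refine ⟨a, ha, ?_⟩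
    simp only [dif_pos ha]
    rw [show (⟨σ a, F'.mem a ha⟩ : T) = e.symm ⟨s, hs⟩ from Subtype.ext h, MulEquiv.apply_symm_apply]

end Syl

/-! ### The model in the alternating group of degree eight -/

/-- The permutation of a code. -/
def perm (a : Fin 64) : Equiv.Perm (Fin 8) where
  toFun i := ⟨img a i, Nat.mod_lt _ (by norm_num)⟩
  invFun i := ⟨img (Model.inv a) i, Nat.mod_lt _ (by norm_num)⟩
  left_inv i := by
    refine Fin.ext ?_
    have ha : (a : ℕ) ∈ sL := List.mem_range.2 a.2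
    show img (Model.inv a) (img a i) = i
    rw [← img_mul _ (inv_mem _ ha) _ ha i (List.mem_range.2 i.2), (unit_laws _ ha).2.2.2]
    exact img_one _ (List.mem_range.2 i.2)
  right_inv i := by
    refine Fin.ext ?_
    have ha : (a : ℕ) ∈ sL := List.mem_range.2 a.2
    show img a (img (Model.inv a) i) = i
    rw [← img_mul _ ha _ (inv_mem _ ha) i (List.mem_range.2 i.2), (unit_laws _ ha).2.2.1]
    exact img_one _ (List.mem_range.2 i.2)

theorem perm_sign : ∀ a : Fin 64, Equiv.Perm.sign (perm a) = 1 := by decide +kernel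

/-- The code of a number below 64. -/
def permN (a : ℕ) : ↥(alternatingGroup (Fin 8)) :=
  if h : a < 64 then ⟨perm ⟨a, h⟩, Equiv.Perm.mem_alternatingGroup.2 (perm_sign _)⟩ else 1

theorem permN_apply {a : ℕ} (ha : a ∈ sL) (i : Fin 8) :
    (((permN a : Equiv.Perm (Fin 8)) i : Fin 8) : ℕ) = img a i := by
  rw [permN, dif_pos (List.mem_range.1 ha)]
  rfl

theorem exists_model : ∃ P : Sylow 2 ↥(alternatingGroup (Fin 8)),
    Syl (P : Subgroup ↥(alternatingGroup (Fin 8))) permN := by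
  classical
  haveI : Fact (Nat.Prime 2) := ⟨Nat.prime_two⟩
  have hmul : ∀ a ∈ sL, ∀ b ∈ sL, permN (Model.mul a b) = permN a * permN b := by
    intro a ha b hb
    refine Subtype.ext (Equiv.ext fun i => Fin.ext ?_)
    rw [permN_apply (closed a ha b hb), Subgroup.coe_mul, Equiv.Perm.mul_apply, permN_apply ha,
      permN_apply hb, img_mul a ha b hb i (List.mem_range.2 i.2)]
  have hinj : ∀ a ∈ sL, ∀ b ∈ sL, permN a = permN b → a = b := fun a ha b hb h =>
    img_inj a ha b hb fun i hi => by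
      rw [← permN_apply ha ⟨i, List.mem_range.1 hi⟩, ← permN_apply hb ⟨i, List.mem_range.1 hi⟩, h]
  have h0 : permN 0 = 1 := by
    have h := hmul 0 zero_sL 0 zero_sL
    rw [(unit_laws 0 zero_sL).1] at h
    exact mul_eq_left.1 h.symm
  let K : Subgroup ↥(alternatingGroup (Fin 8)) :=
    { carrier := {g | ∃ a ∈ sL, permN a = g}
      one_mem' := ⟨0, zero_sL, h0⟩
      mul_mem' := by
        rintro _ _ ⟨a, ha, rfl⟩ ⟨b, hb, rfl⟩
        exact ⟨_, closed a ha b hb, hmul a ha b hb⟩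
      inv_mem' := by
        rintro _ ⟨a, ha, rfl⟩
        refine ⟨Model.inv a, inv_mem a ha, eq_inv_of_mul_eq_one_right ?_⟩
        rw [← hmul a ha _ (inv_mem a ha), (unit_laws a ha).2.2.1, h0] }
  have F : Syl K permN := ⟨fun a ha => ⟨a, ha, rfl⟩, hmul, hinj, fun _ hs => hs⟩
  have h8 : Nat.card ↥(alternatingGroup (Fin 8)) = 2 ^ 6 * 315 := by
    have h := two_mul_card_alternatingGroup (α := Fin 8)
    rw [Fintype.card_perm, Fintype.card_fin, show Nat.factorial 8 = 40320 from rfl,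
      ← Nat.card_eq_fintype_card] at h
    omega
  refine ⟨Sylow.ofCard K ?_, ?_⟩
  · rw [F.card_eq, h8, Nat.factorization_mul (by norm_num) (by norm_num), Finsupp.add_apply,
      Nat.Prime.factorization_pow Nat.prime_two, Finsupp.single_eq_same,
      Nat.factorization_eq_zero_of_not_dvd (by norm_num)]
    norm_num
  · rw [Sylow.coe_ofCard]
    exact F

/-- Codes on a subgroup isomorphic to a Sylow 2-subgroup of the alternating group of degree eight. -/
theorem exists_syl {S : Subgroup G}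
    (hS : ∀ P : Sylow 2 ↥(alternatingGroup (Fin 8)),
      Nonempty (↥S ≃* ↥(P : Subgroup ↥(alternatingGroup (Fin 8))))) : ∃ ρ : ℕ → G, Syl S ρ := by
  obtain ⟨P, F⟩ := exists_model
  obtain ⟨e⟩ := hS P
  exact Syl.map F e.symm

end Cfsg.Agent.A8Type
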